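import Mathlib.RingTheory.Idempotents
import Mathlib.LinearAlgebra.FreeModule.Finite.Matrix
import Mathlib.LinearAlgebra.Dimension.Constructions
import Mathlib.RingTheory.RootsOfUnity.PrimitiveRoots
import Mathlib.Algebra.Field.GeomSum
import Mathlib.LinearAlgebra.FiniteDimensional.Defs

/-!
# Blocks of an operator of finite order

* `eigenIdem γ ζ j`: the idempotent of the eigenvalue `ζ ^ j` of `γ` with `γ ^ b = 1`;
* `finrank_commutant`: the operators commuting with a complete orthogonal family of idempotents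
  form a space of dimension `∑ d i ^ 2`, where `∑ d i` is the dimension of the space.
-/

set_option autoImplicit false

namespace Cfsg.Agent.TurullHeight

open Finset

section Eigen

variable {k B : Type*} [Field k] [Ring B] [Algebra k B]

/-- The idempotent of the eigenvalue `ζ ^ j` of `γ`. -/
noncomputable def eigenIdem (b : ℕ) (γ : B) (ζ : k) (j : Fin b) : B :=
  (b : k)⁻¹ • ∑ i : Fin b, (((ζ ^ (j : ℕ))⁻¹) • γ) ^ (i : ℕ)

variable {b : ℕ} {γ : B} {ζ : k}

theorem commute_eigenIdem {z : B} (h : Commute z γ) (j : Fin b) :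
    Commute z (eigenIdem b γ ζ j) :=
  (Commute.sum_right _ _ _ fun i _ => (h.smul_right _).pow_right _).smul_right _

theorem mul_eigenIdem (hγ : γ ^ b = 1) (hζ : IsPrimitiveRoot ζ b) (j : Fin b) :
    γ * eigenIdem b γ ζ j = ζ ^ (j : ℕ) • eigenIdem b γ ζ j := by
  have hb : b ≠ 0 := fun h => by subst h; exact j.elim0
  have hj : ζ ^ (j : ℕ) ≠ 0 := pow_ne_zero _ (hζ.ne_zero hb)
  set u := (ζ ^ (j : ℕ))⁻¹ • γ with hu
  have hub : u ^ b = 1 := by
    rw [hu, smul_pow, hγ, inv_pow, ← pow_mul, mul_comm, pow_mul, hζ.pow_eq_one, one_pow, inv_one,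
      one_smul]
  set S := ∑ i : Fin b, u ^ (i : ℕ) with hS
  have hS' : S = ∑ i ∈ range b, u ^ i := Fin.sum_univ_eq_sum_range _ b
  have h0 : (u - 1) * S = 0 := by
    rw [hS', mul_geom_sum, hub, sub_self]
  rw [sub_mul, one_mul, sub_eq_zero] at h0
  have hγu : γ = ζ ^ (j : ℕ) • u := by rw [hu, smul_smul, mul_inv_cancel₀ hj, one_smul]
  rw [eigenIdem, ← hu, ← hS, mul_smul_comm, smul_comm (ζ ^ (j : ℕ))]
  congr 1
  conv_lhs => rw [hγu]
  rw [smul_mul_assoc, h0]

theorem pow_mul_eigenIdem (hγ : γ ^ b = 1) (hζ : IsPrimitiveRoot ζ b) (j : Fin b) (i : ℕ) :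
    γ ^ i * eigenIdem b γ ζ j = (ζ ^ (j : ℕ)) ^ i • eigenIdem b γ ζ j := by
  induction i with
  | zero => rw [pow_zero, pow_zero, one_mul, one_smul]
  | succ i ih =>
    rw [pow_succ, mul_assoc, mul_eigenIdem hγ hζ, mul_smul_comm, ih, smul_smul, pow_succ,
      mul_comm]

theorem eigenIdem_mul_eigenIdem (hγ : γ ^ b = 1) (hζ : IsPrimitiveRoot ζ b) (hbk : (b : k) ≠ 0)
    (j l : Fin b) :
    eigenIdem b γ ζ j * eigenIdem b γ ζ l = if j = l then eigenIdem b γ ζ j else 0 := by
  have hb : b ≠ 0 := fun h => by subst h; exact j.elim0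
  set q := (ζ ^ (j : ℕ))⁻¹ * ζ ^ (l : ℕ) with hq
  have h : eigenIdem b γ ζ j * eigenIdem b γ ζ l =
      ((b : k)⁻¹ * ∑ i : Fin b, q ^ (i : ℕ)) • eigenIdem b γ ζ l := by
    conv_lhs => rw [eigenIdem]
    rw [smul_mul_assoc, sum_mul, mul_smul, sum_smul]
    congr 1
    refine sum_congr rfl fun i _ => ?_
    rw [smul_pow, smul_mul_assoc, pow_mul_eigenIdem hγ hζ, smul_smul, hq, mul_pow]
  by_cases hjl : j = l
  · subst hjl
    have : q = 1 := by rw [hq, inv_mul_cancel₀ (pow_ne_zero _ (hζ.ne_zero hb))]
    rw [if_pos rfl, h, this]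
    simp only [one_pow, sum_const, card_univ, Fintype.card_fin, nsmul_eq_mul, mul_one]
    rw [inv_mul_cancel₀ hbk, one_smul]
  · rw [if_neg hjl, h]
    have hq1 : q ≠ 1 := fun h1 => hjl (Fin.ext (hζ.pow_inj j.2 l.2 (by
      rwa [hq, inv_mul_eq_iff_eq_mul₀ (pow_ne_zero _ (hζ.ne_zero hb)), mul_one, eq_comm] at h1)))
    have hqb : q ^ b = 1 := by
      rw [hq, mul_pow, inv_pow, ← pow_mul, ← pow_mul, mul_comm (j : ℕ), mul_comm (l : ℕ), pow_mul,
        pow_mul, hζ.pow_eq_one, one_pow, one_pow, inv_one, one_mul]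
    rw [Fin.sum_univ_eq_sum_range (fun i => q ^ i) b, geom_sum_eq hq1, hqb, sub_self, zero_div,
      mul_zero, zero_smul]

theorem sum_eigenIdem (hζ : IsPrimitiveRoot ζ b) (hb : b ≠ 0) (hbk : (b : k) ≠ 0) :
    ∑ j : Fin b, eigenIdem b γ ζ j = 1 := by
  simp only [eigenIdem, ← smul_sum]
  rw [sum_comm]
  have h : ∀ i : Fin b, ∑ j : Fin b, ((ζ ^ (j : ℕ))⁻¹ • γ) ^ (i : ℕ) =
      if (i : ℕ) = 0 then (b : k) • (1 : B) else 0 := by
    intro i
    simp only [smul_pow, ← sum_smul]
    by_cases hi : (i : ℕ) = 0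
    · rw [if_pos hi, hi]
      simp only [pow_zero, sum_const, card_univ, Fintype.card_fin, nsmul_eq_mul, mul_one]
    · rw [if_neg hi]
      have hw : (ζ⁻¹) ^ (i : ℕ) ≠ 1 := fun h1 => hi (by
        rw [inv_pow, inv_eq_one, hζ.pow_eq_one_iff_dvd] at h1
        exact Nat.eq_zero_of_dvd_of_lt h1 i.2)
      have : ∑ j : Fin b, ((ζ ^ (j : ℕ))⁻¹) ^ (i : ℕ) = ∑ j ∈ range b, ((ζ⁻¹) ^ (i : ℕ)) ^ j := by
        rw [← Fin.sum_univ_eq_sum_range]
        refine sum_congr rfl fun j _ => ?_
        rw [← inv_pow, ← pow_mul, ← pow_mul, mul_comm]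
      rw [this, geom_sum_eq hw, ← pow_mul, mul_comm (i : ℕ), pow_mul, inv_pow ζ b, hζ.pow_eq_one,
        inv_one, one_pow, sub_self, zero_div, zero_smul]
  simp only [h]
  rw [sum_eq_single (⟨0, Nat.pos_of_ne_zero hb⟩ : Fin b), if_pos rfl, smul_smul,
    inv_mul_cancel₀ hbk, one_smul]
  · exact fun i _ hi => if_neg fun h0 => hi (Fin.ext h0)
  · exact fun h0 => absurd (mem_univ _) h0

theorem completeOrthogonalIdempotents_eigenIdem (hγ : γ ^ b = 1) (hζ : IsPrimitiveRoot ζ b)
    (hb : b ≠ 0) (hbk : (b : k) ≠ 0) : CompleteOrthogonalIdempotents (eigenIdem b γ ζ) where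
  idem j := by
    show _ * _ = _
    rw [eigenIdem_mul_eigenIdem hγ hζ hbk, if_pos rfl]
  ortho j l hjl := by
    show _ * _ = 0
    rw [eigenIdem_mul_eigenIdem hγ hζ hbk, if_neg hjl]
  complete := sum_eigenIdem hζ hb hbk

theorem eq_sum_eigenIdem (hγ : γ ^ b = 1) (hζ : IsPrimitiveRoot ζ b) (hb : b ≠ 0)
    (hbk : (b : k) ≠ 0) : γ = ∑ j : Fin b, ζ ^ (j : ℕ) • eigenIdem b γ ζ j := by
  conv_lhs => rw [← mul_one γ, ← sum_eigenIdem (γ := γ) hζ hb hbk, mul_sum]
  exact sum_congr rfl fun j _ => mul_eigenIdem hγ hζ j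

end Eigen

section Prod

variable {B ι κ : Type*} [Ring B] [Fintype ι] [Fintype κ] {e : ι → B} {f : κ → B}

/-- The products of two commuting complete orthogonal families. -/
theorem completeOrthogonalIdempotents_mul (he : CompleteOrthogonalIdempotents e)
    (hf : CompleteOrthogonalIdempotents f) (hc : ∀ i j, Commute (e i) (f j)) :
    CompleteOrthogonalIdempotents fun q : ι × κ => e q.1 * f q.2 where
  idem q := by
    show _ * _ = _
    rw [(hc q.1 q.2).symm.mul_mul_mul_comm (e q.1) (f q.2), (he.idem _).eq, (hf.idem _).eq]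
  ortho q q' hne := by
    show _ * _ = 0
    rw [(hc q'.1 q.2).symm.mul_mul_mul_comm (e q.1) (f q'.2)]
    by_cases h : q.1 = q'.1
    · rw [hf.ortho fun h2 => hne (Prod.ext h h2), mul_zero]
    · rw [he.ortho h, zero_mul]
  complete := by
    rw [Fintype.sum_prod_type]
    simp only [← mul_sum, hf.complete, mul_one, he.complete]

end Prod

section Commutant

variable {k V : Type*} [Field k] [AddCommGroup V] [Module k V] {ι : Type*}

/-- The operators commuting with a family. -/
def commutant (e : ι → Module.End k V) : Submodule k (Module.End k V) where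
  carrier := {z | ∀ i, Commute z (e i)}
  add_mem' := fun hz hw i => (hz i).add_left (hw i)
  zero_mem' := fun i => Commute.zero_left _
  smul_mem' := fun c _ hz i => (hz i).smul_left c

theorem mem_commutant {e : ι → Module.End k V} {z : Module.End k V} :
    z ∈ commutant e ↔ ∀ i, Commute z (e i) := Iff.rfl

variable [Fintype ι] [FiniteDimensional k V] {e : ι → Module.End k V}

theorem apply_range_of_idem (he : CompleteOrthogonalIdempotents e) (i : ι)
    (x : LinearMap.range (e i)) : e i x = x := by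
  obtain ⟨y, hy⟩ := x.2
  rw [← hy, ← Module.End.mul_apply, (he.idem i).eq]

theorem apply_range_of_ne (he : CompleteOrthogonalIdempotents e) {i j : ι} (h : i ≠ j)
    (x : LinearMap.range (e j)) : e i x = 0 := by
  obtain ⟨y, hy⟩ := x.2
  rw [← hy, ← Module.End.mul_apply, he.ortho h, LinearMap.zero_apply]

theorem finrank_range_sum (he : CompleteOrthogonalIdempotents e) :
    ∑ i, Module.finrank k (LinearMap.range (e i)) = Module.finrank k V := by
  classical
  rw [← Module.finrank_pi_fintype (R := k) (M := fun i => LinearMap.range (e i))]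
  refine (LinearEquiv.finrank_eq ?_).symm
  refine
    { toFun := fun x i => ⟨e i x, LinearMap.mem_range_self _ x⟩
      map_add' := fun x y => funext fun i => Subtype.ext (map_add (e i) x y)
      map_smul' := fun c x => funext fun i => Subtype.ext (map_smul (e i) c x)
      invFun := fun f => ∑ i, (f i : V)
      left_inv := fun x => ?_
      right_inv := fun f => funext fun i => Subtype.ext ?_ }
  · have := congrArg (fun z : Module.End k V => z x) he.complete
    simpa using this
  · show e i (∑ j, (f j : V)) = f i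
    rw [map_sum, sum_eq_single i (fun j _ hj => apply_range_of_ne he (Ne.symm hj) (f j))
      (fun h => absurd (mem_univ _) h), apply_range_of_idem he]

/-- The dimension of the commutant. -/
theorem finrank_commutant (he : CompleteOrthogonalIdempotents e) :
    Module.finrank k (commutant e) = ∑ i, Module.finrank k (LinearMap.range (e i)) ^ 2 := by
  classical
  have h : ∀ i, Module.finrank k (LinearMap.range (e i)) ^ 2 =
      Module.finrank k (Module.End k (LinearMap.range (e i))) := fun i => by
    rw [Module.finrank_linearMap, sq]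
  simp only [h]
  rw [← Module.finrank_pi_fintype (R := k) (M := fun i => Module.End k (LinearMap.range (e i)))]
  refine LinearEquiv.finrank_eq
    { toFun := fun z i => z.1.restrict (p := LinearMap.range (e i)) (q := LinearMap.range (e i))
        fun x hx => ?_
      map_add' := fun z w => funext fun i => LinearMap.ext fun x => Subtype.ext rfl
      map_smul' := fun c z => funext fun i => LinearMap.ext fun x => Subtype.ext rfl
      invFun := fun f => ⟨∑ i, (LinearMap.range (e i)).subtype ∘ₗ f i ∘ₗ (e i).rangeRestrict, ?_⟩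
      left_inv := fun z => ?_
      right_inv := fun f => funext fun i => LinearMap.ext fun x => Subtype.ext ?_ }
  · obtain ⟨y, rfl⟩ := hx
    exact ⟨z.1 y, (LinearMap.congr_fun (z.2 i).eq y).symm⟩
  · intro j
    refine LinearMap.ext fun x => ?_
    simp only [Module.End.mul_apply, LinearMap.sum_apply, LinearMap.comp_apply,
      Submodule.coe_subtype, map_sum]
    refine sum_congr rfl fun i _ => ?_
    have harg : (e i).rangeRestrict (e j x) = if i = j then (e i).rangeRestrict x else 0 := by
      refine Subtype.ext ?_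
      show e i (e j x) = _
      by_cases hij : i = j
      · subst hij
        rw [if_pos rfl, ← Module.End.mul_apply, (he.idem i).eq]; rfl
      · rw [if_neg hij, ← Module.End.mul_apply, he.ortho hij]; rfl
    rw [harg]
    by_cases hij : i = j
    · subst hij
      rw [if_pos rfl, apply_range_of_idem he]
    · rw [if_neg hij, map_zero, apply_range_of_ne he (Ne.symm hij)]; rfl
  · refine Subtype.ext (LinearMap.ext fun x => ?_)
    simp only [LinearMap.sum_apply, LinearMap.comp_apply, Submodule.coe_subtype]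
    have := congrArg (fun w : Module.End k V => z.1 (w x)) he.complete
    simpa using this
  · show (∑ j, (LinearMap.range (e j)).subtype ∘ₗ f j ∘ₗ (e j).rangeRestrict) x = f i x
    simp only [LinearMap.sum_apply, LinearMap.comp_apply, Submodule.coe_subtype]
    rw [sum_eq_single i (fun j _ hj => ?_) (fun h => absurd (mem_univ _) h)]
    · congr 2
      exact Subtype.ext (apply_range_of_idem he i x)
    · have : (e j).rangeRestrict (x : V) = 0 := Subtype.ext (apply_range_of_ne he hj x)
      rw [this, map_zero]; rfl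

end Commutant

end Cfsg.Agent.TurullHeight
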