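import Cfsg.Agent.Lib.TurullHeight.Twist

/-!
# Multiplicities of a frame with an operator of prime order

Without fixed vectors the index is `(r - 1) ^ 2` and a commuting operator of period prime to `r`
moves no class. An operator fixing the fixed vectors and permuting the classes freely with period
prime to `r` has period `2`, and only one block meets the fixed vectors.
-/

set_option autoImplicit false

namespace Cfsg.Agent.TurullHeight

open Finset Module
open FittingHeight (scalarSub)

variable {k : Type*} [Field k]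

section Idem

variable {V : Type*} [AddCommGroup V] [Module k V]

/-- An idempotent below `e` commuting with `e End e` is `0` or `e`. -/
theorem idem_eq_of_commute {e g : Module.End k V} (he : IsIdempotentElem e)
    (hg : IsIdempotentElem g) (hge : g * e = g) (heg : e * g = g)
    (h : ∀ z, Commute g (e * z * e)) : g = 0 ∨ g = e := by
  by_contra hh
  push Not at hh
  obtain ⟨h0, h1⟩ := hh
  obtain ⟨v, hv⟩ : ∃ v, (e - g) v ≠ 0 := by
    by_contra hc
    push Not at hc
    exact h1 (sub_eq_zero.1 (LinearMap.ext hc)).symm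
  obtain ⟨φ, hφ⟩ : ∃ φ : V →ₗ[k] k, φ ((e - g) v) ≠ 0 := by
    by_contra hc
    push Not at hc
    exact hv ((Module.forall_dual_apply_eq_zero_iff k _).1 hc)
  refine h0 (LinearMap.ext fun y => ?_)
  have key : g * φ.smulRight y * (e - g) = 0 := by
    calc g * φ.smulRight y * (e - g) = g * (e * φ.smulRight y * e) * (e - g) := by
          rw [← mul_assoc g, ← mul_assoc g, hge, mul_assoc (g * φ.smulRight y) e,
            mul_sub e, he.eq, heg]
      _ = e * φ.smulRight y * (e * (g * (e - g))) := by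
          rw [(h (φ.smulRight y)).eq]; simp only [mul_assoc]
      _ = 0 := by rw [mul_sub g, hge, hg.eq, sub_self, mul_zero, mul_zero]
  have := LinearMap.congr_fun key v
  rw [Module.End.mul_apply, Module.End.mul_apply, LinearMap.smulRight_apply, map_smul,
    LinearMap.zero_apply, smul_eq_zero] at this
  rw [this.resolve_left hφ, LinearMap.zero_apply]

/-- If `e z e` is always a multiple of `e ≠ 0`, the rank of `e` is one. -/
theorem finrank_range_eq_one [FiniteDimensional k V] {e : Module.End k V}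
    (he : IsIdempotentElem e) (hne : e ≠ 0) (h : ∀ z, ∃ a : k, e * z * e = a • e) :
    finrank k (LinearMap.range e) = 1 := by
  obtain ⟨v, hv⟩ : ∃ v, e v ≠ 0 := by
    by_contra hc
    push Not at hc
    exact hne (LinearMap.ext hc)
  obtain ⟨φ, hφ⟩ : ∃ φ : V →ₗ[k] k, φ (e v) ≠ 0 := by
    by_contra hc
    push Not at hc
    exact hv ((Module.forall_dual_apply_eq_zero_iff k _).1 hc)
  have hr : LinearMap.range e = k ∙ (e v) := by
    refine le_antisymm ?_ ((Submodule.span_singleton_le_iff_mem _ _).2 ⟨v, rfl⟩)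
    rintro _ ⟨x, rfl⟩
    obtain ⟨a, ha⟩ := h (φ.smulRight x)
    have h1 := LinearMap.congr_fun ha v
    rw [Module.End.mul_apply, Module.End.mul_apply, LinearMap.smulRight_apply, map_smul,
      LinearMap.smul_apply] at h1
    refine Submodule.mem_span_singleton.2 ⟨(φ (e v))⁻¹ * a, ?_⟩
    rw [← smul_smul, ← h1, smul_smul, inv_mul_cancel₀ hφ, one_smul]
  rw [hr, finrank_span_singleton hv]

/-- If the rank of an idempotent is one, `e z e` is a multiple of `e`. -/
theorem exists_smul_of_rank_one [FiniteDimensional k V] {e : Module.End k V}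
    (he : IsIdempotentElem e) (h : finrank k (LinearMap.range e) = 1) (z : Module.End k V) :
    ∃ a : k, e * z * e = a • e := by
  obtain ⟨v, hv, hspan⟩ := finrank_eq_one_iff'.1 h
  obtain ⟨a, ha⟩ := hspan ⟨e (z v), LinearMap.mem_range_self e _⟩
  refine ⟨a, LinearMap.ext fun x => ?_⟩
  obtain ⟨b, hb⟩ := hspan ⟨e x, LinearMap.mem_range_self e _⟩
  have hb' : b • (v : V) = e x := congrArg Subtype.val hb
  have ha' : a • (v : V) = e (z v) := congrArg Subtype.val ha
  rw [Module.End.mul_apply, Module.End.mul_apply, LinearMap.smul_apply, ← hb', map_smul, map_smul,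
    ← ha', smul_comm]

/-- A nilpotent operator on a space of dimension at most two squares to zero. -/
theorem sq_eq_zero_of_finrank_le_two [FiniteDimensional k V] (h : finrank k V ≤ 2)
    {N : Module.End k V} {n : ℕ} (hN : N ^ n = 0) : N * N = 0 := by
  refine LinearMap.ext fun x => ?_
  have h1 : x ∈ LinearMap.ker (N ^ finrank k V) :=
    Module.End.ker_pow_le_ker_pow_finrank N n (by rw [hN]; rfl)
  rw [LinearMap.mem_ker] at h1
  rw [LinearMap.zero_apply, ← sq, ← Nat.sub_add_cancel h, pow_add, Module.End.mul_apply, h1,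
    map_zero]

theorem sum_range_mul (T : Module.End k V) (r s : ℕ) :
    ∑ i ∈ range (r * s), T ^ i = (∑ l ∈ range s, (T ^ r) ^ l) * ∑ i ∈ range r, T ^ i := by
  induction s with
  | zero => simp
  | succ s ih =>
    rw [Nat.mul_succ, sum_range_add, ih, sum_range_succ, add_mul, mul_sum (a := (T ^ r) ^ s)]
    congr 1
    exact sum_congr rfl fun i _ => by rw [← pow_mul, ← pow_add]

/-- An automorphism of the full algebra preserves traces. -/
theorem trace_algEquiv [FiniteDimensional k V] (φ : Module.End k V ≃ₐ[k] Module.End k V)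
    (w : Module.End k V) : LinearMap.trace k V (φ w) = LinearMap.trace k V w := by
  obtain ⟨T, hT⟩ := AlgEquiv.eq_linearEquivConjAlgEquiv φ
  rw [hT]
  exact LinearMap.trace_conj' w T

end Idem

variable {W : Type*} [AddCommGroup W] [Module k W] [Nontrivial W] [IsAlgClosed k]
  [FiniteDimensional k W] {Q : Type*} [Group Q] [Finite Q] {π : Q →* Module.End k W} {r : ℕ}
  {c : Setup π r}

namespace Split

variable (S : Split c)

theorem ψ_pow : S.ψ.toLinearMap ^ r = 1 := by
  refine S.F.ext_u fun x => ?_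
  rw [Twist.ψ_pow_u, Module.End.one_apply]
  apply S.F.ι_inj
  rw [S.F.ι_u, S.F.ι_u]
  exact c.apply_eq_of_mk_eq (c.intertwines.pow r) (by rw [c.A_pow, one_mul, mul_one])
    c.mk_alpha_pow_r x

/-- Without fixed vectors the multiplicities are one, but one which is zero. -/
theorem dims_of_no_fixed (hne : ∃ x, x ∉ scalarSub π)
    (hnf : ∀ x, (c.A : Module.End k W) x = x → x = 0) :
    S.F.m + 1 = r ∧ ∃ j₀, S.d j₀ = 0 ∧ ∀ i, i ≠ j₀ → S.d i = 1 := by
  obtain ⟨i, hi⟩ : ∃ i, S.f i ≠ 0 := by
    by_contra h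
    push Not at h
    obtain ⟨x, hx⟩ := exists_ne (0 : W)
    exact hx (by rw [← S.sum_f_apply x]; simp [h])
  have hr := c.hr.pos
  let j : Fin r := ⟨(r - i) % r, Nat.mod_lt _ hr⟩
  have hji : S.ζ ^ ((j : ℕ) + i) = 1 := by
    rw [show (j : ℕ) = (r - i) % r from rfl]
    rw [S.ζ_prim.pow_eq_one_iff_dvd, Nat.dvd_iff_mod_eq_zero, Nat.mod_add_mod,
      Nat.sub_add_cancel i.2.le, Nat.mod_self]
  have hj : S.d j = 0 := by
    rw [S.d_eq_zero_iff]
    by_contra h
    obtain ⟨x, hx, hne'⟩ := S.supp_of h hi hji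
    exact hne' (by rw [hnf x hx, map_zero])
  have hm := S.two_le_m hne
  have hsum := S.sum_d
  obtain ⟨j₀, t, ht, hj₀⟩ := S.exists_dims
  have hsum' : S.d j₀ + (r - 1) * t = S.F.m := by
    rw [← hsum, ← add_sum_erase univ S.d (mem_univ j₀),
      sum_congr rfl fun i hi => ht i (ne_of_mem_erase hi), sum_const, card_erase_of_mem (mem_univ _),
      card_univ, Fintype.card_fin, smul_eq_mul]
  by_cases hjj : j = j₀
  · subst hjj
    rcases hj₀ with h | h
    · omega
    · obtain rfl : t = 1 := by omega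
      refine ⟨by have := c.hr.one_le; omega, j, hj, ht⟩
  · have h0 : t = 0 := by rw [← ht j hjj, hj]
    subst h0
    rcases hj₀ with h | h <;> omega

/-- Without fixed vectors, a commuting operator of period prime to `r` moves no class. -/
theorem mk_eq_of_no_fixed (hne : ∃ x, x ∉ scalarSub π)
    (hnf : ∀ x, (c.A : Module.End k W) x = x → x = 0) {B : (Module.End k W)ˣ} {β : MulAut Q}
    (T : Twist S B β) {L : ℕ} (hL : ¬ r ∣ L)
    (hβL : ∀ x, (((β ^ L) x : Q) : Q ⧸ scalarSub π) = x) (x : Q) :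
    ((β x : Q) : Q ⧸ scalarSub π) = x := by
  obtain ⟨-, j₀, hj₀, hone⟩ := S.dims_of_no_fixed hne hnf
  obtain ⟨a, ha, haγ⟩ := T.exists_smul
  have : NeZero r := ⟨c.hr.ne_zero⟩
  obtain ⟨l, hl, hla⟩ := S.ζ_prim.eq_pow_of_pow_eq_one ha
  -- `φ` shifts the idempotents
  let j₁ : Fin r := ⟨((j₀ : ℕ) + (r - l)) % r, Nat.mod_lt _ c.hr.pos⟩
  have hmap : T.φ (S.e j₀) = S.e j₁ := by
    simp only [e, eigenIdem, map_smul, map_sum, map_pow, haγ, smul_smul]
    refine congrArg _ (sum_congr rfl fun i _ => ?_)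
    congr 1
    have h1 : S.ζ ^ (j₁ : ℕ) * a = S.ζ ^ (j₀ : ℕ) := by
      rw [← hla, ← pow_add, pow_eq_pow_mod _ S.ζ_prim.pow_eq_one]
      congr 1
      show (((j₀ : ℕ) + (r - l)) % r + l) % r = j₀
      rw [Nat.mod_add_mod, show (j₀ : ℕ) + (r - l) + l = j₀ + r by omega, Nat.add_mod_right,
        Nat.mod_eq_of_lt j₀.2]
    have ha0 : a ≠ 0 := by rw [← hla]; exact pow_ne_zero _ (S.ζ_prim.ne_zero c.hr.ne_zero)
    rw [← h1, mul_inv, mul_assoc, inv_mul_cancel₀ ha0, mul_one]
  have h01 : j₁ = j₀ := by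
    by_contra h
    have h1 := hone j₁ h
    rw [(S.d_eq_zero_iff _)] at hj₀
    rw [hj₀, map_zero] at hmap
    rw [(S.d_eq_zero_iff _).2 hmap.symm] at h1
    exact zero_ne_one h1
  have hl0 : l = 0 := by
    have h1 : ((j₀ : ℕ) + (r - l)) % r = j₀ := congrArg Fin.val h01
    by_contra h
    have hr := c.hr.pos
    have := j₀.2
    rcases Nat.lt_or_ge ((j₀ : ℕ) + (r - l)) r with h2 | h2
    · rw [Nat.mod_eq_of_lt h2] at h1; omega
    · rw [Nat.mod_eq_sub_mod h2, Nat.mod_eq_of_lt (by omega)] at h1; omega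
  have hγ : T.φ S.γ = S.γ := by rw [haγ, ← hla, hl0, pow_zero, one_smul]
  refine T.mk_eq_of_fixes S.ψ_pow (fun z hz => ?_) hL hβL x
  have hzc : ∀ i, Commute z (S.e i) := by
    have := (S.F.ker_eq_commutant c.hr.ne_zero c.r_ne S.ζ_prim S.γ_pow S.γ_ψ).le
      (show z ∈ LinearMap.ker (S.ψ.toLinearMap - 1) by
        rw [LinearMap.mem_ker, LinearMap.sub_apply, Module.End.one_apply, sub_eq_zero]; exact hz)
    exact this
  have hz2 : z = ∑ i, S.e i * z * S.e i := by
    conv_lhs => rw [← mul_one z, ← S.he.complete, mul_sum]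
    refine sum_congr rfl fun i _ => ?_
    rw [← (hzc i).eq, mul_assoc, (S.he.idem i).eq]
  rw [hz2, map_sum]
  refine sum_congr rfl fun i _ => ?_
  by_cases hi : i = j₀
  · rw [(S.d_eq_zero_iff i).1 (hi ▸ hj₀), zero_mul, zero_mul, map_zero]
  · obtain ⟨b, hb⟩ := exists_smul_of_rank_one (S.he.idem i) (hone i hi) z
    rw [hb, map_smul, T.φ_e hγ]

/-- Only one block meets the fixed vectors, and the others are non-zero. -/
def Unique : Prop := ∃ j, S.Supp j ∧ ∀ i, i ≠ j → S.d i ≠ 0 ∧ ¬ S.Supp i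

variable {B : (Module.End k W)ˣ} {β : MulAut Q} (T : Twist S B β)

include T

theorem commute_φ_ψ : Commute S.ψ.toLinearMap T.φ.toLinearMap :=
  LinearMap.ext fun z => (T.φ_ψ z).symm

theorem prod_pow_eq_one {b : ℕ} (hβb : ∀ x, (((β ^ b) x : Q) : Q ⧸ scalarSub π) = x) :
    (T.φ.trans S.ψ).toLinearMap ^ (r * b) = 1 := by
  rw [show (T.φ.trans S.ψ).toLinearMap = S.ψ.toLinearMap * T.φ.toLinearMap from rfl,
    (S.commute_φ_ψ T).mul_pow, pow_mul, S.ψ_pow, one_pow, one_mul, mul_comm, pow_mul,
    T.φ_pow_eq_one hβb, one_pow]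

/-- `A B` permutes the classes freely. -/
theorem prod_free {b : ℕ} (hb : b ≠ 0) (hbr : ¬ r ∣ b)
    (hβb : ∀ x, (((β ^ b) x : Q) : Q ⧸ scalarSub π) = x)
    (hfree : ∀ x, x ∉ scalarSub π → ∀ i, 0 < i → i < b → x⁻¹ * (β ^ i) x ∉ scalarSub π)
    (x : Q) (hx : x ∉ scalarSub π) (i : ℕ) (h0 : 0 < i) (hi : i < r * b) :
    x⁻¹ * ((c.α * β) ^ i) x ∉ scalarSub π := by
  intro h
  have hint := c.intertwines.mul T.intertwines
  have hsame : ∀ (n : ℕ) y, ((((c.α * β) ^ n) y : Q) : Q ⧸ scalarSub π) =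
      ((c.α ^ n) ((β ^ n) y) : Q) := by
    intro n y
    have h1 := hint.pow n
    rw [(show Commute c.A B from T.comm.symm).mul_pow] at h1
    have h2 := h1.eq_of_unit_eq ((c.intertwines.pow n).mul (T.intertwines.pow n)) y
    rw [QuotientGroup.eq]
    exact ⟨1, by rw [map_mul, ← MulAut.mul_apply, ← h2, ← map_mul, inv_mul_cancel, map_one, one_smul]⟩
  have hβ : ∀ n y, (((β ^ (b * n)) y : Q) : Q ⧸ scalarSub π) = y := fun n y => by
    rw [pow_mul]
    exact (T.intertwines.pow b).mk_iterate (hβb y) n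
  have hfix : (((c.α * β) ^ i) x : Q ⧸ scalarSub π) = x := (QuotientGroup.eq.2 h).symm
  have h1 : (((c.α ^ (i * b)) x : Q) : Q ⧸ scalarSub π) = x := by
    have h2 := (hint.pow i).mk_iterate hfix b
    rw [← pow_mul, hsame, mul_comm i b] at h2
    rw [mul_comm i b]
    exact ((c.intertwines.pow _).congr (hβ i x)).symm.trans h2
  have hri : r ∣ i := (c.hr.dvd_mul.1 (c.dvd_of_mk_alpha_pow hx h1)).resolve_right hbr
  obtain ⟨n, rfl⟩ := hri
  rw [hsame, c.mk_alpha_pow_mul] at hfix
  have hnb : ¬ b ∣ r * n := fun hd => by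
    have hcop : b.Coprime r := (c.hr.coprime_iff_not_dvd.2 hbr).symm
    have := Nat.le_of_dvd (Nat.pos_of_ne_zero fun h => by simp [h] at h0) (hcop.dvd_of_dvd_mul_left hd)
    exact absurd (Nat.mul_le_mul_left r this) (not_le.2 hi)
  refine hfree x hx (r * n % b) (Nat.pos_of_ne_zero fun h => hnb (Nat.dvd_of_mod_eq_zero h))
    (Nat.mod_lt _ (Nat.pos_of_ne_zero hb)) (QuotientGroup.eq.1 ?_)
  conv_lhs => rw [← hfix, ← Nat.mod_add_div (r * n) b, pow_add, MulAut.mul_apply]
  exact (T.intertwines.pow _).congr (hβ _ x)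

variable (hfix : ∀ x, (c.A : Module.End k W) x = x → (B : Module.End k W) x = x)

include hfix

/-- Semisimple case: the period is two. -/
theorem free_semisimple (hne : ∃ x, x ∉ scalarSub π) (hex : ∃ j, S.Supp j) {b : ℕ} (hb : 2 ≤ b)
    (hbr : ¬ r ∣ b) (hbk : (b : k) ≠ 0)
    (hβb : ∀ x, (((β ^ b) x : Q) : Q ⧸ scalarSub π) = x)
    (hfree : ∀ x, x ∉ scalarSub π → ∀ i, 0 < i → i < b → x⁻¹ * (β ^ i) x ∉ scalarSub π) :
    b = 2 ∧ S.Unique := by
  classical
  obtain ⟨j, hj⟩ := hex
  have hγ := T.φ_γ hfix hj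
  have hb0 : b ≠ 0 := by omega
  have hφb := T.φ_pow_eq_one hβb
  obtain ⟨δ, hδ, hδφ⟩ := S.F.exists_implement T.φ hb0 fun z => by rw [hφb]; rfl
  have : NeZero (b : k) := ⟨hbk⟩
  obtain ⟨η, hη⟩ := HasEnoughRootsOfUnity.exists_primitiveRoot k b
  have hδγ : Commute δ S.γ := by
    show δ * S.γ = S.γ * δ
    rw [hδφ, hγ]
  let f' : Fin b → Module.End k (Fin S.F.m → k) := eigenIdem b δ η
  have hf' := completeOrthogonalIdempotents_eigenIdem hδ hη hb0 hbk
  have hc : ∀ i l, Commute (S.e i) (f' l) := fun i l =>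
    commute_eigenIdem (commute_eigenIdem hδγ i).symm l
  let g : Fin r × Fin b → Module.End k (Fin S.F.m → k) := fun q => S.e q.1 * f' q.2
  have hg : CompleteOrthogonalIdempotents g := completeOrthogonalIdempotents_mul S.he hf' hc
  have hfsum : ∀ i, S.e i = ∑ l, g (i, l) := fun i => by
    show S.e i = ∑ l, S.e i * f' l
    rw [← mul_sum, show ∑ l, f' l = 1 from hf'.complete, mul_one]
  have hker : LinearMap.ker ((T.φ.trans S.ψ).toLinearMap - 1) = commutant g := by
    ext z
    rw [LinearMap.mem_ker, LinearMap.sub_apply, Module.End.one_apply, sub_eq_zero, mem_commutant]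
    constructor
    · intro hz
      have hP : ∀ n, ((T.φ.trans S.ψ).toLinearMap ^ n) z = z := fun n => by
        induction n with
        | zero => rfl
        | succ n ih => rw [pow_succ', Module.End.mul_apply, ih, hz]
      have h1 : ∀ n, (S.ψ.toLinearMap ^ (b * n)) z = z := fun n => by
        have := hP (b * n)
        rw [show (T.φ.trans S.ψ).toLinearMap = S.ψ.toLinearMap * T.φ.toLinearMap from rfl,
          (S.commute_φ_ψ T).mul_pow, pow_mul T.φ.toLinearMap, hφb, one_pow, mul_one] at this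
        exact this
      obtain ⟨n, hn⟩ := Nat.exists_mul_mod_eq_one_of_coprime
        ((c.hr.coprime_iff_not_dvd.2 hbr).symm) c.hr.one_lt
      have hψ : S.ψ z = z := by
        have := h1 n
        rw [← Nat.div_add_mod (b * n) r, hn.2, pow_add, pow_mul, S.ψ_pow, one_pow, one_mul,
          pow_one] at this
        exact this
      have hφ : T.φ z = z := by
        have h3 : T.φ z = S.ψ (T.φ z) := by rw [← T.φ_ψ, hψ]
        exact h3.trans hz
      intro q
      have he : ∀ i, Commute z (S.e i) :=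
        (S.F.ker_eq_commutant c.hr.ne_zero c.r_ne S.ζ_prim S.γ_pow S.γ_ψ).le
          (show z ∈ LinearMap.ker (S.ψ.toLinearMap - 1) by
            rw [LinearMap.mem_ker, LinearMap.sub_apply, Module.End.one_apply, sub_eq_zero]
            exact hψ)
      have hf : ∀ l, Commute z (f' l) :=
        (S.F.ker_eq_commutant hb0 hbk hη hδ hδφ).le
          (show z ∈ LinearMap.ker (T.φ.toLinearMap - 1) by
            rw [LinearMap.mem_ker, LinearMap.sub_apply, Module.End.one_apply, sub_eq_zero]
            exact hφ)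
      exact (he q.1).mul_right (hf q.2)
    · intro hz
      have he : ∀ i, Commute z (S.e i) := fun i => by
        rw [hfsum i]
        exact Commute.sum_right _ _ _ fun l _ => hz _
      have hf : ∀ l, Commute z (f' l) := fun l => by
        have : f' l = ∑ i, g (i, l) := by simp only [g, ← sum_mul, S.he.complete, one_mul]
        rw [this]
        exact Commute.sum_right _ _ _ fun i _ => hz _
      have hψ : S.ψ z = z := by
        have := (S.F.ker_eq_commutant c.hr.ne_zero c.r_ne S.ζ_prim S.γ_pow S.γ_ψ).ge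
          (show z ∈ commutant S.e from he)
        rw [LinearMap.mem_ker, LinearMap.sub_apply, Module.End.one_apply, sub_eq_zero] at this
        exact this
      have hφ : T.φ z = z := by
        have := (S.F.ker_eq_commutant hb0 hbk hη hδ hδφ).ge (show z ∈ commutant f' from hf)
        rw [LinearMap.mem_ker, LinearMap.sub_apply, Module.End.one_apply, sub_eq_zero] at this
        exact this
      show S.ψ (T.φ z) = z
      rw [hφ, hψ]
  have hrb : r * b ≠ 0 := Nat.mul_ne_zero c.hr.ne_zero hb0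
  have hu : ∀ x, (T.φ.trans S.ψ) (S.F.u x) = S.F.u ((c.α * β) x) := fun x => by
    show S.ψ (T.φ _) = _
    rw [T.φ_u, S.ψ_u, MulAut.mul_apply]
  have h1 := (S.F.fixed_free c.comm c.cent (T.φ.trans S.ψ) (c.α * β) hu hrb
    (S.prod_pow_eq_one T hβb) (S.prod_free T hb0 hbr hβb hfree)).1
  rw [hker, finrank_commutant hg] at h1
  set dd : Fin r × Fin b → ℕ := fun q => finrank k (LinearMap.range (g q)) with hdd
  have hsum : ∑ q, dd q = S.F.m := by
    rw [show (∑ q, dd q) = _ from finrank_range_sum hg, finrank_pi, Fintype.card_fin]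
  obtain ⟨q₀, t, ht, hq₀⟩ := exists_exceptional dd (b := r * b) (by simp)
    (le_trans c.hr.two_le (Nat.le_mul_of_pos_right r (Nat.pos_of_ne_zero hb0)))
    (by rw [hsum, sq S.F.m]; exact h1)
  have hm := S.two_le_m hne
  have ht0 : t ≠ 0 := by
    rintro rfl
    rw [sum_eq_single q₀ (fun q _ hq => ht q hq) (fun h => absurd (mem_univ _) h)] at hsum
    omega
  have hdsum : ∀ i, S.d i = ∑ l, dd (i, l) := fun i => by
    rw [hdd]
    have h2 := finrank_range_sum_part (g := fun l => g (i, l))
      (hg.toOrthogonalIdempotents.embedding ⟨fun l => (i, l), fun l l' h => congrArg Prod.snd h⟩)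
    rw [← hfsum i] at h2
    exact h2.symm
  -- a block meeting the fixed vectors has at most one non-zero piece
  have hzero : ∀ i, S.Supp i → ∀ l l', l ≠ l' → g (i, l) ≠ 0 → g (i, l') = 0 := by
    intro i hi l l' hne' h0
    have hgl : g (i, l) = S.e i := by
      refine (idem_eq_of_commute (S.he.idem i) (hg.idem _) ?_ ?_ fun z => ?_).resolve_left h0
      · show S.e i * f' l * S.e i = _
        rw [mul_assoc, ← (hc i l).eq, ← mul_assoc, (S.he.idem i).eq]
      · show S.e i * (S.e i * f' l) = _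
        rw [← mul_assoc, (S.he.idem i).eq]
      · have hz := T.φ_block hfix hi z
        refine (Commute.mul_left ?_ ?_)
        · show S.e i * (S.e i * z * S.e i) = S.e i * z * S.e i * S.e i
          rw [← mul_assoc, ← mul_assoc, (S.he.idem i).eq, mul_assoc _ (S.e i), (S.he.idem i).eq]
        · have hd : Commute δ (S.e i * z * S.e i) := by
            show δ * _ = _ * δ
            rw [hδφ, hz]
          exact (commute_eigenIdem hd.symm l).symm
    have : g (i, l') = g (i, l) * g (i, l') := by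
      rw [hgl]; show S.e i * f' l' = S.e i * (S.e i * f' l'); rw [← mul_assoc, (S.he.idem i).eq]
    rw [this]
    exact hg.ortho fun h => hne' (congrArg Prod.snd h)
  have hdd0 : ∀ q, dd q = 0 ↔ g q = 0 := fun q => by
    rw [hdd]; simp only [Submodule.finrank_eq_zero, LinearMap.range_eq_bot]
  have honly : ∀ i, S.Supp i → ∀ l, g (i, l) ≠ 0 → ∀ l', l' ≠ l → (i, l') = q₀ := by
    intro i hi l hl l' hl'
    by_contra hq
    exact ht0 (by rw [← ht _ hq]; exact (hdd0 _).2 (hzero i hi l l' hl'.symm hl))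
  have hnz : ∀ i, S.Supp i → ∃ l, g (i, l) ≠ 0 := fun i hi => by
    by_contra h
    push Not at h
    obtain ⟨x, -, hx⟩ := hi
    have : S.e i = 0 := by
      rw [hfsum i]
      exact sum_eq_zero fun l _ => h l
    exact hx (by rw [this, map_zero, LinearMap.zero_apply])
  obtain ⟨l, hl⟩ := hnz j hj
  have hb2 : b = 2 := by
    by_contra hb3
    obtain ⟨l₁, h₁, l₂, h₂, h12⟩ : ∃ l₁, l₁ ≠ l ∧ ∃ l₂, l₂ ≠ l ∧ l₁ ≠ l₂ := by
      have hcard : 1 < (univ.erase l).card := by
        rw [card_erase_of_mem (mem_univ _), card_univ, Fintype.card_fin]; omega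
      obtain ⟨u, hu, v, hv, huv⟩ := one_lt_card.1 hcard
      exact ⟨u, ne_of_mem_erase hu, v, ne_of_mem_erase hv, huv⟩
    exact h12 (congrArg Prod.snd ((honly j hj l hl l₁ h₁).trans (honly j hj l hl l₂ h₂).symm))
  have hfirst : ∀ i, S.Supp i → i = q₀.1 := by
    intro i hi
    obtain ⟨l', hl'⟩ := hnz i hi
    obtain ⟨l'', hl''⟩ : ∃ l'', l'' ≠ l' := by
      have : Nontrivial (Fin b) := Fin.nontrivial_iff_two_le.2 hb
      exact exists_ne l'
    exact congrArg Prod.fst (honly i hi l' hl' l'' hl'')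
  refine ⟨hb2, j, hj, fun i hi => ⟨?_, fun hs => hi ((hfirst i hs).trans (hfirst j hj).symm)⟩⟩
  intro hd
  rw [hdsum, sum_eq_zero_iff] at hd
  exact ht0 (by
    rw [← ht (i, l) fun h => hi ((congrArg Prod.fst h).trans (hfirst j hj).symm)]
    exact hd l (mem_univ _))

/-- Modular case: the period is two and the multiplicities are at most two. -/
theorem free_modular (hne : ∃ x, x ∉ scalarSub π) (hex : ∃ j, S.Supp j) {s : ℕ} (hs : s.Prime)
    (hsr : s ≠ r) (hsk : (s : k) = 0)
    (hβs : ∀ x, (((β ^ s) x : Q) : Q ⧸ scalarSub π) = x)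
    (hfree : ∀ x, x ∉ scalarSub π → ∀ i, 0 < i → i < s → x⁻¹ * (β ^ i) x ∉ scalarSub π) :
    s = 2 ∧ S.Unique ∧ ∀ i, S.d i ≤ 2 := by
  obtain ⟨j, hj⟩ := hex
  have hγ := T.φ_γ hfix hj
  have hrs : ¬ r ∣ s := fun h => hsr ((Nat.prime_dvd_prime_iff_eq c.hr hs).1 h).symm
  have : CharP k s :=
    (CharP.charP_iff_prime_eq_zero hs).2 hsk
  set TT := (T.φ.trans S.ψ).toLinearMap with hTT
  have hTTmul : TT = S.ψ.toLinearMap * T.φ.toLinearMap := rfl
  have hu : ∀ x, (T.φ.trans S.ψ) (S.F.u x) = S.F.u ((c.α * β) x) := fun x => by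
    show S.ψ (T.φ _) = _
    rw [T.φ_u, S.ψ_u, MulAut.mul_apply]
  have h2 := (S.F.fixed_free c.comm c.cent (T.φ.trans S.ψ) (c.α * β) hu
    (Nat.mul_ne_zero c.hr.ne_zero hs.ne_zero) (S.prod_pow_eq_one T hβs)
    (S.prod_free T hs.ne_zero hrs hβs hfree)).2
  rw [← hTT] at h2
  have hTr : TT ^ r = T.φ.toLinearMap ^ r := by
    rw [hTTmul, (S.commute_φ_ψ T).mul_pow, S.ψ_pow, one_mul]
  have hnorm : ∀ w, normMap TT (r * s) w =
      ∑ l ∈ range s, ((T.φ.toLinearMap ^ r) ^ l) ((∑ i ∈ range r, TT ^ i) w) := by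
    intro w
    rw [normMap, sum_range_mul, Module.End.mul_apply, LinearMap.sum_apply, hTr]
  have hψe : ∀ i z, S.ψ (S.e i * z * S.e i) = S.e i * z * S.e i := fun i z => by
    refine S.γ_isUnit.mul_right_cancel ((S.γ_ψ _).symm.trans ?_)
    have h1 : S.γ * S.e i = S.ζ ^ (i : ℕ) • S.e i := mul_eigenIdem S.γ_pow S.ζ_prim i
    have h3 : S.e i * S.γ = S.ζ ^ (i : ℕ) • S.e i :=
      (commute_eigenIdem (Commute.refl S.γ) i).eq.symm.trans h1
    rw [← mul_assoc, ← mul_assoc, h1, smul_mul_assoc, smul_mul_assoc, mul_assoc _ (S.e i), h3,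
      mul_smul_comm]
  have hsupp : ∀ i, S.Supp i → ∀ w, S.e i * normMap TT (r * s) w * S.e i = 0 := by
    intro i hi w
    rw [hnorm, mul_sum, sum_mul]
    have hpow : ∀ (n : ℕ) v,
        S.e i * (T.φ.toLinearMap ^ n) v * S.e i = S.e i * v * S.e i := by
      intro n
      induction n with
      | zero => intro v; rfl
      | succ n ih =>
        intro v
        rw [pow_succ, Module.End.mul_apply, ih]
        show S.e i * T.φ v * S.e i = _
        rw [← T.φ_block hfix hi v, map_mul, map_mul, T.φ_e hγ]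
    simp only [← pow_mul, hpow, sum_const, card_range, ← Nat.cast_smul_eq_nsmul k, hsk, zero_smul]
  have hfix2 : ∀ i z, S.Supp i → ∃ a : k, S.e i * z * S.e i = a • S.e i := by
    intro i z hi
    obtain ⟨a, w, hw⟩ := h2 (S.e i * z * S.e i) (by
      show S.ψ (T.φ _) = _
      rw [T.φ_block hfix hi, hψe])
    refine ⟨a, ?_⟩
    have h3 := congrArg (fun u => S.e i * u * S.e i) hw
    simp only [mul_add, add_mul, hsupp i hi w, add_zero, mul_smul_comm, smul_mul_assoc, mul_one,
      (S.he.idem i).eq] at h3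
    rw [← h3, ← mul_assoc, ← mul_assoc, (S.he.idem i).eq, mul_assoc _ (S.e i), (S.he.idem i).eq]
  have hone : ∀ i, S.Supp i → S.d i = 1 := fun i hi => by
    refine finrank_range_eq_one (S.he.idem i) ?_ (hfix2 i · hi)
    obtain ⟨x, -, hx⟩ := hi
    intro h
    exact hx (by rw [h, map_zero, LinearMap.zero_apply])
  have hdvd : ∀ i, i ≠ j → s ∣ S.d i := by
    intro i hi
    obtain ⟨a, w, hw⟩ := h2 (S.e i) (by show S.ψ (T.φ _) = _; rw [T.φ_e hγ, S.ψ_e])
    have ha : a = 0 := by
      have h3 := congrArg (fun u => S.e j * u * S.e j) hw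
      simp only [mul_add, add_mul, hsupp j hj w, add_zero, mul_smul_comm, smul_mul_assoc, mul_one,
        (S.he.idem j).eq, S.he.ortho (Ne.symm hi), zero_mul] at h3
      refine (smul_eq_zero.1 h3.symm).resolve_right fun h => ?_
      obtain ⟨x, -, hx⟩ := hj
      exact hx (by rw [h, map_zero, LinearMap.zero_apply])
    rw [ha, zero_smul, zero_add, hnorm] at hw
    have h4 := congrArg (LinearMap.trace k (Fin S.F.m → k)) hw
    rw [LinearMap.IsProj.trace (LinearMap.IsIdempotentElem.isProj_range _ (S.he.idem i)), map_sum] at h4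
    have htr : ∀ (n : ℕ) v, LinearMap.trace k (Fin S.F.m → k) ((T.φ.toLinearMap ^ n) v) =
        LinearMap.trace k (Fin S.F.m → k) v := by
      intro n
      induction n with
      | zero => intro v; rfl
      | succ n ih =>
        intro v
        rw [pow_succ', Module.End.mul_apply]
        exact (trace_algEquiv T.φ _).trans (ih v)
    simp only [← pow_mul, htr, sum_const, card_range, ← Nat.cast_smul_eq_nsmul k, hsk,
      zero_smul] at h4
    exact (CharP.cast_eq_zero_iff k s _).1 h4
  have hm := S.two_le_m hne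
  obtain ⟨j₀, t, ht, hj₀⟩ := S.exists_dims
  have hjex : j = j₀ := by
    by_contra hjj
    have ht1 : t = 1 := (ht j hjj).symm.trans (hone j hj)
    subst ht1
    have hall : ∀ i, i = j ∨ i = j₀ := fun i => by
      by_contra h
      push Not at h
      have := hdvd i h.1
      rw [ht i h.2] at this
      exact hs.not_dvd_one this
    have hr2 : r = 2 := by
      have h1 : (univ : Finset (Fin r)) ⊆ {j, j₀} := fun i _ => by
        rcases hall i with h | h <;> simp [h]
      have := (card_le_card h1).trans (card_le_two)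
      rw [card_univ, Fintype.card_fin] at this
      have := c.hr.two_le
      omega
    have hsum : S.d j + S.d j₀ = S.F.m := by
      rw [← S.sum_d, ← sum_pair hjj]
      refine sum_subset (subset_univ _) fun i _ hi => ?_
      rcases hall i with h | h <;> simp [h] at hi
    rw [hone j hj] at hsum
    have h5 := hdvd j₀ (Ne.symm hjj)
    rcases hj₀ with h | h
    · rw [h] at h5
      exact hsr (((Nat.prime_dvd_prime_iff_eq hs Nat.prime_two).1 h5).trans hr2.symm)
    · omega
  subst hjex
  rw [hone j hj] at hj₀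
  have ht2 : t = 2 := by
    rcases hj₀ with h | h
    · exfalso
      obtain rfl : t = 0 := by omega
      have := S.sum_d
      rw [sum_eq_single j (fun i _ hi => ht i hi) (fun h => absurd (mem_univ _) h), hone j hj] at this
      omega
    · omega
  subst ht2
  obtain ⟨i, hi⟩ : ∃ i : Fin r, i ≠ j := by
    have : Nontrivial (Fin r) := Fin.nontrivial_iff_two_le.2 c.hr.two_le
    exact exists_ne j
  have h2' := hdvd i hi
  rw [ht i hi] at h2'
  refine ⟨(Nat.prime_dvd_prime_iff_eq hs Nat.prime_two).1 h2', ⟨j, hj, fun i hi => ⟨by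
    rw [ht i hi]; omega, fun hsi => by have := hone i hsi; rw [ht i hi] at this; omega⟩⟩, fun i => ?_⟩
  by_cases h : i = j
  · rw [h, hone j hj]; omega
  · rw [ht i h]

end Split

end Cfsg.Agent.TurullHeight
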