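import Cfsg.Agent.Lib.TurullHeight.Layer

/-!
# The orbit lemma on a tower

Elements fixed by `a` with quiet commutators give classes fixed by the groups `[X, a]`, `X` in the
previous layer; hence a non-quiet element of a layer has a non-quiet commutator one layer above.
-/

set_option autoImplicit false

namespace Cfsg.Agent.TurullHeight

open Subgroup
open scoped commutatorElement

variable {S : Type*} [Group S] [Finite S] {P Φ : ℕ → Subgroup S} {G : Subgroup S} {a : S} {T : ℕ}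
  {R : ℕ → Subgroup S} {p : ℕ → ℕ} {r : ℕ} (tw : Tower G a T P Φ R p) (hA : Ambient G a r)

include tw

omit [Finite S] in
theorem Tower.sectAct_eq_iff {j : ℕ} (hj : j ≤ T) (g : ↥(Lev P Φ j))
    (x : (P j).subgroupOf (Lev P Φ j)) :
    sectAct ((Φ j).subgroupOf (Lev P Φ j)) g (sect ((Φ j).subgroupOf (Lev P Φ j)) x) =
        sect ((Φ j).subgroupOf (Lev P Φ j)) x ↔ ⁅(g : S), ((x : ↥(Lev P Φ j)) : S)⁆ ∈ Φ j := by
  have hc : ∀ x ∈ (P j).subgroupOf (Lev P Φ j), ∀ y ∈ (P j).subgroupOf (Lev P Φ j),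
      x * y * x⁻¹ * y⁻¹ ∈ (Φ j).subgroupOf (Lev P Φ j) := fun u hu v hv =>
    tw.comm_mem j hj (u : S) hu (v : S) hv
  rw [sectAct_sect, ← sub_eq_zero, sub_eq_add_neg, ← sect_inv, ← sect_mul, sect_eq_zero _ hc,
    mem_subgroupOf, Subgroup.coe_mul, MulAut.conjNormal_apply]
  rfl

include hA

/-- The operator group `[X, a]` of the previous layer. -/
theorem Tower.opData {i : ℕ} (hi : i + 1 < T) {X : Subgroup S} (hX : X ≤ P i)
    (hXa : ∀ x ∈ X, a * x * a⁻¹ ∈ X) :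
    OpData ((P (i + 1)).subgroupOf (Lev P Φ (i + 1))) ((Φ (i + 1)).subgroupOf (Lev P Φ (i + 1)))
      ((difSub X a).subgroupOf (Lev P Φ (i + 1))) (toLev P Φ (i + 1) (tw.a_mem_Lev hi)) r (p i)
      (p (i + 1)) := by
  have hdP : difSub X a ≤ P i := (difSub_le hXa).trans hX
  have htriv : ∀ g : ↥(Lev P Φ (i + 1)), (g : S) ∈ R i →
      sectAct (P := (P (i + 1)).subgroupOf (Lev P Φ (i + 1))) ((Φ (i + 1)).subgroupOf _) g = 1 := by
    intro g hg
    refine AddMonoidHom.ext fun u => ?_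
    obtain ⟨x, rfl⟩ := sect_surjective _ u
    refine (tw.sectAct_eq_iff hi.le g x).2 ?_
    rw [← commutatorElement_inv]
    exact inv_mem ((tw.R_iff i (by omega) _ (tw.Φ_le i (by omega) (tw.R_le i (by omega) hg))).1 hg
      _ x.2)
  have hcen : ∀ z y : ↥(Lev P Φ (i + 1)), (z : S) ∈ Φ i → (y : S) ∈ P i →
      Commute (sectAct (P := (P (i + 1)).subgroupOf (Lev P Φ (i + 1)))
        ((Φ (i + 1)).subgroupOf _) z) (sectAct ((Φ (i + 1)).subgroupOf _) y) := by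
    intro z y hz hy
    rw [Commute, SemiconjBy, ← map_mul, ← map_mul,
      show z * y = ⁅z, y⁆ * (y * z) by simp only [commutatorElement_def]; group, map_mul,
      htriv ⁅z, y⁆ (tw.central i (by omega) _ hz _ hy), one_mul]
  refine ⟨fun n hn => inv_mem_difSub hXa hn, tw.prime i (by omega),
    ((tw.pgroup i (by omega)).to_le hdP).comap_subtype, tw.pne i (by omega),
    tw.rp (hA := hA) (i := i) (by omega), fun H hH n hn => ?_,
    fun x hx y hy z hz => hcen _ _ (tw.comm_mem i (by omega) _ (hdP hx) _ (hdP hy)) (hdP hz),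
    fun x hx y hy => hcen _ _ ?_ (hdP hy)⟩
  · have h := difSub_gen hA.hr hA.a_pow (tw.prime i (by omega)) (tw.rp (hA := hA) (i := i) (by omega))
      ((tw.pgroup i (by omega)).to_le hX) hXa (H.map (Lev P Φ (i + 1)).subtype) (fun m hm =>
        ⟨_, hH (toLev P Φ (i + 1) (tw.mem_Lev (by omega) hi (hdP hm))) hm, rfl⟩) hn
    obtain ⟨y, hy, he⟩ := h
    exact (Subtype.ext he : y = n) ▸ hy
  · rw [SubgroupClass.coe_pow]
    exact tw.pow_mem i (by omega) _ (hdP hx)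

/-- A representation to work with. -/
theorem Tower.exists_rep {j : ℕ} (hj : j < T) :
    ∃ (d : ℕ) (_ : Fact (p (j + 1)).Prime)
      (Lm : AddMonoid.End (USect P Φ (j + 1)) →+* Module.End (AlgebraicClosure (ZMod (p (j + 1))))
        (Fin d → AlgebraicClosure (ZMod (p (j + 1))))),
      Function.Injective Lm ∧ ∀ n : ℕ, ¬ p (j + 1) ∣ n →
        (n : AlgebraicClosure (ZMod (p (j + 1)))) ≠ 0 := by
  have := Fact.mk (tw.prime (j + 1) hj)
  obtain ⟨d, Lm, hLm, -⟩ := exists_endRep (p (j + 1)) (tw.exp (i := j + 1) hj)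
  exact ⟨d, this, Lm, hLm, fun n hn => by
    rwa [Ne, CharP.cast_eq_zero_iff _ (p (j + 1))]⟩

/-- A fixed class in `Lev j` has a fixed representative. -/
theorem Tower.exists_fixed_repLev {j : ℕ} (hj : j < T)
    {u : Sect ((P j).subgroupOf (Lev P Φ j)) ((Φ j).subgroupOf (Lev P Φ j))}
    (hu : sectAct ((Φ j).subgroupOf (Lev P Φ j)) (toLev P Φ j (tw.a_mem_Lev hj)) u = u) :
    ∃ c : (P j).subgroupOf (Lev P Φ j), Commute ((c : ↥(Lev P Φ j)) : S) a ∧
      sect ((Φ j).subgroupOf (Lev P Φ j)) c = u := by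
  obtain ⟨x, rfl⟩ := sect_surjective _ u
  set y := ((x : ↥(Lev P Φ j)) : S) with hy
  have hyP : y ∈ P j := x.2
  have h1 : ⁅a, y⁆ ∈ Φ j := (tw.sectAct_eq_iff hj.le _ x).1 hu
  have hd : dif a y ∈ Φ j := by
    rw [show dif a y = y⁻¹ * ⁅a, y⁆ * y⁻¹⁻¹ by simp only [dif, commutatorElement_def]; group]
    exact (mem_normalizer_iff.1 (tw.Φ_norm j j le_rfl hj.le (inv_mem hyP)) _).1 h1
  obtain ⟨c, hc, hca⟩ := exists_fix_coset hA.hr hA.a_pow (tw.prime j hj.le) (tw.rp (hA := hA) hj.le)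
    ((tw.pgroup j hj.le).to_le (tw.Φ_le j hj.le))
    (fun m hm => (mem_normalizer_iff.1 (tw.Φ_inv j hj.le) m).1 hm) hd
  have hcP : c ∈ P j := by simpa using mul_mem hyP (tw.Φ_le j hj.le hc)
  refine ⟨⟨toLev P Φ j (tw.mem_Lev le_rfl hj hcP), hcP⟩, hca, ?_⟩
  refine ((sect_eq_iff ((Φ j).subgroupOf (Lev P Φ j))
    (fun u hu v hv => tw.comm_mem j hj.le (u : S) hu (v : S) hv)).2 ?_).symm
  exact hc

/-- The class of a quiet fixed element is quiet. -/
theorem Tower.mem_quietSub {j : ℕ} (hj : j < T) {k : Type*} [Field k] [IsAlgClosed k] {E : Type*}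
    [AddCommGroup E] [Module k E] [FiniteDimensional k E]
    {Lm : AddMonoid.End (USect P Φ (j + 1)) →+* Module.End k E} (hLm : Function.Injective Lm)
    (hk : ∀ n : ℕ, ¬ p (j + 1) ∣ n → (n : k) ≠ 0) (x : (P j).subgroupOf (Lev P Φ j))
    (hxa : Commute ((x : ↥(Lev P Φ j)) : S) a) (hx : QuietEl P Φ a j ((x : ↥(Lev P Φ j)) : S)) :
    sect ((Φ j).subgroupOf (Lev P Φ j)) x ∈ quietSub (repOf P Φ j Lm)
      ((P j).subgroupOf (Lev P Φ j)) (toLev P Φ j (tw.a_mem_Lev hj))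
      ((Φ j).subgroupOf (Lev P Φ j)) :=
  ⟨x, Subtype.ext hxa.eq, tw.quiet_of_quietEl hA hj hLm hk hx, rfl⟩

omit hA in
omit [Finite S] in
theorem Tower.commutator_mem_P {i j : ℕ} (hi : i ≤ j) (hj : j ≤ T) {e x : S} (he : e ∈ P i)
    (hx : x ∈ P j) : ⁅e, x⁆ ∈ P j :=
  mul_mem ((mem_normalizer_iff.1 (tw.norm j i hi hj he) x).1 hx) (inv_mem hx)

omit [Finite S] in
theorem Tower.sectAct_sub {j : ℕ} (hj : j ≤ T) (g : ↥(Lev P Φ j))
    (x : (P j).subgroupOf (Lev P Φ j)) (hm : ⁅g, (x : ↥(Lev P Φ j))⁆ ∈ (P j).subgroupOf (Lev P Φ j)) :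
    sectAct ((Φ j).subgroupOf (Lev P Φ j)) g (sect ((Φ j).subgroupOf (Lev P Φ j)) x) -
      sect ((Φ j).subgroupOf (Lev P Φ j)) x = sect ((Φ j).subgroupOf (Lev P Φ j)) ⟨_, hm⟩ := by
  rw [sectAct_sect, sub_eq_add_neg, ← sect_inv, ← sect_mul]
  congr 1

/-- An element of `P i` fixed by `a` whose commutators with fixed elements are quiet. -/
theorem Tower.fixed_of_comm {i : ℕ} (hi : i + 1 < T) {X Z : Subgroup S} (hX : X ≤ P i)
    (hXa : ∀ x ∈ X, a * x * a⁻¹ ∈ X) (hZ : Z ≤ P i)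
    (hZn : ∀ n ∈ difSub X a, n ∈ normalizer (Z : Set S)) {e : S} (he : e ∈ P i) (hea : Commute e a)
    (hcomm : ∀ n ∈ difSub X a, ∀ x ∈ P (i + 1), (∀ z ∈ Z, ⁅z, x⁆ ∈ Φ (i + 1)) →
      ⁅⁅e⁻¹, n⁻¹⁆, x⁆ ∈ Φ (i + 1))
    (hq : ∀ c ∈ P (i + 1), Commute c a → (∀ z ∈ Z, ⁅z, c⁆ ∈ Φ (i + 1)) →
      QuietEl P Φ a (i + 1) ⁅e, c⁆)
    {c : S} (hc : c ∈ P (i + 1)) (hca : Commute c a) (hcZ : ∀ z ∈ Z, ⁅z, c⁆ ∈ Φ (i + 1)) {n : S}
    (hn : n ∈ difSub X a) : ⁅n, ⁅e, c⁆⁆ ∈ Φ (i + 1) := by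
  obtain ⟨d, hfact, Lm, hLm, hk⟩ := tw.exists_rep hA (j := i + 1) hi
  have hl := tw.layerData hA hi hLm hk
  have hN := tw.opData hA hi hX hXa
  set Φ' := (Φ (i + 1)).subgroupOf (Lev P Φ (i + 1))
  have hdP : difSub X a ≤ P i := (difSub_le hXa).trans hX
  have hLe : ∀ g ∈ P i, g ∈ Lev P Φ (i + 1) := fun g hg => tw.mem_Lev (by omega) hi hg
  let V : AddSubgroup (Sect ((P (i + 1)).subgroupOf (Lev P Φ (i + 1))) Φ') :=
    { carrier := {u | ∀ z : ↥(Lev P Φ (i + 1)), (z : S) ∈ Z → sectAct Φ' z u = u}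
      add_mem' := fun hu hv z hz => by rw [map_add, hu z hz, hv z hz]
      zero_mem' := fun z _ => map_zero _
      neg_mem' := fun hu z hz => by rw [map_neg, hu z hz] }
  have hmemV : ∀ x : (P (i + 1)).subgroupOf (Lev P Φ (i + 1)), sect Φ' x ∈ V →
      ∀ z ∈ Z, ⁅z, ((x : ↥(Lev P Φ (i + 1))) : S)⁆ ∈ Φ (i + 1) := fun x hx z hz =>
    (tw.sectAct_eq_iff hi.le (toLev P Φ (i + 1) (hLe z (hZ hz))) x).1 (hx _ hz)
  have hVN : ∀ g ∈ (difSub X a).subgroupOf (Lev P Φ (i + 1)), ∀ u ∈ V, sectAct Φ' g u ∈ V := by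
    intro g hg u hu z hz
    have hzg : ((g⁻¹ * z * g : ↥(Lev P Φ (i + 1))) : S) ∈ Z := by
      have := (mem_normalizer_iff.1 (inv_mem (hZn _ hg)) (z : S)).1 hz
      rwa [inv_inv] at this
    rw [← sectAct_mul_apply, show z * g = g * (g⁻¹ * z * g) by group, sectAct_mul_apply, hu _ hzg]
  set e' := toLev P Φ (i + 1) (hLe e he) with he'
  let θ : Sect ((P (i + 1)).subgroupOf (Lev P Φ (i + 1))) Φ' →+
      Sect ((P (i + 1)).subgroupOf (Lev P Φ (i + 1))) Φ' :=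
    { toFun := fun u => sectAct Φ' e' u - u
      map_zero' := by simp
      map_add' := fun u v => by rw [map_add]; abel }
  have hθN : ∀ g ∈ (difSub X a).subgroupOf (Lev P Φ (i + 1)), ∀ u ∈ V,
      θ (sectAct Φ' g u) = sectAct Φ' g (θ u) := by
    intro g hg u hu
    obtain ⟨x, rfl⟩ := sect_surjective _ u
    have hfix : sectAct Φ' ⁅e'⁻¹, g⁻¹⁆ (sect Φ' x) = sect Φ' x :=
      (tw.sectAct_eq_iff hi.le _ x).2 (hcomm _ hg _ x.2 (hmemV x hu))
    show sectAct Φ' e' (sectAct Φ' g (sect Φ' x)) - sectAct Φ' g (sect Φ' x) =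
      sectAct Φ' g (sectAct Φ' e' (sect Φ' x) - sect Φ' x)
    rw [map_sub, sub_left_inj, ← sectAct_mul_apply, ← sectAct_mul_apply,
      show e' * g = g * e' * ⁅e'⁻¹, g⁻¹⁆ by simp only [commutatorElement_def]; group,
      sectAct_mul_apply, hfix]
  have hθq : ∀ u ∈ V, sectAct Φ' (toLev P Φ (i + 1) (tw.a_mem_Lev hi)) u = u →
      θ u ∈ quietSub (repOf P Φ (i + 1) Lm) ((P (i + 1)).subgroupOf (Lev P Φ (i + 1)))
        (toLev P Φ (i + 1) (tw.a_mem_Lev hi)) Φ' := by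
    intro u hu hua
    obtain ⟨y, hya, rfl⟩ := tw.exists_fixed_repLev hA hi hua
    show sectAct Φ' e' (sect Φ' y) - sect Φ' y ∈ _
    rw [tw.sectAct_sub hA hi.le e' y (tw.commutator_mem_P (by omega) hi.le he y.2)]
    exact tw.mem_quietSub hA hi hLm hk _ ((hea.mul_left hya).mul_left hea.inv_left |>.mul_left
      hya.inv_left) (hq _ y.2 hya (hmemV y hu))
  have hcL := tw.mem_Lev (i := i + 1) le_rfl hi hc
  set x₀ : (P (i + 1)).subgroupOf (Lev P Φ (i + 1)) := ⟨toLev P Φ (i + 1) hcL, hc⟩ with hx₀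
  have hmain := step_comm hl hN V hVN θ hθN hθq (c := sect Φ' x₀)
    (fun z hz => (tw.sectAct_eq_iff hi.le z x₀).2 (hcZ _ hz))
    ((tw.sectAct_eq_iff hi.le _ x₀).2 (by
      show ⁅a, c⁆ ∈ Φ (i + 1)
      rw [commutatorElement_eq_one_iff_mul_comm.2 hca.eq.symm]; exact one_mem _))
    (n := toLev P Φ (i + 1) (hLe n (hdP hn))) hn
  change sectAct Φ' _ (sectAct Φ' e' (sect Φ' x₀) - sect Φ' x₀) =
    sectAct Φ' e' (sect Φ' x₀) - sect Φ' x₀ at hmain
  rw [tw.sectAct_sub hA hi.le e' x₀ (tw.commutator_mem_P (by omega) hi.le he hc),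
    tw.sectAct_eq_iff hi.le] at hmain
  exact hmain

/-- If all fixed elements of the layer are quiet, their classes are fixed by `[P i, a]`. -/
theorem Tower.fixed_of_quiet {i : ℕ} (hi : i + 1 < T)
    (hq : ∀ c ∈ P (i + 1), Commute c a → QuietEl P Φ a (i + 1) c)
    {c : S} (hc : c ∈ P (i + 1)) (hca : Commute c a) {n : S} (hn : n ∈ difSub (P i) a) :
    ⁅n, c⁆ ∈ Φ (i + 1) := by
  obtain ⟨d, hfact, Lm, hLm, hk⟩ := tw.exists_rep hA (j := i + 1) hi
  have hl := tw.layerData hA hi hLm hk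
  have hPa := fun x (hx : x ∈ P i) => (mem_normalizer_iff.1 (tw.inv i (by omega)) x).1 hx
  have hN := tw.opData hA hi le_rfl hPa
  set x₀ : (P (i + 1)).subgroupOf (Lev P Φ (i + 1)) :=
    ⟨toLev P Φ (i + 1) (tw.mem_Lev (i := i + 1) le_rfl hi hc), hc⟩
  have hnL := tw.mem_Lev (i := i + 1) (by omega) hi (difSub_le hPa hn)
  have hmain := step_comm hl hN ⊤ (fun _ _ _ _ => AddSubgroup.mem_top _) (AddMonoidHom.id _)
    (fun _ _ _ _ => rfl) (fun u _ hua => by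
      obtain ⟨y, hya, rfl⟩ := tw.exists_fixed_repLev hA hi hua
      exact tw.mem_quietSub hA hi hLm hk y hya (hq _ y.2 hya))
    (c := sect _ x₀) (AddSubgroup.mem_top _)
    ((tw.sectAct_eq_iff hi.le _ x₀).2 (by
      show ⁅a, c⁆ ∈ Φ (i + 1)
      rw [commutatorElement_eq_one_iff_mul_comm.2 hca.eq.symm]; exact one_mem _))
    (n := toLev P Φ (i + 1) hnL) hn
  exact (tw.sectAct_eq_iff hi.le _ x₀).1 hmain

/-- The same for an element fixed by `a` of prime power order normalising the layers. -/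
theorem Tower.fixed_of_elem {i : ℕ} (hi : i + 1 < T) {y : S} {m : ℕ} (hm : m ≤ i) (hy : y ∈ P m)
    (hya : Commute y a) (hpm : p m ≠ p i)
    (hq : ∀ c ∈ P (i + 1), Commute c a → QuietEl P Φ a (i + 1) ⁅y, c⁆)
    {c : S} (hc : c ∈ P (i + 1)) (hca : Commute c a) {n : S} (hn : n ∈ difSub (P i) a) :
    ⁅n, ⁅y, c⁆⁆ ∈ Φ (i + 1) := by
  obtain ⟨d, hfact, Lm, hLm, hk⟩ := tw.exists_rep hA (j := i + 1) hi
  have hl := tw.layerData hA hi hLm hk
  have hPa := fun x (hx : x ∈ P i) => (mem_normalizer_iff.1 (tw.inv i (by omega)) x).1 hx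
  have hN := tw.opData hA hi le_rfl hPa
  have hyL := tw.mem_Lev (i := i + 1) (show m ≤ i + 1 by omega) hi hy
  set y' := toLev P Φ (i + 1) hyL
  set x₀ : (P (i + 1)).subgroupOf (Lev P Φ (i + 1)) :=
    ⟨toLev P Φ (i + 1) (tw.mem_Lev (i := i + 1) le_rfl hi hc), hc⟩
  have hnL := tw.mem_Lev (i := i + 1) (by omega) hi (difSub_le hPa hn)
  obtain ⟨e, he⟩ := tw.pgroup m (by omega) ⟨y, hy⟩
  have hmain := step_y hl hN (y := y') (Subtype.ext hya.eq) (fun g hg =>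
      conj_mem_difSub_comm hya (fun x hx =>
        (mem_normalizer_iff.1 (tw.norm i m hm (by omega) hy) x).1 hx) hg)
    (tw.prime m (by omega)) (tw.rp (hA := hA) (i := m) (by omega)).symm hpm
    (e := e) (Subtype.ext (by
      show y ^ (p m ^ e) = 1
      simpa using congrArg Subtype.val he))
    (fun u hua => by
      obtain ⟨z, hza, rfl⟩ := tw.exists_fixed_repLev hA hi hua
      rw [tw.sectAct_sub hA hi.le y' z (tw.commutator_mem_P (by omega) hi.le hy z.2)]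
      exact tw.mem_quietSub hA hi hLm hk _ ((hya.mul_left hza).mul_left hya.inv_left |>.mul_left
        hza.inv_left) (hq _ z.2 hza))
    (c := sect _ x₀) ((tw.sectAct_eq_iff hi.le _ x₀).2 (by
      show ⁅a, c⁆ ∈ Φ (i + 1)
      rw [commutatorElement_eq_one_iff_mul_comm.2 hca.eq.symm]; exact one_mem _))
    (n := toLev P Φ (i + 1) hnL) hn
  rw [tw.sectAct_sub hA hi.le y' x₀ (tw.commutator_mem_P (by omega) hi.le hy hc),
    tw.sectAct_eq_iff hi.le] at hmain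
  exact hmain

end Cfsg.Agent.TurullHeight
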