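import Cfsg.Agent.Lib.TurullHeight.Residual
import Cfsg.Agent.Lib.OddOrder.FittingLocal
import Cfsg.Agent.Lib.Coprime.Sylow
import Cfsg.Agent.Lib.PCore.Basic

/-!
# A chain of invariant subgroups of prime power order from the residual series

From `resid G T ≠ resid G (T + 1)` we get invariant `p_i`-groups `P_i`, `i ≤ T`, the lower ones
normalising the higher ones, and subgroups `K_i` with `P_i ⊄ K_i` containing the kernel of the
action on `P_{i+1}` modulo `K_{i+1}`.
-/

set_option autoImplicit false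

namespace Cfsg.Agent.TurullHeight

open Subgroup
open scoped commutatorElement Pointwise

variable {S : Type*} [Group S]

/-- The elements centralising `Y` modulo `K`. -/
def modCent (Y K : Subgroup S) : Subgroup S where
  carrier := {g | g ∈ normalizer (K : Set S) ∧ ∀ y ∈ Y, ⁅y, g⁆ ∈ K}
  one_mem' := ⟨one_mem _, fun y _ => by rw [commutatorElement_one_right]; exact one_mem K⟩
  mul_mem' := fun {g h} ⟨hg, hg'⟩ ⟨hh, hh'⟩ => ⟨mul_mem hg hh, fun y hy => by
    rw [show ⁅y, g * h⁆ = ⁅y, g⁆ * (g * ⁅y, h⁆ * g⁻¹) by simp only [commutatorElement_def]; group]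
    exact mul_mem (hg' y hy) ((mem_normalizer_iff.1 hg _).1 (hh' y hy))⟩
  inv_mem' := fun {g} ⟨hg, hg'⟩ => ⟨inv_mem hg, fun y hy => by
    rw [show ⁅y, g⁻¹⁆ = g⁻¹ * ⁅y, g⁆⁻¹ * g⁻¹⁻¹ by simp only [commutatorElement_def]; group]
    exact (mem_normalizer_iff.1 (inv_mem hg) _).1 (inv_mem (hg' y hy))⟩

theorem mem_modCent {Y K : Subgroup S} {g : S} :
    g ∈ modCent Y K ↔ g ∈ normalizer (K : Set S) ∧ ∀ y ∈ Y, ⁅y, g⁆ ∈ K := Iff.rfl

theorem mem_normalizer_modCent [Finite S] {Y K : Subgroup S} {g : S}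
    (hY : g ∈ normalizer (Y : Set S)) (hK : g ∈ normalizer (K : Set S)) :
    g ∈ normalizer (modCent Y K : Set S) := by
  refine mem_normalizer_fintype fun x hx => ⟨mul_mem (mul_mem hK hx.1) (inv_mem hK), fun y hy => ?_⟩
  rw [show ⁅y, g * x * g⁻¹⁆ = g * ⁅g⁻¹ * y * g, x⁆ * g⁻¹ by
    simp only [commutatorElement_def]; group]
  refine (mem_normalizer_iff.1 hK _).1 (hx.2 _ ?_)
  have := (mem_normalizer_iff.1 (inv_mem hY) y).1 hy
  rwa [inv_inv] at this

/-- The standing hypotheses. -/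
structure Ambient (G : Subgroup S) (a : S) (r : ℕ) : Prop where
  hr : r.Prime
  a_pow : a ^ r = 1
  inv : a ∈ normalizer (G : Set S)
  cop : ¬ r ∣ Nat.card G
  solv : Group.IsSolvable G

/-- A chain. -/
structure Chain (G : Subgroup S) (a : S) (T : ℕ) (P K : ℕ → Subgroup S) (p : ℕ → ℕ) : Prop where
  prime : ∀ i ≤ T, (p i).Prime
  pgroup : ∀ i ≤ T, IsPGroup (p i) (P i)
  le : ∀ i ≤ T, P i ≤ G
  inv : ∀ i ≤ T, a ∈ normalizer (P i : Set S)
  norm : ∀ i j, j < i → i ≤ T → P j ≤ normalizer (P i : Set S)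
  pne : ∀ i < T, p i ≠ p (i + 1)
  notK : ∀ i ≤ T, ¬ P i ≤ K i
  top_inv : a ∈ normalizer (K T : Set S)
  top_norm : ∀ i ≤ T, P i ≤ normalizer (K T : Set S)
  kle : ∀ i < T, ∀ x ∈ P i, (∀ y ∈ P (i + 1), ⁅y, x⁆ ∈ K (i + 1)) → x ∈ K i

variable [Finite S]

theorem Ambient.zpowers_le {G : Subgroup S} {a : S} {r : ℕ} (_hA : Ambient G a r) {H : Subgroup S}
    (h : a ∈ normalizer (H : Set S)) : zpowers a ≤ normalizer (H : Set S) := Subgroup.zpowers_le.2 h

theorem Ambient.coprime {G : Subgroup S} {a : S} {r : ℕ} (hA : Ambient G a r) {H : Subgroup S}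
    (hH : H ≤ G) : (Nat.card (zpowers a)).Coprime (Nat.card H) :=
  ((hA.hr.coprime_iff_not_dvd.2 hA.cop).coprime_dvd_left
    ((Nat.card_zpowers a) ▸ orderOf_dvd_of_pow_eq_one hA.a_pow)).coprime_dvd_right
    (card_dvd_of_le hH)

theorem mem_normalizer_sup {X Y : Subgroup S} {g : S} (hX : g ∈ normalizer (X : Set S))
    (hY : g ∈ normalizer (Y : Set S)) : g ∈ normalizer ((X ⊔ Y : Subgroup S) : Set S) :=
  X.normalizer_inf_normalizer_le_normalizer_sup Y ⟨hX, hY⟩

theorem mem_normalizer_resid {H : Subgroup S} {g : S} (hg : g ∈ normalizer (H : Set S)) (j : ℕ) :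
    g ∈ normalizer (resid H j : Set S) :=
  mem_normalizer_fintype fun _ hx => conj_mem_resid (fun x hx => (mem_normalizer_iff.1 hg x).1 hx) j hx

theorem resid_subgroupOf {H W : Subgroup S} (h : H ≤ W) (j : ℕ) :
    (resid H j).subgroupOf W = resid (H.subgroupOf W) j := by
  refine map_injective W.subtype_injective ?_
  rw [map_resid, map_subgroupOf_eq_of_le ((resid_le H j).trans h), map_subgroupOf_eq_of_le h]

/-- A non-trivial soluble group is not its own nilpotent residual. -/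
theorem nilRes_ne {X : Subgroup S} (hX : Group.IsSolvable X) (hne : X ≠ ⊥) : nilRes X ≠ X := by
  intro h
  have hle : X ≤ ⁅X, X⁆ := h.ge.trans ((iInf_le _ 1).trans (le_of_eq rfl))
  have htop : commutator X = ⊤ := map_injective X.subtype_injective (by
    rw [map_subtype_commutator, ← MonoidHom.range_eq_map, range_subtype]
    exact le_antisymm (commutator_le_self X) hle)
  have : Nontrivial X := (nontrivial_iff_ne_bot X).2 hne
  exact (Group.IsSolvable.commutator_lt_top_of_nontrivial X).ne htop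

/-- A failure of inclusion shows in some prime. -/
theorem exists_pGroup_not_le {X Y : Subgroup S} (h : ¬ X ≤ Y) :
    ∃ l : ℕ, l.Prime ∧ ∃ P₀ : Subgroup S, IsPGroup l P₀ ∧ P₀ ≤ X ∧ ¬ P₀ ≤ Y := by
  by_contra hcon
  push Not at hcon
  refine h (inf_eq_left.1 (Coprime.eq_of_forall_invariant_pgroup_le (A := (⊥ : Subgroup S))
    (K := X) (S := X ⊓ Y) bot_le (by rw [card_bot]; exact Nat.coprime_one_left _)
    (Or.inl inferInstance) inf_le_left fun l P₀ hl hP hle _ => le_inf hle (hcon l hl P₀ hP hle)))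

/-- In a nilpotent section a `p`-group lies outside the span of the elements of order prime
to `p`. -/
theorem pGroup_le_of_le_sup_closure {D N' P₀ : Subgroup S} {p k : ℕ} [Fact p.Prime]
    (hDN : D ≤ normalizer (N' : Set S)) (hk : D.lowerCentralSeries k ≤ N') (hP : IsPGroup p P₀)
    (hPD : P₀ ≤ D) (hle : P₀ ≤ N' ⊔ closure {x | x ∈ D ∧ ¬ p ∣ orderOf x}) : P₀ ≤ N' := by
  have hn : (N'.subgroupOf D).Normal := Coprime.normal_subgroupOf_of_le_normalizer hDN
  let f := QuotientGroup.mk' (N'.subgroupOf D)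
  have hnil : Group.IsNilpotent (D ⧸ N'.subgroupOf D) := by
    rw [Subgroup.nilpotent_iff_lowerCentralSeries]
    refine ⟨k, ?_⟩
    rw [← map_top_of_surjective f (QuotientGroup.mk'_surjective _), ← map_lowerCentralSeries,
      Subgroup.map_eq_bot_iff, QuotientGroup.ker_mk']
    intro x hx
    refine hk ?_
    rw [← top_subtype_lowerCentralSeries]
    exact ⟨x, hx, rfl⟩
  set L := closure {x | x ∈ D ∧ ¬ p ∣ orderOf x} with hL
  let B : Subgroup S := ((pPrimeCore p (D ⧸ N'.subgroupOf D)).comap f).map D.subtype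
  have hLB : L ≤ B := by
    refine (closure_le _).2 fun x ⟨hx, hord⟩ => ⟨⟨x, hx⟩, ?_, rfl⟩
    show f ⟨x, hx⟩ ∈ pPrimeCore p _
    refine OddOrder.mem_of_forall_primePart fun l hl hd u hu ⟨e, he⟩ => ?_
    have := Fact.mk hl
    have hlp : l ≠ p := by
      rintro rfl
      exact hord (hd.trans ((orderOf_map_dvd f _).trans (orderOf_mk x hx).dvd))
    refine PCore.pCore_le_pPrimeCore hlp (Subnormal.mem_pCore_of_mem_fittingSubgroup ?_ he)
    exact Components.le_fittingSubgroup (N := ⊤) inferInstance (mem_top u)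
  intro x hx
  obtain ⟨n, hn', l, hl, rfl⟩ := (Coprime.mem_sup_iff_of_le_normalizer' (H := L) (N := N')
    (((closure_le _).2 fun y hy => hy.1).trans hDN)).1 (sup_comm N' L ▸ hle hx)
  obtain ⟨⟨y, hyD⟩, hy, rfl⟩ := hLB hl
  have hy' : f ⟨n * y, hPD hx⟩ = f ⟨y, hyD⟩ := by
    show f (⟨n, by simpa using mul_mem (hPD hx) (inv_mem hyD)⟩ * ⟨y, hyD⟩) = _
    rw [map_mul, show f ⟨n, _⟩ = 1 from (QuotientGroup.eq_one_iff _).2 hn', one_mul]
  obtain ⟨e, he⟩ := hP ⟨n * y, hx⟩
  have he' : f ⟨n * y, hPD hx⟩ ^ p ^ e = 1 := by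
    rw [← map_pow, show (⟨n * y, hPD hx⟩ : D) ^ p ^ e = 1 from Subtype.ext (by
      simpa using congrArg Subtype.val he), map_one]
  have h1 : orderOf (f ⟨n * y, hPD hx⟩) = 1 := Nat.eq_one_of_dvd_coprimes
    (PCore.coprime_card_pPrimeCore.pow_right e)
    (by rw [hy']; exact Subgroup.orderOf_dvd_natCard _ hy) (orderOf_dvd_of_pow_eq_one he')
  have h2 : f ⟨n * y, hPD hx⟩ = 1 := orderOf_eq_one_iff.1 h1
  exact (QuotientGroup.eq_one_iff (N := N'.subgroupOf D) _).1 h2

theorem mem_normalizer_closure {T : Set S} {g : S} (h : ∀ x ∈ T, g * x * g⁻¹ ∈ T) :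
    g ∈ normalizer (closure T : Set S) := by
  refine mem_normalizer_fintype fun x hx => ?_
  induction hx using closure_induction with
  | mem y hy => exact subset_closure (h y hy)
  | one => simp
  | mul y z _ _ h1 h2 =>
    rw [show g * (y * z) * g⁻¹ = (g * y * g⁻¹) * (g * z * g⁻¹) by group]
    exact mul_mem h1 h2
  | inv y _ h1 =>
    rw [show g * y⁻¹ * g⁻¹ = (g * y * g⁻¹)⁻¹ by group]
    exact inv_mem h1

/-- The data of one step. -/
theorem exists_step {G : Subgroup S} {a : S} {r : ℕ} (hA : Ambient G a r) (j : ℕ) (H N : Subgroup S)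
    {l : ℕ} [Fact l.Prime] (hHG : H ≤ G) (haH : a ∈ normalizer (H : Set S))
    (hHN : H ≤ normalizer (N : Set S)) (haN : a ∈ normalizer (N : Set S)) {P₀ : Subgroup S}
    (hP : IsPGroup l P₀) (hPle : P₀ ≤ resid H j) (hPn : ¬ P₀ ≤ N ⊔ resid H (j + 1)) :
    ∃ P N'' : Subgroup S, IsPGroup l P ∧ P ≤ resid H j ∧ a ∈ normalizer (P : Set S) ∧
      ¬ P ≤ N'' ∧ N ⊔ resid H (j + 1) ≤ N'' ∧ H ≤ normalizer (N'' : Set S) ∧
      a ∈ normalizer (N'' : Set S) ∧ resid H j ≤ P ⊔ N'' ∧
      H ≤ N'' ⊔ (H ⊓ normalizer (P : Set S)) := by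
  set D := resid H j with hD
  set N' := N ⊔ resid H (j + 1) with hN'
  set L := closure {x | x ∈ D ∧ ¬ l ∣ orderOf x} with hL
  have hnL : ∀ g, g ∈ normalizer (D : Set S) → g ∈ normalizer (L : Set S) := fun g hg =>
    mem_normalizer_closure fun x hx => ⟨(mem_normalizer_iff.1 hg x).1 hx.1, by
      rw [show g * x * g⁻¹ = MulAut.conj g x from rfl, MulEquiv.orderOf_eq]; exact hx.2⟩
  have hHD : H ≤ normalizer (D : Set S) := le_normalizer_resid H j
  have haD : a ∈ normalizer (D : Set S) := mem_normalizer_resid haH j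
  have hHN' : H ≤ normalizer (N' : Set S) := fun g hg =>
    mem_normalizer_sup (hHN hg) (le_normalizer_resid H (j + 1) hg)
  obtain ⟨P, hPa⟩ := Coprime.exists_invariant_sylow (hA.zpowers_le haD)
    (hA.coprime ((resid_le H j).trans hHG)) (Or.inl inferInstance) l
  set P₁ := (P : Subgroup D).map D.subtype with hP₁
  have hP₁D : P₁ ≤ D := map_subtype_le _
  have hHN'' : H ≤ normalizer ((N' ⊔ L : Subgroup S) : Set S) := fun g hg =>
    mem_normalizer_sup (hHN' hg) (hnL g (hHD hg))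
  have hDle : D ≤ P₁ ⊔ L := by
    set X := P₁ ⊔ L with hX
    have hXD : X ≤ D := sup_le hP₁D ((closure_le _).2 fun y hy => hy.1)
    refine (Subgroup.eq_of_le_of_card_ge hXD (Nat.le_of_dvd Nat.card_pos ?_)).ge
    refine (Nat.dvd_iff_prime_pow_dvd_dvd _ _).2 fun q e hq hdvd => ?_
    have := Fact.mk hq
    rcases eq_or_ne q l with rfl | hql
    · refine dvd_trans ?_ (card_dvd_of_le (le_sup_left : P₁ ≤ X))
      rw [hP₁, card_map_of_injective D.subtype_injective, P.card_eq_multiplicity]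
      exact Nat.pow_dvd_pow q ((hq.pow_dvd_iff_le_factorization Nat.card_pos.ne').1 hdvd)
    · obtain ⟨U, hU⟩ := Sylow.exists_subgroup_card_pow_prime q hdvd
      rw [← hU, ← card_map_of_injective D.subtype_injective]
      refine card_dvd_of_le (le_trans ?_ (le_sup_right : L ≤ X))
      rintro _ ⟨u, hu, rfl⟩
      refine subset_closure ⟨u.2, fun hd => hql ?_⟩
      have h1 : orderOf (u : S) ∣ q ^ e := hU ▸ (orderOf_coe u).symm ▸ (orderOf_mk u hu) ▸
        orderOf_dvd_natCard (⟨u, hu⟩ : U)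
      exact ((Nat.prime_dvd_prime_iff_eq Fact.out hq).1
        ((Fact.out : l.Prime).dvd_of_dvd_pow (hd.trans h1))).symm
  have hconj : ∀ g ∈ normalizer (D : Set S), ∃ d ∈ D, d⁻¹ * g ∈ normalizer (P₁ : Set S) := by
    intro g hg
    obtain ⟨d, hd, hdg⟩ := Coprime.exists_mem_conj_sylow_eq P hg
    refine ⟨d, hd, Coprime.mem_normalizer_of_conj_smul_eq ?_⟩
    rw [← Coprime.conj_smul_smul, ← hdg, Coprime.conj_smul_smul, inv_mul_cancel, map_one, one_smul]
  refine ⟨P₁, N' ⊔ L, P.2.map _, hP₁D, hPa (mem_zpowers a), fun hle => hPn ?_, le_sup_left, hHN'',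
    mem_normalizer_sup (mem_normalizer_sup haN (mem_normalizer_resid haH _)) (hnL a haD),
    hDle.trans (sup_le_sup le_rfl le_sup_right), fun h hh => ?_⟩
  · -- `P₀` would be in the span of the elements of order prime to `l`
    obtain ⟨k, hk, -⟩ := exists_nilRes_eq D
    refine pGroup_le_of_le_sup_closure ((resid_le H j).trans hHN') (k := k)
      (hk ▸ (le_sup_right : resid H (j + 1) ≤ N')) hP hPle fun x hx => ?_
    obtain ⟨Q, hQ⟩ := (hP.comap_subtype : IsPGroup l (P₀.subgroupOf D)).exists_le_sylow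
    obtain ⟨d, hd⟩ := MulAction.exists_smul_eq D P Q
    have hxQ : (⟨x, hPle hx⟩ : D) ∈ (Q : Subgroup D) := hQ hx
    rw [← hd, Sylow.coe_subgroup_smul, Coprime.mem_conj_smul_iff] at hxQ
    have h1 : (d : S)⁻¹ * x * d ∈ N' ⊔ L := hle ⟨_, hxQ, rfl⟩
    have h2 := (mem_normalizer_iff.1 (hHN'' (resid_le H j d.2)) _).1 h1
    rwa [show (d : S) * ((d : S)⁻¹ * x * d) * (d : S)⁻¹ = x by group] at h2
  · obtain ⟨d, hd, hdh⟩ := hconj h (hHD hh)
    have h1 : d⁻¹ * h ∈ H ⊓ normalizer (P₁ : Set S) :=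
      ⟨H.mul_mem (H.inv_mem (resid_le H j hd)) hh, hdh⟩
    have h2 : P₁ ⊔ L ≤ (N' ⊔ L) ⊔ (H ⊓ normalizer (P₁ : Set S)) :=
      sup_le (le_trans (le_inf (hP₁D.trans (resid_le H j)) le_normalizer) le_sup_right)
        (le_sup_right.trans le_sup_left)
    have := mul_mem (h2 (hDle hd))
      ((le_sup_right : _ ≤ (N' ⊔ L) ⊔ (H ⊓ normalizer (P₁ : Set S))) h1)
    rwa [mul_inv_cancel_left] at this

/-- A `p`-group `U` is not `[U, D]` when `D` acts on it as a `p`-group. -/
theorem commutator_ne_of_le_sup_centralizer {Q : Type*} [Group Q] [Finite Q] {l : ℕ} [Fact l.Prime]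
    {U D Ps : Subgroup Q} (hU : IsPGroup l U) (hPs : IsPGroup l Ps)
    (hPsU : Ps ≤ normalizer (U : Set Q)) (hne : U ≠ ⊥)
    (hD : D ≤ Ps ⊔ centralizer (U : Set Q)) : ⁅U, D⁆ ≠ U := by
  intro h
  have hlt : ⁅U, Ps⁆ < U := Coprime.commutator_lt_of_isPGroup hPs hU hPsU hne
  refine hlt.not_ge (h.ge.trans (commutator_le.2 fun u hu d hd => ?_))
  have hle : Ps ⊔ centralizer (U : Set Q) ≤ modCent U ⁅U, Ps⁆ := sup_le
    (fun g hg => ⟨normalizer_commutator_ge_right U _ hg, fun y hy => commutator_mem_commutator hy hg⟩)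
    fun g hg => ⟨mem_normalizer_fintype fun z hz => by
      rw [← mem_centralizer_iff.1 hg z (hlt.le hz), mul_inv_cancel_right]; exact hz,
      fun y hy => by
        rw [commutatorElement_eq_one_iff_mul_comm.2 (mem_centralizer_iff.1 hg y hy)]
        exact one_mem _⟩
  exact (hle (hD hd)).2 u hu

/-- A product of commuting elements, the second of `l`-power order, whose order is prime to `l`,
lies where the first lies. -/
theorem mul_mem_of_coprime {Q : Type*} [Group Q] {C : Subgroup Q} {c u : Q} {l m e e' : ℕ}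
    (hl : l.Prime) (hm : m.Prime) (hml : m ≠ l) (hc : c ∈ C) (hcu : Commute c u)
    (hu : u ^ l ^ e' = 1) (hpow : (c * u) ^ m ^ e = 1) : c * u ∈ C := by
  obtain ⟨t, ht⟩ := exists_pow_eq_self_of_coprime (n := l ^ e') (x := c * u)
    ((((Nat.coprime_primes hl hm).2 hml.symm).pow e' e).coprime_dvd_right
      (orderOf_dvd_of_pow_eq_one hpow))
  rw [← ht, hcu.mul_pow, hu, mul_one]
  exact pow_mem (pow_mem hc _) t

/-- The prime of the next layer differs. -/
theorem exists_next {G : Subgroup S} {a : S} {r : ℕ} (_hA : Ambient G a r) {j : ℕ}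
    {H P N'' : Subgroup S} {l : ℕ} [Fact l.Prime] (hP : IsPGroup l P)
    (hPle : P ≤ resid H (j + 1)) (hne : ¬ P ≤ N'')
    (hH : H ≤ normalizer (N'' : Set S)) (hD : resid H (j + 1) ≤ P ⊔ N'')
    (hfr : H ≤ N'' ⊔ (H ⊓ normalizer (P : Set S))) :
    ∃ m : ℕ, m.Prime ∧ m ≠ l ∧ ∃ P₀ : Subgroup S, IsPGroup m P₀ ∧
      P₀ ≤ resid (H ⊓ normalizer (P : Set S)) j ∧
      ¬ P₀ ≤ ((H ⊓ normalizer (P : Set S)) ⊓ modCent P N'') ⊔
        resid (H ⊓ normalizer (P : Set S)) (j + 1) := by
  set H' := H ⊓ normalizer (P : Set S) with hH'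
  set D' := resid H' j with hD'
  by_contra hcon
  push Not at hcon
  set W : Subgroup S := normalizer (N'' : Set S) with hW
  have hn : (N''.subgroupOf W).Normal := Coprime.normal_subgroupOf_of_le_normalizer le_rfl
  let f := QuotientGroup.mk' (N''.subgroupOf W)
  have hPH : P ≤ H := hPle.trans (resid_le H _)
  have hH'W : H' ≤ W := inf_le_left.trans hH
  have hD'W : D' ≤ W := (resid_le H' j).trans hH'W
  have him : (N''.subgroupOf W).map f = ⊥ := by
    rw [Subgroup.map_eq_bot_iff, QuotientGroup.ker_mk']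
  have hres : ∀ (X : Subgroup S) (i : ℕ), X ≤ W →
      ((resid X i).subgroupOf W).map f = resid ((X.subgroupOf W).map f) i :=
    fun X i hX => by rw [resid_subgroupOf hX, map_resid]
  have himH : (H.subgroupOf W).map f = (H'.subgroupOf W).map f := by
    refine le_antisymm ?_ (map_mono fun x hx => hx.1)
    refine le_trans (map_mono (comap_mono hfr)) (le_of_eq ?_)
    show ((N'' ⊔ H').subgroupOf W).map f = _
    rw [subgroupOf_sup le_normalizer hH'W, Subgroup.map_sup, him, bot_sup_eq]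
  set U := (P.subgroupOf W).map f with hU
  have hUD : ((resid H (j + 1)).subgroupOf W).map f = U := by
    refine le_antisymm ?_ (map_mono (comap_mono hPle))
    refine le_trans (map_mono (comap_mono hD)) (le_of_eq ?_)
    show ((P ⊔ N'').subgroupOf W).map f = _
    rw [subgroupOf_sup (hPH.trans hH) le_normalizer, Subgroup.map_sup, him, sup_bot_eq]
  have hUcomm : ⁅U, (D'.subgroupOf W).map f⁆ = U := by
    rw [hres H' j hH'W, ← himH, ← hUD, hres H (j + 1) hH]
    exact resid_commutator _ j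
  have hUp : IsPGroup l U := (hP.comap_subtype).map f
  have hUne : U ≠ ⊥ := fun h => hne fun x hx => by
    have : f ⟨x, hPH.trans hH hx⟩ ∈ U := ⟨⟨x, hPH.trans hH hx⟩, hx, rfl⟩
    rw [h, mem_bot, QuotientGroup.mk'_apply, QuotientGroup.eq_one_iff] at this
    exact this
  set Cc := centralizer (U : Set (W ⧸ N''.subgroupOf W)) with hCc
  have hcent : ∀ x : W, (x : S) ∈ modCent P N'' → f x ∈ Cc := by
    intro x hx
    rw [mem_centralizer_iff]
    rintro _ ⟨y, hy, rfl⟩
    rw [← commutatorElement_eq_one_iff_mul_comm, ← map_commutatorElement]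
    exact (QuotientGroup.eq_one_iff _).2 (hx.2 _ hy)
  -- the elements of the other primes centralise `U`
  set X : Subgroup S := (Cc.comap f).map W.subtype with hX
  have hnorm : resid H' (j + 1) ≤ normalizer ((H' ⊓ modCent P N'' : Subgroup S) : Set S) :=
    fun g hg => inf_normalizer_le_normalizer_inf ⟨le_normalizer (resid_le H' _ hg),
      mem_normalizer_modCent (resid_le H' _ hg).2 (hH (resid_le H' _ hg).1)⟩
  have hother : ∀ m : ℕ, m.Prime → m ≠ l → ∀ P₀ : Subgroup S, IsPGroup m P₀ → P₀ ≤ D' → P₀ ≤ X := by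
    intro m hm hml P₀ hP₀ hP₀D y hy
    have hy' := hcon m hm hml P₀ hP₀ hP₀D hy
    rw [sup_comm] at hy'
    obtain ⟨c, hc, u, hu, rfl⟩ := (Coprime.mem_sup_iff_of_le_normalizer' hnorm).1 hy'
    have hcW : c ∈ W := hH'W hc.1
    have huW : u ∈ W := hH'W (resid_le H' _ hu)
    have h1 : f ⟨c, hcW⟩ ∈ Cc := hcent ⟨c, hcW⟩ hc.2
    have h2 : f ⟨u, huW⟩ ∈ U := hUD ▸ ⟨⟨u, huW⟩, resid_mono inf_le_left _ hu, rfl⟩
    obtain ⟨e, he⟩ := hP₀ ⟨c * u, hy⟩
    obtain ⟨e', he'⟩ := hUp ⟨_, h2⟩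
    refine ⟨⟨c * u, mul_mem hcW huW⟩, ?_, rfl⟩
    show f (⟨c, hcW⟩ * ⟨u, huW⟩) ∈ Cc
    rw [map_mul]
    refine mul_mem_of_coprime (e := e) (e' := e') (Fact.out : l.Prime) hm hml h1
      (mem_centralizer_iff.1 h1 _ h2).symm (congrArg Subtype.val he') ?_
    rw [← map_mul, ← map_pow, show (⟨c, hcW⟩ * ⟨u, huW⟩ : W) ^ m ^ e = 1 from
      Subtype.ext (by simpa using congrArg Subtype.val he), map_one]
  obtain ⟨Ps⟩ : Nonempty (Sylow l D') := inferInstance
  set Ps' := (Ps : Subgroup D').map D'.subtype with hPs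
  have hXD : D' ≤ Ps' ⊔ (D' ⊓ X) := by
    refine (Subgroup.eq_of_le_of_card_ge (sup_le (map_subtype_le _) inf_le_left)
      (Nat.le_of_dvd Nat.card_pos ?_)).ge
    refine (Nat.dvd_iff_prime_pow_dvd_dvd _ _).2 fun q e hq hdvd => ?_
    have := Fact.mk hq
    rcases eq_or_ne q l with rfl | hql
    · refine dvd_trans ?_ (card_dvd_of_le (le_sup_left : Ps' ≤ Ps' ⊔ (D' ⊓ X)))
      rw [hPs, card_map_of_injective D'.subtype_injective, Ps.card_eq_multiplicity]
      exact Nat.pow_dvd_pow q ((hq.pow_dvd_iff_le_factorization Nat.card_pos.ne').1 hdvd)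
    · obtain ⟨V, hV⟩ := Sylow.exists_subgroup_card_pow_prime q hdvd
      rw [← hV, ← card_map_of_injective D'.subtype_injective]
      exact card_dvd_of_le (le_trans (le_inf (map_subtype_le _)
        (hother q hq hql _ ((IsPGroup.of_card hV).map _) (map_subtype_le _))) le_sup_right)
  refine commutator_ne_of_le_sup_centralizer (Ps := (Ps'.subgroupOf W).map f)
    (D := (D'.subgroupOf W).map f) hUp (((Ps.2.map _).comap_subtype).map f) ?_ hUne ?_ hUcomm
  · rintro _ ⟨g, hg, rfl⟩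
    refine mem_normalizer_fintype ?_
    rintro _ ⟨y, hy, rfl⟩
    exact ⟨g * y * g⁻¹, (mem_normalizer_iff.1 (resid_le H' j (map_subtype_le _ hg)).2 _).1 hy,
      by rw [map_mul, map_mul, map_inv]⟩
  · refine (map_mono (comap_mono hXD)).trans ?_
    show ((Ps' ⊔ (D' ⊓ X)).subgroupOf W).map f ≤ _
    rw [subgroupOf_sup ((map_subtype_le _).trans hD'W) (inf_le_left.trans hD'W), Subgroup.map_sup]
    refine sup_le_sup le_rfl ?_
    rintro _ ⟨g, ⟨-, g', hg', he⟩, rfl⟩
    obtain rfl : g' = g := Subtype.ext he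
    exact hg'

/-- Existence of chains. -/
theorem exists_chain {G : Subgroup S} {a : S} {r : ℕ} (hA : Ambient G a r) :
    ∀ (j : ℕ) (H N : Subgroup S) (q : ℕ), H ≤ G → a ∈ normalizer (H : Set S) →
      H ≤ normalizer (N : Set S) → a ∈ normalizer (N : Set S) →
      (∃ l : ℕ, l.Prime ∧ l ≠ q ∧ ∃ P₀ : Subgroup S, IsPGroup l P₀ ∧ P₀ ≤ resid H j ∧
        ¬ P₀ ≤ N ⊔ resid H (j + 1)) →
      ∃ P K p, Chain G a j P K p ∧ (∀ i ≤ j, P i ≤ H) ∧ p j ≠ q ∧ N ≤ K j := by
  intro j
  induction j with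
  | zero =>
    rintro H N q hHG haH hHN haN ⟨l, hl, hlq, P₀, hP₀, hP₀le, hP₀n⟩
    have := Fact.mk hl
    obtain ⟨P, N'', hP, hPle, hPa, hne, hNle, hn, han, -, -⟩ :=
      exists_step hA 0 H N hHG haH hHN haN hP₀ hP₀le hP₀n
    refine ⟨fun _ => P, fun _ => N'', fun _ => l, ⟨fun _ _ => hl, fun _ _ => hP,
      fun _ _ => hPle.trans hHG, fun _ _ => hPa, fun i k h h' => by omega, fun i h => by omega,
      fun _ _ => hne, han, fun _ _ => hPle.trans hn, fun i h => by omega⟩,
      fun _ _ => hPle, hlq, le_sup_left.trans hNle⟩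
  | succ j ih =>
    rintro H N q hHG haH hHN haN ⟨l, hl, hlq, P₀, hP₀, hP₀le, hP₀n⟩
    have := Fact.mk hl
    obtain ⟨P, N'', hP, hPle, hPa, hne, hNle, hn, han, hD, hfr⟩ :=
      exists_step hA (j + 1) H N hHG haH hHN haN hP₀ hP₀le hP₀n
    set H' := H ⊓ normalizer (P : Set S) with hH'
    have haH' : a ∈ normalizer (H' : Set S) := inf_normalizer_le_normalizer_inf
      ⟨haH, mem_normalizer_fintype fun x hx => mul_mem (mul_mem hPa hx) (inv_mem hPa)⟩
    set N2 := H' ⊓ modCent P N'' with hN2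
    obtain ⟨P', K', p', hc, hle, hpq, hNK⟩ := ih H' N2 l (inf_le_left.trans hHG) haH'
      (fun g hg => inf_normalizer_le_normalizer_inf
        ⟨le_normalizer hg, mem_normalizer_modCent hg.2 (hn hg.1)⟩)
      (inf_normalizer_le_normalizer_inf ⟨haH', mem_normalizer_modCent hPa han⟩)
      (exists_next hA hP hPle hne hn hD hfr)
    refine ⟨fun i => if i ≤ j then P' i else P, fun i => if i ≤ j then K' i else N'',
      fun i => if i ≤ j then p' i else l, ?_, fun i _ => ?_, ?_, ?_⟩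
    · have hj : ¬ j + 1 ≤ j := by omega
      refine ⟨fun i _ => ?_, fun i _ => ?_, fun i _ => ?_, fun i _ => ?_, fun i k hk hi => ?_,
        fun i hi => ?_, fun i _ => ?_, ?_, fun i _ => ?_, fun i hi x hx hxy => ?_⟩
      · split_ifs with h
        exacts [hc.prime i h, hl]
      · show IsPGroup (if i ≤ j then p' i else l) (↥(if i ≤ j then P' i else P : Subgroup S))
        by_cases h : i ≤ j
        · rw [show (if i ≤ j then P' i else P) = P' i from if_pos h, if_pos h]
          exact hc.pgroup i h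
        · rw [show (if i ≤ j then P' i else P) = P from if_neg h, if_neg h]
          exact hP
      · split_ifs with h
        exacts [hc.le i h, (hPle.trans (resid_le H _)).trans hHG]
      · split_ifs with h
        exacts [hc.inv i h, hPa]
      · rw [if_pos (show k ≤ j by omega)]
        split_ifs with h
        exacts [hc.norm i k hk h, fun x hx => (hle k (by omega) hx).2]
      · rw [if_pos (show i ≤ j by omega)]
        split_ifs with h
        · exact hc.pne i (by omega)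
        · rwa [show i = j by omega]
      · split_ifs with h
        exacts [hc.notK i h, hne]
      · rw [if_neg hj]
        exact han
      · rw [if_neg hj]
        split_ifs with h
        exacts [fun x hx => hn (hle i h hx).1, hPle.trans ((resid_le H _).trans hn)]
      · rw [if_pos (show i ≤ j by omega)] at hx ⊢
        by_cases h : i + 1 ≤ j
        · simp only [if_pos h] at hxy
          exact hc.kle i (by omega) x hx hxy
        · simp only [if_neg h] at hxy
          obtain rfl : i = j := by omega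
          exact hNK ⟨hle i le_rfl hx, hn (hle i le_rfl hx).1, hxy⟩
    · dsimp only
      split_ifs with h
      exacts [fun x hx => (hle i h hx).1, hPle.trans (resid_le H _)]
    · simp [hlq]
    · simp only [show ¬ j + 1 ≤ j by omega, if_false]
      exact le_sup_left.trans hNle

end Cfsg.Agent.TurullHeight
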