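import Mathlib.Algebra.Order.Chebyshev
import Mathlib.Algebra.BigOperators.Ring.Finset
import Mathlib.Tactic.NormNum
import Mathlib.Tactic.Linarith
import Mathlib.Tactic.Ring

/-!
# Multiplicities with the least possible spread

`exists_exceptional`: natural numbers `d i` (`b` of them) with `b * ∑ d² + 1 = (∑ d)² + b` are all
equal except one, which differs by one.
-/

set_option autoImplicit false

namespace Cfsg.Agent.TurullHeight

open Finset

/-- `b` natural numbers with `b * ∑ d² - (∑ d)² = b - 1` are equal except one, off by one. -/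
theorem exists_exceptional {ι : Type*} [Fintype ι] (d : ι → ℕ) {b : ℕ} (hb : Fintype.card ι = b)
    (hb2 : 2 ≤ b) (h : b * ∑ i, d i ^ 2 + 1 = (∑ i, d i) ^ 2 + b) :
    ∃ j t, (∀ i, i ≠ j → d i = t) ∧ (d j = t + 1 ∨ d j + 1 = t) := by
  classical
  have hne : (univ : Finset ι).Nonempty := by
    rw [← card_pos, card_univ, hb]; omega
  obtain ⟨i₀, -, hi₀⟩ := exists_min_image univ d hne
  set m := d i₀ with hm
  set e : ι → ℕ := fun i => d i - m with he
  have hd : ∀ i, d i = m + e i := fun i => by
    have := hi₀ i (mem_univ i)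
    simp only [he]; omega
  have h1 : ∑ i, d i = b * m + ∑ i, e i := by
    simp only [hd, sum_add_distrib, sum_const, card_univ, hb, smul_eq_mul]
  have h2 : ∑ i, d i ^ 2 = b * m ^ 2 + 2 * m * (∑ i, e i) + ∑ i, e i ^ 2 := by
    simp only [hd, add_sq, sum_add_distrib, sum_const, card_univ, hb, smul_eq_mul, mul_sum]
  have h' : b * ∑ i, e i ^ 2 + 1 = (∑ i, e i) ^ 2 + b := by
    rw [h1, h2] at h; ring_nf at h ⊢; linarith
  set S := univ.filter fun i => e i ≠ 0 with hS
  have hsum : ∑ i, e i = ∑ i ∈ S, e i := (sum_filter_ne_zero _).symm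
  have hsum2 : ∑ i, e i ^ 2 = ∑ i ∈ S, e i ^ 2 := by
    refine (sum_subset (subset_univ S) fun i _ hi => ?_).symm
    simp only [hS, mem_filter, mem_univ, true_and, not_not] at hi
    rw [hi]; norm_num
  have hge : S.card ≤ ∑ i ∈ S, e i ^ 2 := by
    rw [card_eq_sum_ones]
    refine sum_le_sum fun i hi => ?_
    simp only [hS, mem_filter, mem_univ, true_and] at hi
    exact Nat.one_le_pow _ _ (Nat.pos_of_ne_zero hi)
  have hcs : (∑ i ∈ S, e i) ^ 2 ≤ S.card * ∑ i ∈ S, e i ^ 2 := sq_sum_le_card_mul_sum_sq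
  have hlt : S.card < b := by
    rw [← hb, ← card_univ]
    refine card_lt_card ((ssubset_univ_iff).2 fun hu => ?_)
    have : i₀ ∈ S := hu ▸ mem_univ i₀
    simp [hS, he, hm] at this
  rw [hsum, hsum2] at h'
  obtain ⟨c, hc⟩ := Nat.exists_eq_add_of_lt hlt
  set E := ∑ i ∈ S, e i ^ 2 with hE
  have hk1 : 1 ≤ S.card := by
    by_contra h0
    have : S = ∅ := card_eq_zero.1 (by omega)
    rw [hE, this] at h'
    simp at h'; omega
  have hle : (c + 1) * E + 1 ≤ b := by
    have : (S.card + c + 1) * E = S.card * E + (c + 1) * E := by ring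
    rw [hc] at h' ⊢
    omega
  have h11 : (c + 1) * S.card ≤ (c + 1) * E := Nat.mul_le_mul_left _ hge
  have hcases : S.card = 1 ∨ c = 0 := by
    rcases Nat.eq_zero_or_pos c with h0 | hpos
    · exact Or.inr h0
    · refine Or.inl (le_antisymm ?_ hk1)
      by_contra h2
      have : 2 * c ≤ S.card * c := Nat.mul_le_mul_right c (by omega)
      have : S.card * 1 ≤ S.card * c := Nat.mul_le_mul_left _ hpos
      have : (c + 1) * S.card = S.card * c + S.card := by ring
      nlinarith [Nat.mul_le_mul (show 2 ≤ S.card by omega) hpos]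
  have hone : ∀ i ∈ S, e i = 1 := by
    intro i hi
    have hi0 : 1 ≤ e i := by
      simp only [hS, mem_filter, mem_univ, true_and] at hi
      omega
    have hEle : E ≤ S.card := by
      rcases hcases with h1 | h0
      · rw [h1] at hc ⊢
        by_contra hE2
        have : (c + 1) * 2 ≤ (c + 1) * E := Nat.mul_le_mul_left _ (by omega)
        omega
      · subst h0; omega
    by_contra hne1
    have : ∑ j ∈ S, 1 < E := by
      refine sum_lt_sum (fun j hj => ?_) ⟨i, hi, ?_⟩
      · simp only [hS, mem_filter, mem_univ, true_and] at hj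
        exact Nat.one_le_pow _ _ (Nat.pos_of_ne_zero hj)
      · have : 2 ^ 2 ≤ e i ^ 2 := Nat.pow_le_pow_left (by omega) 2
        omega
    rw [← card_eq_sum_ones] at this
    omega
  have hzero : ∀ i, i ∉ S → e i = 0 := fun i hi => by
    simpa [hS] using hi
  rcases hcases with h1 | h0
  · obtain ⟨j, hj⟩ := card_eq_one.1 h1
    refine ⟨j, m, fun i hi => ?_, Or.inl ?_⟩
    · rw [hd, hzero i (by rw [hj, mem_singleton]; exact hi), add_zero]
    · rw [hd, hone j (by rw [hj]; exact mem_singleton_self j)]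
  · subst h0
    have hcompl : (univ \ S).card = 1 := by
      rw [card_sdiff_of_subset (subset_univ S), card_univ, hb]; omega
    obtain ⟨j, hj⟩ := card_eq_one.1 hcompl
    refine ⟨j, m + 1, fun i hi => ?_, Or.inr ?_⟩
    · rw [hd, hone i (by
        by_contra hiS
        have : i ∈ univ \ S := mem_sdiff.2 ⟨mem_univ i, hiS⟩
        rw [hj, mem_singleton] at this
        exact hi this)]
    · rw [hd, hzero j (mem_sdiff.1 (hj.ge (mem_singleton_self j))).2]

end Cfsg.Agent.TurullHeight
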