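import Cfsg.Agent.Lib.TurullHeight.Frame
import Cfsg.Agent.Lib.TurullHeight.Variance
import Mathlib.RingTheory.RootsOfUnity.AlgebraicallyClosed
import Mathlib.RingTheory.RootsOfUnity.PrimitiveRoots
import Mathlib.GroupTheory.PGroup

/-!
# An operator of prime order without fixed points on the lines of a frame

`Setup π r`: `π : Q →* End W` abelian up to scalars, `A` of order `r` on `W` inducing `α` on `Q`,
without fixed points on `Q` modulo the scalar subgroup. `Split`: `A = β₁ * ι γ` with `γ` in the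
matrix algebra and `β₁` centralising it, so that the eigen-idempotents `ι (e j)`, `f i` split `W`.
-/

set_option autoImplicit false

namespace Cfsg.Agent.TurullHeight

open Finset Module
open FittingHeight (scalarSub)

variable {k W : Type*} [Field k] [AddCommGroup W] [Module k W] {Q : Type*} [Group Q]

/-- `B` induces `β` on the operators `π x`. -/
def Intertwines (π : Q →* Module.End k W) (B : (Module.End k W)ˣ) (β : MulAut Q) : Prop :=
  ∀ x, (B : Module.End k W) * π x = π (β x) * B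

namespace Intertwines

variable {π : Q →* Module.End k W} {B C : (Module.End k W)ˣ} {β γ : MulAut Q}

theorem mul (hB : Intertwines π B β) (hC : Intertwines π C γ) :
    Intertwines π (B * C) (β * γ) := fun x => by
  rw [Units.val_mul, mul_assoc, hC, ← mul_assoc, hB, mul_assoc, MulAut.mul_apply]

theorem one : Intertwines π 1 1 := fun x => by simp

theorem pow (hB : Intertwines π B β) : ∀ n : ℕ, Intertwines π (B ^ n) (β ^ n)
  | 0 => by rw [pow_zero, pow_zero]; exact one
  | n + 1 => by rw [pow_succ, pow_succ]; exact (hB.pow n).mul hB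

theorem apply_eq (hB : Intertwines π B β) (x : Q) :
    π (β x) = (B : Module.End k W) * π x * (B⁻¹ : (Module.End k W)ˣ) := by
  rw [hB, mul_assoc, Units.mul_inv, mul_one]

theorem eq_of_unit_eq (hB : Intertwines π B β) (hC : Intertwines π B γ) (x : Q) :
    π (β x) = π (γ x) := by rw [hB.apply_eq, hC.apply_eq]

theorem mem_scalarSub_iff (hB : Intertwines π B β) (x : Q) :
    β x ∈ scalarSub π ↔ x ∈ scalarSub π := by
  constructor
  · rintro ⟨c, hc⟩
    refine ⟨c, B.isUnit.mul_left_cancel ?_⟩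
    rw [hB x, hc, mul_smul_comm, mul_one, smul_mul_assoc, one_mul]
  · rintro ⟨c, hc⟩
    exact ⟨c, by rw [hB.apply_eq, hc, mul_smul_comm, mul_one, smul_mul_assoc, Units.mul_inv]⟩

theorem congr (hB : Intertwines π B β) {x y : Q} (h : (x : Q ⧸ scalarSub π) = y) :
    ((β x : Q) : Q ⧸ scalarSub π) = (β y : Q) := by
  rw [QuotientGroup.eq] at h ⊢
  rw [← map_inv, ← map_mul, hB.mem_scalarSub_iff]
  exact h

theorem mk_comm (hB : Intertwines π B β) (hC : Intertwines π C γ) (hBC : B * C = C * B) (x : Q) :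
    ((β (γ x) : Q) : Q ⧸ scalarSub π) = (γ (β x) : Q) := by
  rw [QuotientGroup.eq]
  refine ⟨1, ?_⟩
  have h : π (β (γ x)) = π (γ (β x)) := by
    have h1 := (hB.mul hC).apply_eq x
    rw [hBC, ← (hC.mul hB).apply_eq] at h1
    exact h1
  rw [map_mul, ← h, ← map_mul, inv_mul_cancel, map_one, one_smul]

end Intertwines

/-- The data of the section. -/
structure Setup (π : Q →* Module.End k W) (r : ℕ) where
  comm : ∀ x y, ∃ c : k, π x * π y = c • (π y * π x)
  cent : ∀ x, (∀ y, π x * π y = π y * π x) → x ∈ scalarSub π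
  /-- the operator -/
  A : (Module.End k W)ˣ
  /-- the automorphism it induces -/
  α : MulAut Q
  intertwines : Intertwines π A α
  hr : r.Prime
  A_pow : A ^ r = 1
  r_ne : (r : k) ≠ 0
  fpf : ∀ x, x⁻¹ * α x ∈ scalarSub π → x ∈ scalarSub π

namespace Setup

variable {π : Q →* Module.End k W} {r : ℕ} (c : Setup π r)

include c

theorem mk_comm (x y : Q) : ((x * y : Q) : Q ⧸ scalarSub π) = (y * x : Q) := by
  rw [QuotientGroup.eq]
  obtain ⟨a, ha⟩ := c.comm y x
  exact ⟨a, by
    rw [map_mul, map_mul π y, ha, mul_smul_comm, ← map_mul, ← map_mul, inv_mul_cancel, map_one]⟩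

theorem mk_alpha_pow_r (x : Q) : (((c.α ^ r) x : Q) : Q ⧸ scalarSub π) = x := by
  rw [QuotientGroup.eq]
  refine ⟨1, ?_⟩
  have h := (c.intertwines.pow r).apply_eq x
  rw [c.A_pow, Units.val_one, one_mul, inv_one, Units.val_one, mul_one] at h
  rw [map_mul, ← h, ← map_mul, inv_mul_cancel, map_one, one_smul]

theorem mk_alpha_pow_mul (x : Q) (n : ℕ) : (((c.α ^ (r * n)) x : Q) : Q ⧸ scalarSub π) = x := by
  induction n with
  | zero => rfl
  | succ n ih =>
    rw [Nat.mul_succ, pow_add, MulAut.mul_apply]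
    exact ((c.intertwines.pow _).congr (c.mk_alpha_pow_r x)).trans ih

theorem mk_alpha_pow_iterate {x : Q} {i : ℕ} (h : (((c.α ^ i) x : Q) : Q ⧸ scalarSub π) = x)
    (n : ℕ) : (((c.α ^ (i * n)) x : Q) : Q ⧸ scalarSub π) = x := by
  induction n with
  | zero => rfl
  | succ n ih =>
    rw [Nat.mul_succ, pow_add, MulAut.mul_apply]
    exact ((c.intertwines.pow _).congr h).trans ih

/-- `α` permutes the non-trivial classes in orbits of length `r`. -/
theorem dvd_of_mk_alpha_pow {x : Q} (hx : x ∉ scalarSub π) {i : ℕ}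
    (h : (((c.α ^ i) x : Q) : Q ⧸ scalarSub π) = x) : r ∣ i := by
  by_contra hri
  obtain ⟨m, hm⟩ := Nat.exists_mul_mod_eq_one_of_coprime
    ((c.hr.coprime_iff_not_dvd.2 hri).symm) c.hr.one_lt
  have h1 := c.mk_alpha_pow_iterate h m
  rw [← Nat.div_add_mod (i * m) r, hm.2, add_comm, pow_add, pow_one, MulAut.mul_apply] at h1
  have h2 := c.intertwines.congr (c.mk_alpha_pow_mul x ((i * m) / r))
  rw [h1] at h2
  exact hx (c.fpf x (QuotientGroup.eq.1 h2))

theorem free {x : Q} (hx : x ∉ scalarSub π) {i : ℕ} (h0 : 0 < i) (hi : i < r) :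
    x⁻¹ * (c.α ^ i) x ∉ scalarSub π := fun h =>
  absurd (Nat.le_of_dvd h0 (c.dvd_of_mk_alpha_pow hx (QuotientGroup.eq.2 h).symm)) (not_le.2 hi)

/-- An operator commuting with `A` and inducing the identity on the classes commutes with all
`π x`. -/
theorem apply_eq_of_mk_eq [Finite Q] [Nontrivial W] {B : (Module.End k W)ˣ} {β : MulAut Q}
    (hB : Intertwines π B β) (hBA : B * c.A = c.A * B)
    (hid : ∀ x, ((β x : Q) : Q ⧸ scalarSub π) = x) (x : Q) : π (β x) = π x := by
  have hex : ∀ x, ∃ a : k, π (β x) = a • π x := fun x => by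
    obtain ⟨a, ha⟩ := (QuotientGroup.eq.1 (hid x).symm : x⁻¹ * β x ∈ scalarSub π)
    exact ⟨a, by
      conv_lhs => rw [← mul_inv_cancel_left x (β x), map_mul, ha, mul_smul_comm, mul_one]⟩
  choose a ha using hex
  have huniq : ∀ {u v : k} (y : Q), u • π y = v • π y → u = v := fun y h =>
    smul_left_injective k (FittingHeight.apply_ne_zero y) h
  have hmul : ∀ x y, a (x * y) = a x * a y := fun x y => huniq (x * y) (by
    rw [← ha, map_mul, map_mul, ha, ha, smul_mul_smul_comm, map_mul])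
  have hscal : ∀ x ∈ scalarSub π, a x = 1 := fun x hx => huniq x (by
    obtain ⟨s, hs⟩ := hx
    rw [← ha, one_smul, hB.apply_eq, hs, mul_smul_comm, mul_one, smul_mul_assoc, Units.mul_inv])
  have hαa : ∀ x, a (c.α x) = a x := fun x => huniq (c.α x) (by
    rw [← ha, hB.apply_eq, c.intertwines.apply_eq]
    have h := congrArg (fun u : Module.End k W => (c.A : Module.End k W) * u * (c.A⁻¹ : (Module.End k W)ˣ))
      (ha x)
    simp only [hB.apply_eq, mul_smul_comm, smul_mul_assoc] at h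
    rw [← h]
    have e1 : (B : Module.End k W) * c.A = c.A * B := by rw [← Units.val_mul, hBA, Units.val_mul]
    have e2 : ((c.A⁻¹ : (Module.End k W)ˣ) : Module.End k W) * (B⁻¹ : (Module.End k W)ˣ) =
        (B⁻¹ : (Module.End k W)ˣ) * (c.A⁻¹ : (Module.End k W)ˣ) := by
      rw [← Units.val_mul, ← Units.val_mul, ← mul_inv_rev, ← mul_inv_rev, hBA]
    simp only [mul_assoc, e2]
    rw [← mul_assoc (B : Module.End k W), e1, mul_assoc])
  let D : Q ⧸ scalarSub π → Q ⧸ scalarSub π := fun q => ((q.out⁻¹ * c.α q.out : Q) : Q ⧸ scalarSub π)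
  have hD : Function.Injective D := by
    intro q₁ q₂ h
    rw [← QuotientGroup.out_eq' q₁, ← QuotientGroup.out_eq' q₂, eq_comm, QuotientGroup.eq]
    refine c.fpf _ ((QuotientGroup.eq_one_iff _).1 ?_)
    simp only [map_mul, map_inv, mul_inv_rev, inv_inv, QuotientGroup.mk_mul, QuotientGroup.mk_inv]
    have h' : ((q₁.out : Q) : Q ⧸ scalarSub π)⁻¹ * (c.α q₁.out : Q) =
        ((q₂.out : Q) : Q ⧸ scalarSub π)⁻¹ * (c.α q₂.out : Q) := h
    have hcm : ∀ a b : Q ⧸ scalarSub π, a * b = b * a := by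
      intro a b
      induction a using QuotientGroup.induction_on with | _ x => ?_
      induction b using QuotientGroup.induction_on with | _ y => ?_
      exact c.mk_comm x y
    let _ : CommGroup (Q ⧸ scalarSub π) := { mul_comm := hcm }
    calc ((q₁.out : Q) : Q ⧸ scalarSub π)⁻¹ * (q₂.out : Q) *
          (((c.α q₂.out : Q) : Q ⧸ scalarSub π)⁻¹ * (c.α q₁.out : Q))
        = (((q₁.out : Q) : Q ⧸ scalarSub π)⁻¹ * (c.α q₁.out : Q)) *
          (((q₂.out : Q) : Q ⧸ scalarSub π)⁻¹ * (c.α q₂.out : Q))⁻¹ := by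
          rw [mul_inv_rev, inv_inv]
          simp only [mul_assoc]
          congr 1
          rw [← mul_assoc, ← mul_assoc, hcm (_ * _) (c.α q₁.out : Q ⧸ scalarSub π),
            hcm ((q₂.out : Q) : Q ⧸ scalarSub π) _, mul_assoc]
      _ = 1 := by rw [h', mul_inv_cancel]
  obtain ⟨q, hq⟩ := Finite.surjective_of_injective hD (x : Q ⧸ scalarSub π)
  obtain ⟨s, hs, hxs⟩ : ∃ s ∈ scalarSub π, x = q.out⁻¹ * c.α q.out * s :=
    ⟨_, QuotientGroup.eq.1 hq, (mul_inv_cancel_left _ _).symm⟩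
  have h1 : a 1 = 1 := hscal 1 (one_mem _)
  rw [ha, hxs, hmul, hmul, hscal s hs, hαa, ← hmul, inv_mul_cancel, h1, mul_one, one_smul]

/-- The index of the scalar subgroup is a power of `p`. -/
theorem exists_index_eq [Finite Q] {p : ℕ} (hp : p.Prime) (hexp : ∀ x, x ^ p ∈ scalarSub π) :
    ∃ n, (scalarSub π).index = p ^ n := by
  have := Fact.mk hp
  have h : IsPGroup p (Q ⧸ scalarSub π) := fun q => ⟨1, by
    induction q using QuotientGroup.induction_on with | _ x => ?_
    rw [pow_one, ← QuotientGroup.mk_pow, QuotientGroup.eq_one_iff]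
    exact hexp x⟩
  obtain ⟨n, hn⟩ := IsPGroup.iff_card.1 h
  exact ⟨n, by rw [Subgroup.index_eq_card, hn]⟩

end Setup

variable {π : Q →* Module.End k W} {r : ℕ}

/-- The splitting of `A`. -/
structure Split (c : Setup π r) where
  /-- the frame -/
  F : Frame π
  /-- the automorphism of the matrix algebra -/
  ψ : Module.End k (Fin F.m → k) ≃ₐ[k] Module.End k (Fin F.m → k)
  ψ_u : ∀ x, ψ (F.u x) = F.u (c.α x)
  ψ_ι : ∀ z, F.ι (ψ z) = conjEnd c.A (F.ι z)
  /-- the operator implementing it -/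
  γ : Module.End k (Fin F.m → k)
  γ_pow : γ ^ r = 1
  γ_ψ : ∀ z, γ * z = ψ z * γ
  /-- a root of unity -/
  ζ : k
  ζ_prim : IsPrimitiveRoot ζ r

theorem exists_split [Nontrivial W] [IsAlgClosed k] [FiniteDimensional k W] [Finite Q]
    (c : Setup π r) : Nonempty (Split c) := by
  obtain ⟨F⟩ := exists_frame c.comm c.cent
  obtain ⟨ψ, hu, hι⟩ := F.exists_conj c.A c.α c.intertwines
  obtain ⟨γ, hγ, hγψ⟩ := F.exists_implement ψ c.hr.ne_zero (fun z => F.ι_inj (by
    have h : ∀ i, F.ι ((ψ.toLinearMap ^ i) z) = conjEnd (c.A ^ i) (F.ι z) := by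
      intro i
      induction i with
      | zero => simp [conjEnd_apply]
      | succ i ih =>
        rw [pow_succ', Module.End.mul_apply]
        show F.ι (ψ _) = _
        rw [hι, ih, conjEnd_apply, conjEnd_apply, conjEnd_apply, pow_succ' c.A i, mul_inv_rev,
          Units.val_mul, Units.val_mul]
        simp only [mul_assoc]
    rw [h, c.A_pow, conjEnd_apply, inv_one, Units.val_one, one_mul, mul_one]))
  have : NeZero (r : k) := ⟨c.r_ne⟩
  obtain ⟨ζ, hζ⟩ := HasEnoughRootsOfUnity.exists_primitiveRoot k r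
  exact ⟨⟨F, ψ, hu, hι, γ, hγ, hγψ, ζ, hζ⟩⟩

namespace Split

variable {c : Setup π r} (S : Split c)

/-- The part of `A` centralising the algebra. -/
def β₁ : Module.End k W := (c.A : Module.End k W) * S.F.ι (S.γ ^ (r - 1))

/-- The eigen-idempotents in the algebra. -/
noncomputable def e (j : Fin r) : Module.End k (Fin S.F.m → k) := eigenIdem r S.γ S.ζ j

/-- The eigen-idempotents of the centralising part. -/
noncomputable def f (i : Fin r) : Module.End k W := eigenIdem r S.β₁ S.ζ i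

/-- The multiplicities. -/
noncomputable def d (j : Fin r) : ℕ := finrank k (LinearMap.range (S.e j))

theorem γ'_mul : S.γ ^ (r - 1) * S.γ = 1 := by
  rw [← pow_succ, Nat.sub_add_cancel c.hr.one_le, S.γ_pow]

theorem mul_γ' : S.γ * S.γ ^ (r - 1) = 1 := by
  rw [← pow_succ', Nat.sub_add_cancel c.hr.one_le, S.γ_pow]

theorem γ_isUnit : IsUnit S.γ := IsUnit.of_pow_eq_one S.γ_pow c.hr.ne_zero

theorem ψ_γ : S.ψ S.γ = S.γ := S.γ_isUnit.mul_right_cancel (S.γ_ψ S.γ).symm

theorem γ'_ψ (z : Module.End k (Fin S.F.m → k)) :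
    S.γ ^ (r - 1) * S.ψ z = z * S.γ ^ (r - 1) := by
  calc S.γ ^ (r - 1) * S.ψ z = S.γ ^ (r - 1) * (S.ψ z * S.γ) * S.γ ^ (r - 1) := by
        rw [mul_assoc, mul_assoc, S.mul_γ', mul_one]
    _ = z * S.γ ^ (r - 1) := by rw [← S.γ_ψ, ← mul_assoc (S.γ ^ (r - 1)), S.γ'_mul, one_mul]

theorem A_ι (z : Module.End k (Fin S.F.m → k)) :
    (c.A : Module.End k W) * S.F.ι z = S.F.ι (S.ψ z) * c.A := by
  rw [S.ψ_ι, conjEnd_apply, mul_assoc, Units.inv_mul, mul_one]

theorem commute_A_ι {z : Module.End k (Fin S.F.m → k)} (h : S.ψ z = z) :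
    Commute (c.A : Module.End k W) (S.F.ι z) := by
  show _ * _ = _ * _
  rw [A_ι, h]

theorem ψ_pow_γ (n : ℕ) : S.ψ (S.γ ^ n) = S.γ ^ n := by rw [map_pow, S.ψ_γ]

theorem β₁_commute (z : Module.End k (Fin S.F.m → k)) : Commute (S.F.ι z) S.β₁ := by
  show _ * _ = _ * _
  rw [β₁]
  calc S.F.ι z * ((c.A : Module.End k W) * S.F.ι (S.γ ^ (r - 1)))
      = S.F.ι (z * S.γ ^ (r - 1)) * c.A := by
        rw [(S.commute_A_ι (S.ψ_pow_γ (r - 1))).eq, ← mul_assoc, ← map_mul]
    _ = S.F.ι (S.ψ (S.γ ^ (r - 1) * z)) * c.A := by rw [map_mul S.ψ, S.ψ_pow_γ, S.γ'_ψ]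
    _ = (c.A : Module.End k W) * S.F.ι (S.γ ^ (r - 1)) * S.F.ι z := by
        rw [← A_ι, map_mul, mul_assoc]

theorem β₁_ι_γ : S.β₁ * S.F.ι S.γ = (c.A : Module.End k W) := by
  rw [β₁, mul_assoc, ← map_mul, S.γ'_mul, map_one, mul_one]

theorem β₁_pow : S.β₁ ^ r = 1 := by
  rw [β₁, (S.commute_A_ι (S.ψ_pow_γ (r - 1))).mul_pow, ← Units.val_pow_eq_pow_val, c.A_pow,
    Units.val_one, one_mul, ← map_pow, ← pow_mul, mul_comm, pow_mul, S.γ_pow, one_pow, map_one]

theorem he : CompleteOrthogonalIdempotents S.e :=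
  completeOrthogonalIdempotents_eigenIdem S.γ_pow S.ζ_prim c.hr.ne_zero c.r_ne

theorem hf : CompleteOrthogonalIdempotents S.f :=
  completeOrthogonalIdempotents_eigenIdem S.β₁_pow S.ζ_prim c.hr.ne_zero c.r_ne

theorem f_commute (z : Module.End k (Fin S.F.m → k)) (i : Fin r) : Commute (S.F.ι z) (S.f i) :=
  commute_eigenIdem (S.β₁_commute z) i

theorem ψ_e (j : Fin r) : S.ψ (S.e j) = S.e j :=
  S.γ_isUnit.mul_right_cancel (((S.γ_ψ (S.e j)).symm).trans
    (commute_eigenIdem (Commute.refl S.γ) j).eq)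

theorem A_commute_e (j : Fin r) : Commute (c.A : Module.End k W) (S.F.ι (S.e j)) :=
  S.commute_A_ι (S.ψ_e j)

theorem A_commute_f (i : Fin r) : Commute (c.A : Module.End k W) (S.f i) :=
  commute_eigenIdem (by
    rw [β₁]
    exact (Commute.refl _).mul_right (S.commute_A_ι (S.ψ_pow_γ _))) i

theorem A_mul (j i : Fin r) : (c.A : Module.End k W) * (S.F.ι (S.e j) * S.f i) =
    (S.ζ ^ ((j : ℕ) + i)) • (S.F.ι (S.e j) * S.f i) := by
  conv_lhs => rw [← S.β₁_ι_γ]
  rw [mul_assoc, ← mul_assoc (S.F.ι S.γ), ← map_mul]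
  rw [show S.γ * S.e j = S.ζ ^ (j : ℕ) • S.e j from mul_eigenIdem S.γ_pow S.ζ_prim j, map_smul,
    smul_mul_assoc, mul_smul_comm, ← mul_assoc, ← (S.β₁_commute (S.e j)).eq, mul_assoc,
    show S.β₁ * S.f i = S.ζ ^ (i : ℕ) • S.f i from mul_eigenIdem S.β₁_pow S.ζ_prim i, mul_smul_comm,
    smul_smul, ← pow_add]

theorem sum_ef (x : W) : ∑ j, ∑ i, S.F.ι (S.e j) (S.f i x) = x := by
  simp only [← map_sum]
  have h1 : ∑ i, S.f i x = x := by
    rw [← LinearMap.sum_apply, S.hf.complete, Module.End.one_apply]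
  rw [h1, ← LinearMap.sum_apply, ← map_sum, S.he.complete, map_one, Module.End.one_apply]

theorem sum_f_apply (x : W) : ∑ i, S.f i x = x := by
  rw [← LinearMap.sum_apply, S.hf.complete, Module.End.one_apply]

/-- The fixed vectors only have components with `j + i ≡ 0`. -/
theorem eq_zero_or_of_fixed {x : W} (hx : (c.A : Module.End k W) x = x) (j i : Fin r) :
    S.F.ι (S.e j) (S.f i x) = 0 ∨ S.ζ ^ ((j : ℕ) + i) = 1 := by
  refine (em _).imp_right fun hne => ?_
  have h1 : (c.A : Module.End k W) (S.F.ι (S.e j) (S.f i x)) =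
      S.ζ ^ ((j : ℕ) + i) • S.F.ι (S.e j) (S.f i x) := LinearMap.congr_fun (S.A_mul j i) x
  have h2 : (c.A : Module.End k W) (S.F.ι (S.e j) (S.f i x)) = S.F.ι (S.e j) (S.f i x) := by
    rw [← Module.End.mul_apply, ← Module.End.mul_apply, mul_assoc,
      ((S.A_commute_e j).mul_right (S.A_commute_f i)).eq, Module.End.mul_apply, hx,
      Module.End.mul_apply]
  rw [h1] at h2
  exact smul_left_injective k hne (h2.trans (one_smul k _).symm)

theorem fixed_apply {j i : Fin r} (h : S.ζ ^ ((j : ℕ) + i) = 1) (y : W) :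
    (c.A : Module.End k W) (S.F.ι (S.e j) (S.f i y)) = S.F.ι (S.e j) (S.f i y) := by
  have := LinearMap.congr_fun (S.A_mul j i) y
  rw [h, one_smul] at this
  exact this

/-- Both factors non-zero make the product non-zero. -/
theorem ef_ne_zero {j i : Fin r} (hj : S.e j ≠ 0) (hi : S.f i ≠ 0) :
    S.F.ι (S.e j) * S.f i ≠ 0 := fun h => hj (S.F.faithful (fun z => S.f_commute z i) hi h)

/-- `j` meets the fixed vectors. -/
def Supp (j : Fin r) : Prop := ∃ x, (c.A : Module.End k W) x = x ∧ S.F.ι (S.e j) x ≠ 0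

theorem exists_partner {j : Fin r} (hj : S.Supp j) :
    ∃ i, S.f i ≠ 0 ∧ S.ζ ^ ((j : ℕ) + i) = 1 := by
  obtain ⟨x, hx, hne⟩ := hj
  obtain ⟨i, hi⟩ : ∃ i, S.F.ι (S.e j) (S.f i x) ≠ 0 := by
    by_contra h
    push Not at h
    refine hne ?_
    rw [← S.sum_f_apply x, map_sum]
    exact sum_eq_zero fun i _ => h i
  refine ⟨i, fun h => hi ?_, (S.eq_zero_or_of_fixed hx j i).resolve_left hi⟩
  rw [h, LinearMap.zero_apply, map_zero]

theorem supp_of {j i : Fin r} (hj : S.e j ≠ 0) (hi : S.f i ≠ 0)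
    (h : S.ζ ^ ((j : ℕ) + i) = 1) : S.Supp j := by
  obtain ⟨y, hy⟩ : ∃ y, S.F.ι (S.e j) (S.f i y) ≠ 0 := by
    by_contra hc
    push Not at hc
    exact S.ef_ne_zero hj hi (LinearMap.ext hc)
  refine ⟨_, S.fixed_apply h y, ?_⟩
  rwa [← Module.End.mul_apply, ← map_mul, (S.he.idem j).eq]

theorem exists_supp {x : W} (hx : (c.A : Module.End k W) x = x) (hx0 : x ≠ 0) : ∃ j, S.Supp j := by
  by_contra h
  push Not at h
  apply hx0
  rw [← S.sum_ef x]
  refine sum_eq_zero fun j _ => ?_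
  rw [← map_sum, S.sum_f_apply]
  exact not_not.1 fun hne => h j ⟨x, hx, hne⟩

theorem d_eq_zero_iff [FiniteDimensional k W] (j : Fin r) : S.d j = 0 ↔ S.e j = 0 := by
  rw [d, Submodule.finrank_eq_zero, LinearMap.range_eq_bot]

theorem sum_d : ∑ j, S.d j = S.F.m := by
  rw [show (∑ j, S.d j) = _ from finrank_range_sum S.he, finrank_pi, Fintype.card_fin]

variable [Nontrivial W] [IsAlgClosed k] [FiniteDimensional k W] [Finite Q]

/-- All multiplicities equal but one, which differs by one. -/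
theorem exists_dims : ∃ j t, (∀ i, i ≠ j → S.d i = t) ∧ (S.d j = t + 1 ∨ S.d j + 1 = t) := by
  have hpow : S.ψ.toLinearMap ^ r = 1 := by
    refine LinearMap.ext fun z => (S.γ_isUnit.pow r).mul_right_cancel ?_
    have h2 : ∀ i, S.γ ^ i * z = (S.ψ.toLinearMap ^ i) z * S.γ ^ i := by
      intro i
      induction i with
      | zero => simp
      | succ i ih =>
        rw [pow_succ' S.γ, mul_assoc, ih, ← mul_assoc, S.γ_ψ, mul_assoc,
          pow_succ' S.ψ.toLinearMap, Module.End.mul_apply]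
        rfl
    rw [← h2, S.γ_pow, one_mul, mul_one, Module.End.one_apply]
  have h1 := (S.F.fixed_free c.comm c.cent S.ψ c.α S.ψ_u c.hr.ne_zero hpow
    fun x hx i h0 hi => c.free hx h0 hi).1
  rw [S.F.ker_eq_commutant c.hr.ne_zero c.r_ne S.ζ_prim S.γ_pow S.γ_ψ] at h1
  rw [show finrank k (commutant (eigenIdem r S.γ S.ζ)) = _ from finrank_commutant S.he] at h1
  refine exists_exceptional S.d (Fintype.card_fin r) c.hr.two_le ?_
  rw [S.sum_d, sq S.F.m]
  exact h1

theorem two_le_m (h : ∃ x, x ∉ scalarSub π) : 2 ≤ S.F.m := by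
  by_contra hm
  obtain ⟨x, hx⟩ := h
  have := S.F.m_pos
  have h1 : (scalarSub π).index = 1 := by rw [S.F.index_eq, show S.F.m = 1 by omega]
  rw [Subgroup.index_eq_one] at h1
  exact hx (h1 ▸ Subgroup.mem_top x)

/-- A bound for the fixed vectors. -/
theorem finrank_fixed_le {D : ℕ} (hD : ∀ j, S.d j ≤ D) :
    finrank k (LinearMap.ker ((c.A : Module.End k W) - 1)) * S.F.m ≤ D * finrank k W := by
  classical
  let g : Fin r → Module.End k W := fun i =>
    if h : ∃ j : Fin r, S.ζ ^ ((j : ℕ) + i) = 1 then S.F.ι (S.e h.choose) * S.f i else 0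
  have hle : LinearMap.ker ((c.A : Module.End k W) - 1) ≤ ⨆ i, LinearMap.range (g i) := by
    intro x hx
    rw [LinearMap.mem_ker, LinearMap.sub_apply, Module.End.one_apply, sub_eq_zero] at hx
    rw [← S.sum_ef x]
    refine Submodule.sum_mem _ fun j _ => Submodule.sum_mem _ fun i _ => ?_
    rcases S.eq_zero_or_of_fixed hx j i with h | h
    · rw [h]; exact zero_mem _
    refine Submodule.mem_iSup_of_mem i ?_
    have hex : ∃ j : Fin r, S.ζ ^ ((j : ℕ) + i) = 1 := ⟨j, h⟩
    have hj : hex.choose = j := by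
      have h1 := hex.choose_spec
      rw [pow_add] at h h1
      refine Fin.ext (S.ζ_prim.pow_inj hex.choose.2 j.2 ?_)
      exact mul_right_cancel₀ (pow_ne_zero _ (S.ζ_prim.ne_zero c.hr.ne_zero)) (h1.trans h.symm)
    rw [show g i = S.F.ι (S.e j) * S.f i by simp only [g, dif_pos hex, hj]]
    exact ⟨x, rfl⟩
  have h2 : finrank k (⨆ i, LinearMap.range (g i) : Submodule k W) ≤
      ∑ i, finrank k (LinearMap.range (g i)) := by
    rw [← iSup_univ, show (⨆ i ∈ (Set.univ : Set (Fin r)), LinearMap.range (g i)) =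
      (univ : Finset (Fin r)).sup fun i => LinearMap.range (g i) by simp [Finset.sup_eq_iSup]]
    generalize (univ : Finset (Fin r)) = s
    induction s using Finset.induction_on with
    | empty => simp
    | @insert a s ha ih =>
      rw [sup_insert, sum_insert ha]
      exact (Submodule.finrank_add_le_finrank_add_finrank _ _).trans (Nat.add_le_add_left ih _)
  calc finrank k (LinearMap.ker ((c.A : Module.End k W) - 1)) * S.F.m
      ≤ (∑ i, finrank k (LinearMap.range (g i))) * S.F.m :=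
        Nat.mul_le_mul_right _ ((Submodule.finrank_mono hle).trans h2)
    _ = ∑ i, finrank k (LinearMap.range (g i)) * S.F.m := by rw [sum_mul]
    _ ≤ ∑ i, D * finrank k (LinearMap.range (S.f i)) := sum_le_sum fun i _ => by
        by_cases h : ∃ j : Fin r, S.ζ ^ ((j : ℕ) + i) = 1
        · rw [show g i = S.F.ι (S.e h.choose) * S.f i from dif_pos h, S.F.rank (S.he.idem _) (S.hf.idem i) fun z => S.f_commute z i]
          exact Nat.mul_le_mul_right _ (hD _)
        · rw [show g i = 0 from dif_neg h, LinearMap.range_zero, finrank_bot, zero_mul]; exact Nat.zero_le _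
    _ = D * finrank k W := by rw [← mul_sum, finrank_range_sum S.hf]

end Split

end Cfsg.Agent.TurullHeight
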