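import Cfsg.Agent.Lib.TurullHeight.Blockwise

/-!
# Operators fixing the fixed vectors of an operator of prime order

`Setup.eq_or_inv`: an operator commuting with `A`, fixing its fixed vectors (not all zero), of
`s`-power period on the classes (`s ≠ r`, `s` not the exponent) moves no class or, `s = 2`, inverts
all of them.
-/

set_option autoImplicit false

namespace Cfsg.Agent.TurullHeight

open Finset Module
open FittingHeight (scalarSub)

variable {k W : Type*} [Field k] [AddCommGroup W] [Module k W] [Nontrivial W] [IsAlgClosed k]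
  [FiniteDimensional k W] {Q : Type*} [Group Q] [Finite Q] {π : Q →* Module.End k W} {r : ℕ}

namespace Split

variable {c : Setup π r} (S : Split c)

/-- If only one block meets the fixed vectors, `A` is in the algebra up to the commutant. -/
theorem commute_of_unique (hu : S.Unique) {op : Module.End k W} (hop : ∀ x, Commute op (π x)) :
    Commute op (c.A : Module.End k W) := by
  obtain ⟨j, hj, hothers⟩ := hu
  obtain ⟨i₀, -, hi₀⟩ := S.exists_partner hj
  have hj0 : S.e j ≠ 0 := fun h => by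
    obtain ⟨x, -, hx⟩ := hj
    exact hx (by rw [h, map_zero, LinearMap.zero_apply])
  have honly : ∀ i, i ≠ i₀ → S.f i = 0 := by
    intro i hi
    by_contra hf
    let i' : Fin r := ⟨(r - i) % r, Nat.mod_lt _ c.hr.pos⟩
    have hi' : S.ζ ^ ((i' : ℕ) + i) = 1 := by
      rw [S.ζ_prim.pow_eq_one_iff_dvd, Nat.dvd_iff_mod_eq_zero]
      show ((r - i) % r + i) % r = 0
      rw [Nat.mod_add_mod, Nat.sub_add_cancel i.2.le, Nat.mod_self]
    by_cases hij : i' = j
    · refine hi (Fin.ext (S.ζ_prim.pow_inj i.2 i₀.2 ?_))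
      rw [hij, pow_add] at hi'
      rw [pow_add] at hi₀
      exact mul_left_cancel₀ (pow_ne_zero _ (S.ζ_prim.ne_zero c.hr.ne_zero)) (hi'.trans hi₀.symm)
    · have hne : S.e i' ≠ 0 := fun h => (hothers i' hij).1 ((S.d_eq_zero_iff i').2 h)
      exact (hothers i' hij).2 (S.supp_of hne hf hi')
  have hf1 : S.f i₀ = 1 := by
    rw [← S.hf.complete, sum_eq_single i₀ (fun i _ hi => honly i hi)
      (fun h => absurd (mem_univ _) h)]
  have hβ : S.β₁ = S.ζ ^ (i₀ : ℕ) • 1 := by
    have h : S.β₁ = ∑ i : Fin r, S.ζ ^ (i : ℕ) • S.f i :=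
      eq_sum_eigenIdem S.β₁_pow S.ζ_prim c.hr.ne_zero c.r_ne
    rw [h, sum_eq_single i₀ (fun i _ hi => by rw [honly i hi, smul_zero])
      (fun h => absurd (mem_univ _) h), hf1]
  rw [← S.β₁_ι_γ, hβ, smul_mul_assoc, one_mul]
  refine Commute.smul_right ?_ _
  have hall : ∀ z, Commute op (S.F.ι z) := by
    intro z
    have : z ∈ Submodule.span k (Set.range S.F.u) := by rw [S.F.span_u]; exact Submodule.mem_top
    induction this using Submodule.span_induction with
    | mem y hy =>
      obtain ⟨x, rfl⟩ := hy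
      rw [S.F.ι_u]; exact hop x
    | zero => rw [map_zero]; exact Commute.zero_right _
    | add y y' _ _ h h' => rw [map_add]; exact h.add_right h'
    | smul c' y _ h => rw [map_smul]; exact h.smul_right _
  exact hall _

end Split

/-- An automorphism restricted to a subgroup it preserves. -/
noncomputable def restrictAut (H : Subgroup Q) (α : MulAut Q) (h : ∀ x ∈ H, α x ∈ H) : MulAut H :=
  (α.subgroupMap H).trans (MulEquiv.subgroupCongr (by
    refine Subgroup.eq_of_le_of_card_ge (fun y hy => ?_) ?_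
    · obtain ⟨x, hx, rfl⟩ := hy
      exact h x hx
    · exact le_of_eq (Nat.card_congr (H.equivMapOfInjective _ α.injective).toEquiv)))

omit [Nontrivial W] [IsAlgClosed k] [FiniteDimensional k W] in
theorem coe_restrictAut {H : Subgroup Q} {α : MulAut Q} (h : ∀ x ∈ H, α x ∈ H) (x : H) :
    ((restrictAut H α h x : H) : Q) = α x := rfl

omit [Nontrivial W] [IsAlgClosed k] [FiniteDimensional k W] in
theorem restrictAut_pow {H : Subgroup Q} {α : MulAut Q} (h : ∀ x ∈ H, α x ∈ H) (n : ℕ) (x : H) :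
    (((restrictAut H α h ^ n) x : H) : Q) = (α ^ n) x := by
  induction n with
  | zero => rfl
  | succ n ih => rw [pow_succ', pow_succ', MulAut.mul_apply, MulAut.mul_apply, coe_restrictAut, ih]

namespace Intertwines

variable {B : (Module.End k W)ˣ} {β : MulAut Q} (hB : Intertwines π B β)

/-- The map induced on the classes. -/
def bar : Q ⧸ scalarSub π →* Q ⧸ scalarSub π :=
  QuotientGroup.map _ _ β.toMonoidHom fun x hx =>
    (Subgroup.mem_comap).2 ((hB.mem_scalarSub_iff x).2 hx)

omit [Nontrivial W] [IsAlgClosed k] [FiniteDimensional k W] [Finite Q] in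
theorem bar_mk (x : Q) : hB.bar (x : Q ⧸ scalarSub π) = ((β x : Q) : Q ⧸ scalarSub π) := rfl

end Intertwines

namespace Setup

variable (c : Setup π r)

/-- Without fixed vectors the index is `(r - 1) ^ 2`. -/
theorem index_of_no_fixed (hne : ∃ x, x ∉ scalarSub π)
    (hnf : ∀ x, (c.A : Module.End k W) x = x → x = 0) : (scalarSub π).index = (r - 1) ^ 2 := by
  obtain ⟨S⟩ := exists_split c
  obtain ⟨h, -⟩ := S.dims_of_no_fixed hne hnf
  rw [S.F.index_eq, sq, show r - 1 = S.F.m by omega]

/-- Without fixed vectors a commuting operator of period prime to `r` moves no class. -/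
theorem mk_eq_of_no_fixed (hne : ∃ x, x ∉ scalarSub π)
    (hnf : ∀ x, (c.A : Module.End k W) x = x → x = 0) {B : (Module.End k W)ˣ} {β : MulAut Q}
    (hB : Intertwines π B β) (hBA : B * c.A = c.A * B) {L : ℕ} (hL : ¬ r ∣ L)
    (hβL : ∀ x, (((β ^ L) x : Q) : Q ⧸ scalarSub π) = x) (x : Q) :
    ((β x : Q) : Q ⧸ scalarSub π) = x := by
  obtain ⟨S⟩ := exists_split c
  obtain ⟨T⟩ := exists_twist S hB hBA
  exact S.mk_eq_of_no_fixed hne hnf T hL hβL x

/-- The fixed vectors are few. -/
theorem exists_fixed_bound : ∃ m t, (scalarSub π).index = m * m ∧ m ≤ finrank k W ∧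
    ((m = r * t + 1 ∧
        finrank k (LinearMap.ker ((c.A : Module.End k W) - 1)) * m ≤ (t + 1) * finrank k W) ∨
      (m + 1 = r * t ∧
        finrank k (LinearMap.ker ((c.A : Module.End k W) - 1)) * m ≤ t * finrank k W)) := by
  classical
  obtain ⟨S⟩ := exists_split c
  obtain ⟨j, t, ht, hj⟩ := S.exists_dims
  refine ⟨S.F.m, t, S.F.index_eq, ?_, ?_⟩
  · have h := LinearMap.finrank_le_finrank_of_injective (f := S.F.ι.toLinearMap) S.F.ι_inj
    rw [Module.finrank_linearMap, Module.finrank_linearMap, finrank_pi, Fintype.card_fin] at h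
    exact Nat.mul_self_le_mul_self_iff.1 h
  have hsum : S.d j + (r - 1) * t = S.F.m := by
    rw [← S.sum_d, ← add_sum_erase univ S.d (mem_univ j),
      sum_congr rfl fun i hi => ht i (ne_of_mem_erase hi), sum_const,
      card_erase_of_mem (mem_univ _), card_univ, Fintype.card_fin, smul_eq_mul]
  have hrt : (r - 1) * t + t = r * t := by
    rw [← Nat.succ_mul, Nat.succ_eq_add_one, Nat.sub_add_cancel c.hr.one_le]
  rcases hj with h | h
  · refine Or.inl ⟨by omega, S.finrank_fixed_le fun i => ?_⟩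
    by_cases hi : i = j
    · rw [hi, h]
    · rw [ht i hi]; omega
  · refine Or.inr ⟨by omega, S.finrank_fixed_le fun i => ?_⟩
    by_cases hi : i = j
    · rw [hi]; omega
    · rw [ht i hi]

theorem mk_pow_mul {B : (Module.End k W)ˣ} {β : MulAut Q} (hB : Intertwines π B β) {b : ℕ} {x : Q}
    (h : (((β ^ b) x : Q) : Q ⧸ scalarSub π) = x) (n : ℕ) :
    (((β ^ (b * n)) x : Q) : Q ⧸ scalarSub π) = x := by
  rw [pow_mul]
  exact (hB.pow b).mk_iterate h n

/-- Free action of an automorphism of prime period without fixed classes. -/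
theorem free_of_prime {B : (Module.End k W)ˣ} {β : MulAut Q} (hB : Intertwines π B β) {s : ℕ}
    (hs : s.Prime) (hβs : ∀ x, (((β ^ s) x : Q) : Q ⧸ scalarSub π) = x)
    (hfpf : ∀ x, ((β x : Q) : Q ⧸ scalarSub π) = x → x ∈ scalarSub π) (x : Q)
    (hx : x ∉ scalarSub π) (i : ℕ) (h0 : 0 < i) (hi : i < s) :
    x⁻¹ * (β ^ i) x ∉ scalarSub π := by
  intro h
  obtain ⟨n, hn⟩ := Nat.exists_mul_mod_eq_one_of_coprime
    (((hs.coprime_iff_not_dvd).2 fun hd => absurd (Nat.le_of_dvd h0 hd) (not_le.2 hi)).symm)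
    hs.one_lt
  have h1 := mk_pow_mul hB ((QuotientGroup.eq.2 h).symm) n
  rw [← Nat.mod_add_div (i * n) s, hn.2, pow_add, pow_one, MulAut.mul_apply] at h1
  exact hx (hfpf x ((hB.congr (mk_pow_mul hB (hβs x) ((i * n) / s))).symm.trans h1))

include c in
theorem mk_commute (a b : Q ⧸ scalarSub π) : a * b = b * a := by
  induction a using QuotientGroup.induction_on with | _ x => ?_
  induction b using QuotientGroup.induction_on with | _ y => ?_
  exact c.mk_comm x y

variable {p : ℕ} (hp : p.Prime) (hexp : ∀ x, x ^ p ∈ scalarSub π)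
  {B : (Module.End k W)ˣ} {β : MulAut Q} (hB : Intertwines π B β) (hBA : B * c.A = c.A * B)
  (hfix : ∀ x, (c.A : Module.End k W) x = x → (B : Module.End k W) x = x)
  {x₀ : W} (hx₀ : (c.A : Module.End k W) x₀ = x₀) (hx₀' : x₀ ≠ 0)
  {s : ℕ} (hs : s.Prime) (hsr : s ≠ r) (hsp : s ≠ p)

include hp hexp hB hBA hfix hx₀ hx₀' hs hsr hsp

/-- The case of prime period. -/
theorem eq_or_inv_prime (hβs : ∀ x, (((β ^ s) x : Q) : Q ⧸ scalarSub π) = x)
    {y : Q} (hy : ((β y : Q) : Q ⧸ scalarSub π) ≠ y) :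
    s = 2 ∧ ∀ x, x * β x ∈ scalarSub π := by
  classical
  let _ : CommGroup (Q ⧸ scalarSub π) := { mul_comm := c.mk_commute }
  let D : Q ⧸ scalarSub π →* Q ⧸ scalarSub π :=
    { toFun := fun q => q⁻¹ * hB.bar q
      map_one' := by rw [inv_one, one_mul, map_one]
      map_mul' := fun a b => by rw [map_mul, mul_inv]; exact mul_mul_mul_comm _ _ _ _ }
  have hinj : ∀ q ∈ D.range, D q = 1 → q = 1 := by
    rintro _ ⟨u, rfl⟩ hD
    set q := D u with hq
    have hbq : hB.bar q = q := by
      have h : q⁻¹ * hB.bar q = 1 := hD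
      exact (inv_mul_eq_one.1 h).symm
    have hbu : hB.bar u = u * q := by rw [hq]; exact (mul_inv_cancel_left u _).symm
    have hpow : ∀ n, (fun v => hB.bar v)^[n] u = u * q ^ n := by
      intro n
      induction n with
      | zero => rw [Function.iterate_zero_apply, pow_zero, mul_one]
      | succ n ih =>
        rw [Function.iterate_succ_apply', ih, map_mul, map_pow, hbu, hbq, mul_assoc, ← pow_succ']
    have hper : ∀ n, (fun v => hB.bar v)^[n] u = (((β ^ n) u.out : Q) : Q ⧸ scalarSub π) := by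
      intro n
      induction n with
      | zero => exact (QuotientGroup.out_eq' u).symm
      | succ n ih => rw [Function.iterate_succ_apply', ih, pow_succ']; rfl
    have hs1 : q ^ s = 1 := by
      have := (hpow s).symm.trans ((hper s).trans ((hβs u.out).trans (QuotientGroup.out_eq' u)))
      exact mul_eq_left.1 this
    have hp1 : q ^ p = 1 := by
      induction q using QuotientGroup.induction_on with | _ z => ?_
      rw [← QuotientGroup.mk_pow, QuotientGroup.eq_one_iff]
      exact hexp z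
    have := pow_gcd_eq_one.2 ⟨hs1, hp1⟩
    rwa [(Nat.coprime_primes hs hp).2 hsp, pow_one] at this
  have hsplit : ∀ v, ∃ w ∈ D.range, D (w⁻¹ * v) = 1 := by
    intro v
    let g : D.range → D.range := fun w => ⟨D (w : Q ⧸ scalarSub π), _, rfl⟩
    have hg : Function.Injective g := fun w w' h => Subtype.ext (by
      have h' : D (w : Q ⧸ scalarSub π) = D (w' : Q ⧸ scalarSub π) := congrArg Subtype.val h
      refine inv_mul_eq_one.1 (hinj _ (mul_mem (inv_mem w.2) w'.2) ?_)
      rw [map_mul, map_inv, h', inv_mul_cancel])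
    obtain ⟨w, hw⟩ := Finite.surjective_of_injective hg ⟨D v, v, rfl⟩
    exact ⟨w, w.2, by rw [map_mul, map_inv, show D (w : Q ⧸ scalarSub π) = D v from
      congrArg Subtype.val hw, inv_mul_cancel]⟩
  set H := D.range.comap (QuotientGroup.mk' (scalarSub π)) with hH
  have hβH : ∀ x ∈ H, β x ∈ H := by
    rintro x ⟨u, hu⟩
    refine ⟨hB.bar u, ?_⟩
    rw [show ((QuotientGroup.mk' (scalarSub π)) (β x)) = hB.bar (D u) by rw [hu]; rfl]
    show (hB.bar u)⁻¹ * hB.bar (hB.bar u) = hB.bar (u⁻¹ * hB.bar u)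
    rw [map_mul, map_inv]
  have hαH : ∀ x ∈ H, c.α x ∈ H := by
    rintro x ⟨u, hu⟩
    refine ⟨c.intertwines.bar u, ?_⟩
    rw [show ((QuotientGroup.mk' (scalarSub π)) (c.α x)) = c.intertwines.bar (D u) by rw [hu]; rfl]
    show (c.intertwines.bar u)⁻¹ * hB.bar (c.intertwines.bar u) =
      c.intertwines.bar (u⁻¹ * hB.bar u)
    rw [map_mul, map_inv]
    congr 1
    induction u using QuotientGroup.induction_on with | _ z => ?_
    exact hB.mk_comm c.intertwines hBA z
  let π' : H →* Module.End k W := π.comp H.subtype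
  -- the complement commutes with the operators of `H`
  have hcommH : ∀ z : Q, ((β z : Q) : Q ⧸ scalarSub π) = z → ∀ x ∈ H, Commute (π z) (π x) := by
    rintro z hz x ⟨u, hu⟩
    induction u using QuotientGroup.induction_on with | _ w => ?_
    obtain ⟨a, ha⟩ := c.comm w z
    obtain ⟨e, he⟩ := (QuotientGroup.eq.1 hz : (β z)⁻¹ * z ∈ scalarSub π)
    obtain ⟨g, hg⟩ := (QuotientGroup.eq.1 hu : (w⁻¹ * β w)⁻¹ * x ∈ scalarSub π)
    have hβz : π (β z) * π ((β z)⁻¹ * z) = π z := by rw [← map_mul, mul_inv_cancel_left]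
    rw [he, mul_smul_comm, mul_one] at hβz
    have hbw : π (β w) * π z = a • (π z * π (β w)) := by
      have hconj : ∀ u v, π (β u) * π (β v) = conjEnd B (π u * π v) := fun u v => by
        rw [map_mul, conjEnd_apply, conjEnd_apply, ← hB.apply_eq, ← hB.apply_eq]
      have h1 : π (β w) * π (β z) = a • (π (β z) * π (β w)) := by
        rw [hconj, hconj, ha, map_smul]
      rw [← hβz, mul_smul_comm, h1, smul_mul_assoc, smul_comm]
    have hwi : π z * π w⁻¹ = a • (π w⁻¹ * π z) := by
      have h := congrArg (fun m => π w⁻¹ * m * π w⁻¹) ha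
      simp only [mul_smul_comm, smul_mul_assoc] at h
      rw [← mul_assoc (π w⁻¹) (π w), ← map_mul, inv_mul_cancel, map_one, one_mul] at h
      rw [h, mul_assoc, mul_assoc, ← map_mul, mul_inv_cancel, map_one, mul_one]
    have hx : π x = g • (π w⁻¹ * π (β w)) := by
      conv_lhs => rw [← mul_inv_cancel_left (w⁻¹ * β w) x, map_mul, hg, mul_smul_comm, mul_one, map_mul]
    rw [hx]
    refine Commute.smul_right ?_ g
    show π z * (π w⁻¹ * π (β w)) = π w⁻¹ * π (β w) * π z
    rw [← mul_assoc, hwi, smul_mul_assoc, mul_assoc, ← mul_smul_comm, ← hbw, mul_assoc]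
  have hdec : ∀ z : Q, ∃ h ∈ H, ((β (h⁻¹ * z) : Q) : Q ⧸ scalarSub π) = (h⁻¹ * z : Q) := by
    intro z
    obtain ⟨w, hw, hD⟩ := hsplit (z : Q ⧸ scalarSub π)
    refine ⟨w.out, ?_, ?_⟩
    · show QuotientGroup.mk' (scalarSub π) w.out ∈ D.range
      rw [QuotientGroup.mk'_apply, QuotientGroup.out_eq']; exact hw
    · have h : (w⁻¹ * (z : Q ⧸ scalarSub π))⁻¹ * hB.bar (w⁻¹ * (z : Q ⧸ scalarSub π)) = 1 := hD
      have e : w⁻¹ * (z : Q ⧸ scalarSub π) = ((w.out⁻¹ * z : Q) : Q ⧸ scalarSub π) := by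
        rw [QuotientGroup.mk_mul, QuotientGroup.mk_inv, QuotientGroup.out_eq']
      rw [e] at h
      exact (inv_mul_eq_one.1 h).symm
  have hscal : ∀ x : H, (x : Q) ∈ scalarSub π ↔ x ∈ scalarSub π' := fun x => Iff.rfl
  have hint : Intertwines π' c.A (restrictAut H c.α hαH) := fun x => c.intertwines x
  have hint' : Intertwines π' B (restrictAut H β hβH) := fun x => hB x
  let c' : Setup π' r :=
    { comm := fun x y => c.comm x y
      cent := fun x hx => c.cent x fun y => by
        obtain ⟨h, hh, hfz⟩ := hdec y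
        rw [← mul_inv_cancel_left h y, map_mul, ← mul_assoc,
          show π (x : Q) * π h = π h * π (x : Q) from hx ⟨h, hh⟩, mul_assoc,
          ← (hcommH _ hfz x x.2).eq, ← mul_assoc]
      A := c.A
      α := restrictAut H c.α hαH
      intertwines := hint
      hr := c.hr
      A_pow := c.A_pow
      r_ne := c.r_ne
      fpf := fun x hx => c.fpf x hx }
  have hne : ∃ x, x ∉ scalarSub π' := by
    refine ⟨⟨y⁻¹ * β y, (y : Q ⧸ scalarSub π), rfl⟩, fun h => hy ?_⟩
    exact (QuotientGroup.eq.2 ((hscal _).2 h)).symm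
  obtain ⟨S⟩ := exists_split c'
  obtain ⟨T⟩ := exists_twist S hint' hBA
  have hβs' : ∀ x : H, ((((restrictAut H β hβH) ^ s) x : H) : H ⧸ scalarSub π') = x := fun x => by
    rw [QuotientGroup.eq, ← hscal, Subgroup.coe_mul, Subgroup.coe_inv, restrictAut_pow]
    exact QuotientGroup.eq.1 (hβs x)
  have hfpf' : ∀ x : H, ((restrictAut H β hβH x : H) : H ⧸ scalarSub π') = x →
      x ∈ scalarSub π' := by
    intro x hx
    have h1 : ((β x : Q) : Q ⧸ scalarSub π) = (x : Q) :=
      QuotientGroup.eq.2 ((hscal _).2 (QuotientGroup.eq.1 hx))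
    refine (hscal x).1 ((QuotientGroup.eq_one_iff _).1 (hinj _ x.2 ?_))
    show ((x : Q) : Q ⧸ scalarSub π)⁻¹ * ((β x : Q) : Q ⧸ scalarSub π) = 1
    rw [h1, inv_mul_cancel]
  have hfree := free_of_prime hint' hs hβs' hfpf'
  have hex : ∃ j, S.Supp j := S.exists_supp hx₀ hx₀'
  have hrs : ¬ r ∣ s := fun h => hsr ((Nat.prime_dvd_prime_iff_eq c.hr hs).1 h).symm
  have key : s = 2 ∧ S.Unique := by
    by_cases hsk : (s : k) = 0
    · obtain ⟨h1, h2, -⟩ := S.free_modular T hfix hne hex hs hsr hsk hβs' hfree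
      exact ⟨h1, h2⟩
    · exact S.free_semisimple T hfix hne hex hs.two_le hrs hsk hβs' hfree
  refine ⟨key.1, ?_⟩
  -- there are no fixed classes
  have hnofix : ∀ z : Q, ((β z : Q) : Q ⧸ scalarSub π) = z → z ∈ scalarSub π := by
    intro z hz
    have hcA := S.commute_of_unique key.2 (op := π z) fun x => hcommH z hz x x.2
    refine c.fpf z ⟨1, ?_⟩
    rw [one_smul, map_mul, c.intertwines.apply_eq, ← hcA.eq, mul_assoc, Units.mul_inv, mul_one,
      ← map_mul, inv_mul_cancel, map_one]
  intro x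
  obtain rfl : s = 2 := key.1
  refine hnofix _ ?_
  rw [map_mul, QuotientGroup.mk_mul, QuotientGroup.mk_mul, mul_comm]
  congr 1
  have := hβs x
  rwa [pow_two, MulAut.mul_apply] at this

/-- The dichotomy. -/
theorem eq_or_inv {e : ℕ} (hβe : ∀ x, (((β ^ (s ^ e)) x : Q) : Q ⧸ scalarSub π) = x) :
    (∀ x, ((β x : Q) : Q ⧸ scalarSub π) = x) ∨ (s = 2 ∧ ∀ x, x * β x ∈ scalarSub π) := by
  induction e with
  | zero => exact Or.inl fun x => by simpa using hβe x
  | succ e ih =>
    by_cases hid : ∀ x, (((β ^ (s ^ e)) x : Q) : Q ⧸ scalarSub π) = x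
    · exact ih hid
    push Not at hid
    obtain ⟨y, hy⟩ := hid
    have hcomm : ∀ n : ℕ, B ^ n * c.A = c.A * B ^ n := fun n =>
      (Commute.pow_left (show Commute B c.A from hBA) n).eq
    have hfixn : ∀ (n : ℕ) x, (c.A : Module.End k W) x = x →
        ((B ^ n : (Module.End k W)ˣ) : Module.End k W) x = x := by
      intro n
      induction n with
      | zero => intro x _; rfl
      | succ n ihn =>
        intro x hx
        rw [pow_succ, Units.val_mul, Module.End.mul_apply, hfix x hx, ihn x hx]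
    have hsq : ∀ x, (((β ^ (s ^ e)) ^ s) x : Q ⧸ scalarSub π) = x := fun x => by
      rw [← pow_mul, ← pow_succ]; exact hβe x
    obtain ⟨rfl, hinv⟩ := c.eq_or_inv_prime hp hexp (hB.pow (s ^ e)) (hcomm _) (hfixn _) hx₀ hx₀'
      hs hsr hsp hsq hy
    rcases e with _ | e
    · exact Or.inr ⟨rfl, fun x => by simpa using hinv x⟩
    exfalso
    -- an element of period four
    set β₄ := β ^ (2 ^ e) with hβ₄
    have hB₄ : Intertwines π (B ^ (2 ^ e)) β₄ := hB.pow _
    have h22 : ∀ x, x * (β₄ ^ 2) x ∈ scalarSub π := fun x => by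
      rw [hβ₄, ← pow_mul, ← pow_succ]; exact hinv x
    have hsq' : ∀ x, ((x : Q) : Q ⧸ scalarSub π) = (x : Q)⁻¹ → x ∈ scalarSub π := by
      intro x hx
      have h2 : ((x : Q) : Q ⧸ scalarSub π) ^ 2 = 1 := by
        rw [sq]; nth_rewrite 2 [hx]; exact mul_inv_cancel _
      have hp1 : ((x : Q) : Q ⧸ scalarSub π) ^ p = 1 := by
        rw [← QuotientGroup.mk_pow, QuotientGroup.eq_one_iff]; exact hexp x
      have := pow_gcd_eq_one.2 ⟨h2, hp1⟩
      rw [(Nat.coprime_primes Nat.prime_two hp).2 hsp, pow_one] at this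
      exact (QuotientGroup.eq_one_iff _).1 this
    have hinv' : ∀ x, (((β₄ ^ 2) x : Q) : Q ⧸ scalarSub π) = (x : Q ⧸ scalarSub π)⁻¹ := fun x => by
      rw [eq_inv_iff_mul_eq_one, c.mk_commute, ← QuotientGroup.mk_mul, QuotientGroup.eq_one_iff]
      exact h22 x
    have h4 : ∀ x, (((β₄ ^ 4) x : Q) : Q ⧸ scalarSub π) = x := fun x => by
      rw [show (4 : ℕ) = 2 + 2 from rfl, pow_add, MulAut.mul_apply, hinv', hinv', inv_inv]
    have hfree : ∀ x, x ∉ scalarSub π → ∀ i, 0 < i → i < 4 → x⁻¹ * (β₄ ^ i) x ∉ scalarSub π := by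
      intro x hx i h0 hi h
      have h1 := (QuotientGroup.eq.2 h).symm
      have h2 : (((β₄ ^ 2) x : Q) : Q ⧸ scalarSub π) = x := by
        interval_cases i
        · rw [pow_one] at h1
          exact hB₄.mk_iterate h1 2
        · exact h1
        · have h6 := mk_pow_mul hB₄ h1 2
          rw [show 3 * 2 = 4 + 2 from rfl, pow_add, MulAut.mul_apply] at h6
          exact (h4 _).symm.trans h6
      exact hx (hsq' x (h2.symm.trans (hinv' x)))
    obtain ⟨S⟩ := exists_split c
    obtain ⟨T⟩ := exists_twist S hB₄ (hcomm _)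
    have hne : ∃ x, x ∉ scalarSub π := ⟨y⁻¹ * (β ^ (2 ^ (e + 1))) y, fun h =>
      hy (QuotientGroup.eq.2 h).symm⟩
    have hex : ∃ j, S.Supp j := S.exists_supp hx₀ hx₀'
    have hr4 : ¬ r ∣ 4 := fun h => hsr
      ((Nat.prime_dvd_prime_iff_eq c.hr Nat.prime_two).1 ((c.hr.dvd_mul (m := 2) (n := 2)).1 h
        |>.elim id id)).symm
    by_cases hk : (2 : k) = 0
    · -- modular
      obtain ⟨T₂⟩ := exists_twist S (hB₄.pow 2) ((Commute.pow_left (show Commute _ c.A from hcomm _) 2).eq)
      have h2' : ∀ x, ((((β₄ ^ 2) ^ 2) x : Q) : Q ⧸ scalarSub π) = x := fun x => by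
        rw [← pow_mul]; exact h4 x
      have hfree2 : ∀ x, x ∉ scalarSub π → ∀ i, 0 < i → i < 2 →
          x⁻¹ * ((β₄ ^ 2) ^ i) x ∉ scalarSub π := fun x hx i h0 hi => by
        rw [← pow_mul]; exact hfree x hx _ (by omega) (by omega)
      have hfix2 : ∀ x, (c.A : Module.End k W) x = x →
          (((B ^ (2 ^ e)) ^ 2 : (Module.End k W)ˣ) : Module.End k W) x = x := fun x hx => by
        rw [← pow_mul]; exact hfixn _ x hx
      obtain ⟨-, -, hd⟩ := S.free_modular T₂ hfix2 hne hex Nat.prime_two hsr (by exact_mod_cast hk)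
        h2' hfree2
      obtain ⟨j, hj⟩ := hex
      have hγ := T.φ_γ (hfixn _) hj
      obtain ⟨δ, hδ, hδφ⟩ := S.F.exists_implement T.φ (b := 4) (by norm_num) fun z => by
        rw [T.φ_pow_eq_one h4]; rfl
      set N := δ - 1 with hN
      have h2End : (2 : Module.End k (Fin S.F.m → k)) = 0 := by
        rw [← map_ofNat (algebraMap k (Module.End k (Fin S.F.m → k))) 2, hk, map_zero]
      have hN2 : N * N = δ * δ + 1 := by
        have : N * N = δ * δ + 1 - 2 * δ := by
          rw [hN, two_mul]; simp only [sub_mul, mul_sub, one_mul, mul_one]; abel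
        rw [this, h2End, zero_mul, sub_zero]
      have hN4 : N ^ 4 = 0 := by
        have h5 : (δ * δ + 1) * (δ * δ + 1) = δ ^ 4 + 1 + 2 * (δ * δ) := by noncomm_ring
        rw [show N ^ 4 = (N * N) * (N * N) by noncomm_ring, hN2, h5, h2End, hδ, zero_mul, add_zero,
          one_add_one_eq_two, h2End]
      have hNe : ∀ i, Commute N (S.e i) := fun i => by
        have : Commute δ (S.e i) := by
          show δ * _ = _ * δ
          rw [hδφ, T.φ_e hγ]
        exact this.sub_left (Commute.one_left _)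
      have hNN : N * N = 0 := by
        rw [← mul_one (N * N), ← S.he.complete, mul_sum]
        refine sum_eq_zero fun i _ => LinearMap.ext fun x => ?_
        let M := N.restrict (p := LinearMap.range (S.e i)) (q := LinearMap.range (S.e i))
          fun v hv => by
            obtain ⟨u, rfl⟩ := hv
            exact ⟨N u, (LinearMap.congr_fun (hNe i).eq u).symm⟩
        have hM : ∀ (n : ℕ) v, ((M ^ n) v : Fin S.F.m → k) = (N ^ n) v := by
          intro n
          induction n with
          | zero => intro v; rfl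
          | succ n ihn =>
            intro v
            rw [pow_succ', pow_succ', Module.End.mul_apply, Module.End.mul_apply, ← ihn]
            rfl
        have hM0 : M ^ 4 = 0 := LinearMap.ext fun v => Subtype.ext (by
          rw [hM, hN4]; rfl)
        have hMM := sq_eq_zero_of_finrank_le_two (hd i) hM0
        have := congrArg Subtype.val (LinearMap.congr_fun hMM ⟨S.e i x, ⟨x, rfl⟩⟩)
        rw [← sq, hM, sq] at this
        exact this
      have hδ2 : δ * δ = 1 := by
        rw [hNN] at hN2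
        rw [eq_comm, eq_neg_of_add_eq_zero_left hN2.symm, eq_neg_iff_add_eq_zero, one_add_one_eq_two,
          h2End]
      have hφ2 : ∀ z, T.φ (T.φ z) = z := fun z => by
        calc T.φ (T.φ z) = T.φ (T.φ z) * (δ * δ) := by rw [hδ2, mul_one]
          _ = δ * δ * z := by
            rw [mul_assoc δ δ z, hδφ z, ← mul_assoc δ (T.φ z) δ, hδφ (T.φ z), mul_assoc]
          _ = z := by rw [hδ2, one_mul]
      apply hy
      rw [← QuotientGroup.out_eq' (y : Q ⧸ scalarSub π)]
      have h7 := hφ2 (S.F.u y)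
      rw [T.φ_u, T.φ_u] at h7
      rw [QuotientGroup.out_eq', show β ^ (2 ^ (e + 1)) = β₄ ^ 2 by rw [hβ₄, ← pow_mul, ← pow_succ]]
      refine (QuotientGroup.eq.2 (⟨1, ?_⟩ : _ ∈ scalarSub π)).symm
      rw [pow_two, MulAut.mul_apply, map_mul, one_smul, ← S.F.ι_u (β₄ (β₄ y)), h7, S.F.ι_u, ← map_mul,
        inv_mul_cancel, map_one]
    · have h4k : ((4 : ℕ) : k) ≠ 0 := by
        rw [show (4 : ℕ) = 2 * 2 from rfl, Nat.cast_mul, Nat.cast_ofNat]
        exact mul_ne_zero hk hk
      have := (S.free_semisimple T (hfixn _) hne hex (b := 4) (by norm_num) hr4 h4k h4 hfree).1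
      omega

end Setup

end Cfsg.Agent.TurullHeight
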