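import Cfsg.Agent.Lib.TurullHeight.Weights
import Cfsg.Agent.Lib.TurullHeight.Dichotomy

/-!
# A weight fixed by an element of prime order

`a` of prime order `r` normalises the `p`-group `P` and fixes the weight `f`. The elements of `P`
orthogonal to those fixed by `a` modulo the centre of the weight (`orth`) form a frame on the weight
space, on which `a` has no fixed class.
-/

set_option autoImplicit false

namespace Cfsg.Agent.TurullHeight

open Finset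
open FittingHeight (scalarSub)
open scoped commutatorElement

variable {Γ : Type*} [Group Γ] {k : Type*} [Field k] {E : Type*} [AddCommGroup E] [Module k E]

/-- `g⁻¹ · a g a⁻¹`. -/
def dif (a g : Γ) : Γ := g⁻¹ * (a * g * a⁻¹)

/-- The standing hypotheses. -/
structure ActData (ρ : Γ →* Module.End k E) (P : Subgroup Γ) (a : Γ) (r p : ℕ) : Prop where
  normal : P.Normal
  classTwo : ClassTwo ρ P
  pow_central : ∀ x ∈ P, ∀ y ∈ P, Commute (ρ (x ^ p)) (ρ y)
  hr : r.Prime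
  r_ne : (r : k) ≠ 0
  a_pow : a ^ r = 1
  hp : p.Prime
  pgroup : IsPGroup p P
  p_ne : (p : k) ≠ 0
  rp : r ≠ p

variable {ρ : Γ →* Module.End k E} {P : Subgroup Γ} {a : Γ} {r p : ℕ}

theorem dif_mem (hd : ActData ρ P a r p) {g : Γ} (hg : g ∈ P) : dif a g ∈ P :=
  mul_mem (inv_mem hg) (hd.normal.conj_mem g hg a)

theorem commutator_mem {x y : Γ} (hx : x ∈ P) (hy : y ∈ P) : ⁅x, y⁆ ∈ P := by
  rw [commutatorElement_def]
  exact mul_mem (mul_mem (mul_mem hx hy) (inv_mem hx)) (inv_mem hy)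

theorem natCard_P_ne_zero [Finite Γ] (hd : ActData ρ P a r p) : (Nat.card P : k) ≠ 0 := by
  have := Fact.mk hd.hp
  obtain ⟨n, hn⟩ := IsPGroup.iff_card.1 hd.pgroup
  rw [hn, Nat.cast_pow]
  exact pow_ne_zero _ hd.p_ne

variable [IsAlgClosed k] [FiniteDimensional k E] {f : Γ → k}

section Pairing

variable (hd : ActData ρ P a r p) (hf : IsWt ρ P f)

include hd hf

theorem eq_one_of_rho_eq_one {x : Γ} (hx : x ∈ P) (h : ρ x = 1) : f x = 1 :=
  have := hd.normal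
  hf.eq_one_of_fix hd.classTwo le_rfl hf.wsp_pInv hf.wsp_ne_bot hx fun v _ => by
    rw [h, Module.End.one_apply]

theorem map_pow_p {x : Γ} (hx : x ∈ P) : f (x ^ p) ≠ 0 := by
  rw [hf.ne_zero_iff]
  refine ⟨pow_mem hx p, fun y hy => eq_one_of_rho_eq_one hd hf
    (commutator_mem (pow_mem hx p) hy) ?_⟩
  rw [commutatorElement_def, map_mul, map_mul, map_mul, (hd.pow_central x hx y hy).eq,
    mul_assoc (ρ y), ← map_mul ρ (x ^ p), mul_inv_cancel, map_one, mul_one, ← map_mul,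
    mul_inv_cancel, map_one]

theorem pair_mul_left {x x' y : Γ} (hx : x ∈ P) (hx' : x' ∈ P) (hy : y ∈ P) :
    f ⁅x * x', y⁆ = f ⁅x, y⁆ * f ⁅x', y⁆ := by
  have := hd.normal
  rw [show ⁅x * x', y⁆ = x * ⁅x', y⁆ * x⁻¹ * ⁅x, y⁆ by
    simp only [commutatorElement_def]; group]
  have h1 : f (x * ⁅x', y⁆ * x⁻¹) = f ⁅x', y⁆ := hf.map_conj hx _
  rw [hf.map_mul (by rw [h1]; exact hf.comm_ne_zero hd.classTwo hx' hy), h1, mul_comm]

theorem pair_symm {x y : Γ} (hx : x ∈ P) (hy : y ∈ P) : f ⁅y, x⁆ = (f ⁅x, y⁆)⁻¹ := by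
  rw [← hf.map_inv (hf.comm_ne_zero hd.classTwo hx hy), commutatorElement_inv]

theorem pair_mul_right {x y y' : Γ} (hx : x ∈ P) (hy : y ∈ P) (hy' : y' ∈ P) :
    f ⁅x, y * y'⁆ = f ⁅x, y⁆ * f ⁅x, y'⁆ := by
  rw [pair_symm hd hf (mul_mem hy hy') hx, pair_mul_left hd hf hy hy' hx, mul_inv,
    ← pair_symm hd hf hy hx, ← pair_symm hd hf hy' hx]

theorem pair_one_left {y : Γ} : f ⁅(1 : Γ), y⁆ = 1 := by
  rw [commutatorElement_one_left, hf.map_one]

theorem pair_inv_left {x y : Γ} (hx : x ∈ P) (hy : y ∈ P) : f ⁅x⁻¹, y⁆ = (f ⁅x, y⁆)⁻¹ := by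
  refine eq_inv_of_mul_eq_one_left ?_
  rw [← pair_mul_left hd hf (inv_mem hx) hx hy, inv_mul_cancel, pair_one_left hd hf]

theorem pair_pow_left {x y : Γ} (hx : x ∈ P) (hy : y ∈ P) :
    ∀ n : ℕ, f ⁅x ^ n, y⁆ = f ⁅x, y⁆ ^ n
  | 0 => by rw [pow_zero, pow_zero, pair_one_left hd hf]
  | n + 1 => by rw [pow_succ, pair_mul_left hd hf (pow_mem hx n) hx hy, pair_pow_left hx hy n,
      pow_succ]

theorem pair_pow_p {x y : Γ} (hx : x ∈ P) (hy : y ∈ P) : f ⁅x, y⁆ ^ p = 1 := by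
  rw [← pair_pow_left hd hf hx hy]
  exact ((hf.ne_zero_iff).1 (map_pow_p hd hf hx)).2 y hy

theorem pair_eq_one_of_ne_zero {x y : Γ} (hx : f x ≠ 0) (hy : y ∈ P) : f ⁅x, y⁆ = 1 :=
  ((hf.ne_zero_iff).1 hx).2 y hy

end Pairing

variable (hd : ActData ρ P a r p) (hf : IsWt ρ P f) (ha : tr a f = f)

include hd hf ha

theorem map_conj_a (x : Γ) : f (a * x * a⁻¹) = f x := by
  have h := congrFun ha (a * x * a⁻¹)
  show f (a * x * a⁻¹) = f x
  rw [← h]
  show f (a⁻¹ * (a * x * a⁻¹) * a) = f x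
  congr 1
  group

theorem pair_conj_a (x y : Γ) : f ⁅a * x * a⁻¹, a * y * a⁻¹⁆ = f ⁅x, y⁆ := by
  rw [← map_conj_a hd hf ha ⁅x, y⁆]
  congr 1
  simp only [commutatorElement_def]
  group

theorem map_conj_a_pow (i : ℕ) (x : Γ) : f (a ^ i * x * (a ^ i)⁻¹) = f x := by
  induction i with
  | zero => congr 1; group
  | succ i ih =>
    rw [← ih, ← map_conj_a hd hf ha (a ^ i * x * (a ^ i)⁻¹), pow_succ']
    congr 1
    group

/-- Differences lying in the centre lie in the kernel. -/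
theorem map_dif_eq_one {g : Γ} (hg : g ∈ P) (h : f (dif a g) ≠ 0) : f (dif a g) = 1 := by
  have hn := hd.normal
  have key : ∀ n : ℕ, f (g⁻¹ * (a ^ n * g * (a ^ n)⁻¹)) = f (dif a g) ^ n := by
    intro n
    induction n with
    | zero => rw [pow_zero, pow_zero, one_mul, inv_one, mul_one, inv_mul_cancel, hf.map_one]
    | succ n ih =>
      have h1 : g⁻¹ * (a ^ (n + 1) * g * (a ^ (n + 1))⁻¹) =
          g⁻¹ * (a ^ n * g * (a ^ n)⁻¹) * (a ^ n * dif a g * (a ^ n)⁻¹) := by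
        rw [dif, pow_succ]; group
      rw [h1, hf.map_mul (by rw [ih]; exact pow_ne_zero _ h), ih, map_conj_a_pow hd hf ha, pow_succ]
  have hr := key r
  rw [hd.a_pow, one_mul, inv_one, mul_one, inv_mul_cancel, hf.map_one] at hr
  obtain ⟨n, hn⟩ := hd.pgroup ⟨dif a g, dif_mem hd hg⟩
  have hp : f (dif a g) ^ (p ^ n) = 1 := by
    have hz : ∀ m : ℕ, f (dif a g ^ m) = f (dif a g) ^ m := by
      intro m
      induction m with
      | zero => rw [pow_zero, pow_zero, hf.map_one]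
      | succ m ihm => rw [pow_succ', hf.map_mul h, ihm, pow_succ']
    have h2 : dif a g ^ (p ^ n) = 1 := congrArg Subtype.val hn
    rw [← hz, h2, hf.map_one]
  have := pow_gcd_eq_one.2 ⟨hr.symm, hp⟩
  rwa [Nat.Coprime.pow_right n ((Nat.coprime_primes hd.hr hd.hp).2 hd.rp), pow_one] at this

/-- The elements fixed by `a` modulo the centre of the weight. -/
def IsFix (a : Γ) (P : Subgroup Γ) (f : Γ → k) (x : Γ) : Prop := x ∈ P ∧ f (dif a x) ≠ 0

/-- The elements orthogonal to the fixed ones. -/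
def orth : Subgroup Γ where
  carrier := {x | x ∈ P ∧ ∀ c, IsFix a P f c → f ⁅x, c⁆ = 1}
  one_mem' := ⟨one_mem P, fun c _ => pair_one_left hd hf⟩
  mul_mem' := fun {x y} hx hy => ⟨mul_mem hx.1 hy.1, fun c hc => by
    rw [pair_mul_left hd hf hx.1 hy.1 hc.1, hx.2 c hc, hy.2 c hc, one_mul]⟩
  inv_mem' := fun {x} hx => ⟨inv_mem hx.1, fun c hc => by
    rw [pair_inv_left hd hf hx.1 hc.1, hx.2 c hc, inv_one]⟩

theorem mem_orth {x : Γ} :
    x ∈ orth hd hf ↔ x ∈ P ∧ ∀ c, IsFix a P f c → f ⁅x, c⁆ = 1 := Iff.rfl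

theorem mem_orth_of_ne_zero {x : Γ} (hx : f x ≠ 0) : x ∈ orth hd hf :=
  ⟨hf.mem_of_ne_zero hx, fun _ hc => pair_eq_one_of_ne_zero hd hf hx hc.1⟩

theorem pair_conj_fix {x c : Γ} (hx : x ∈ P) (hc : IsFix a P f c) :
    f ⁅a * x * a⁻¹, c⁆ = f ⁅x, c⁆ := by
  have hn := hd.normal
  conv_rhs => rw [← pair_conj_a hd hf ha x c]
  rw [show a * c * a⁻¹ = c * dif a c by rw [dif]; group,
    pair_mul_right hd hf (hn.conj_mem x hx a) hc.1 (dif_mem hd hc.1),
    pair_symm hd hf (dif_mem hd hc.1) (hn.conj_mem x hx a),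
    pair_eq_one_of_ne_zero hd hf hc.2 (hn.conj_mem x hx a), inv_one, mul_one]

theorem dif_mem_orth {g : Γ} (hg : g ∈ P) : dif a g ∈ orth hd hf := by
  have hn := hd.normal
  refine ⟨dif_mem hd hg, fun c hc => ?_⟩
  rw [dif, pair_mul_left hd hf (inv_mem hg) (hn.conj_mem g hg a) hc.1, pair_conj_fix hd hf ha hg hc,
    pair_inv_left hd hf hg hc.1, inv_mul_cancel₀ (hf.comm_ne_zero hd.classTwo hg hc.1)]

/-- Every element is a fixed one times an orthogonal one. -/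
theorem exists_fix_mul {g : Γ} (hg : g ∈ P) :
    ∃ c q, IsFix a P f c ∧ q ∈ orth hd hf ∧ g = c * q := by
  have hn := hd.normal
  obtain ⟨m, hm⟩ := Nat.exists_mul_mod_eq_one_of_coprime
    ((Nat.coprime_primes hd.hr hd.hp).2 hd.rp) hd.hp.one_lt
  set c₀ := g ^ m with hc₀
  have hc₀P : c₀ ∈ P := pow_mem hg m
  -- the product of the translates
  let c : ℕ → Γ := fun n => Nat.rec 1 (fun i x => x * (a ^ i * c₀ * (a ^ i)⁻¹)) n
  have hcs : ∀ n, c (n + 1) = c n * (a ^ n * c₀ * (a ^ n)⁻¹) := fun n => rfl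
  have hterm : ∀ i, a ^ i * c₀ * (a ^ i)⁻¹ ∈ P := fun i => hn.conj_mem c₀ hc₀P _
  have hcP : ∀ n, c n ∈ P := by
    intro n
    induction n with
    | zero => exact one_mem P
    | succ n ih => rw [hcs]; exact mul_mem ih (hterm n)
  -- pairing with any element
  have hpair : ∀ n, ∀ y ∈ P, f ⁅c n, y⁆ = ∏ i ∈ range n, f ⁅a ^ i * c₀ * (a ^ i)⁻¹, y⁆ := by
    intro n y hy
    induction n with
    | zero => rw [prod_range_zero]; exact pair_one_left hd hf
    | succ n ih => rw [hcs, pair_mul_left hd hf (hcP n) (hterm n) hy, ih, prod_range_succ]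
  have hfix : IsFix a P f (c r) := by
    refine ⟨hcP r, ?_⟩
    rw [hf.ne_zero_iff]
    refine ⟨dif_mem hd (hcP r), fun y hy => ?_⟩
    have hy' : a⁻¹ * y * a ∈ P := by simpa using hn.conj_mem y hy a⁻¹
    rw [dif, pair_mul_left hd hf (inv_mem (hcP r)) (hn.conj_mem _ (hcP r) a) hy,
      pair_inv_left hd hf (hcP r) hy]
    have h1 : f ⁅a * c r * a⁻¹, y⁆ = f ⁅c r, a⁻¹ * y * a⁆ := by
      conv_rhs => rw [← pair_conj_a hd hf ha]
      congr 2; group
    have h2 : ∀ i, f ⁅a ^ i * c₀ * (a ^ i)⁻¹, a⁻¹ * y * a⁆ =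
        f ⁅a ^ (i + 1) * c₀ * (a ^ (i + 1))⁻¹, y⁆ := fun i => by
      rw [← pair_conj_a hd hf ha]
      congr 2
      · rw [pow_succ']; group
      · group
    rw [h1, hpair r y hy, hpair r _ hy']
    simp only [h2]
    obtain ⟨n, hn'⟩ := Nat.exists_eq_succ_of_ne_zero hd.hr.ne_zero
    rw [hn', Finset.prod_range_succ' (fun i => f ⁅a ^ i * c₀ * (a ^ i)⁻¹, y⁆),
      Finset.prod_range_succ, pow_zero, show a ^ (n + 1) = 1 by rw [← Nat.succ_eq_add_one, ← hn']; exact hd.a_pow]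
    refine inv_mul_cancel₀ (mul_ne_zero (prod_ne_zero_iff.2 fun i _ =>
      hf.comm_ne_zero hd.classTwo (hterm _) hy) (hf.comm_ne_zero hd.classTwo ?_ hy))
    simpa using hc₀P
  refine ⟨c r, (c r)⁻¹ * g, hfix, ⟨mul_mem (inv_mem (hcP r)) hg, fun d hd' => ?_⟩,
    (mul_inv_cancel_left _ _).symm⟩
  have h3 : ∀ i, f ⁅a ^ i * c₀ * (a ^ i)⁻¹, d⁆ = f ⁅c₀, d⁆ := by
    intro i
    induction i with
    | zero => congr 2; group
    | succ i ih =>
      rw [← ih, ← pair_conj_fix hd hf ha (hterm i) hd']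
      congr 2
      rw [pow_succ']; group
  rw [pair_mul_left hd hf (inv_mem (hcP r)) hg hd'.1, pair_inv_left hd hf (hcP r) hd'.1,
    hpair r d hd'.1]
  simp only [h3, prod_const, card_range]
  rw [hc₀, pair_pow_left hd hf hg hd'.1, ← pow_mul]
  rw [← Nat.div_add_mod (m * r) p, Nat.mul_comm m r, hm.2, pow_add, pow_mul,
    pair_pow_p hd hf hg hd'.1, one_pow, one_mul, pow_one,
    inv_mul_cancel₀ (hf.comm_ne_zero hd.classTwo hg hd'.1)]

/-- An orthogonal element that is fixed is central. -/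
theorem ne_zero_of_orth_fix {x : Γ} (hx : x ∈ orth hd hf) (hfx : IsFix a P f x) : f x ≠ 0 := by
  rw [hf.ne_zero_iff]
  refine ⟨hx.1, fun y hy => ?_⟩
  obtain ⟨c, q, hc, hq, rfl⟩ := exists_fix_mul hd hf ha hy
  rw [pair_mul_right hd hf hx.1 hc.1 hq.1, hx.2 c hc, pair_symm hd hf hq.1 hx.1, hq.2 x hfx,
    inv_one, one_mul]

/-- The orthogonal elements pair non-degenerately. -/
theorem ne_zero_of_pair {x : Γ} (hx : x ∈ orth hd hf)
    (h : ∀ q ∈ orth hd hf, f ⁅x, q⁆ = 1) : f x ≠ 0 := by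
  rw [hf.ne_zero_iff]
  refine ⟨hx.1, fun y hy => ?_⟩
  obtain ⟨c, q, hc, hq, rfl⟩ := exists_fix_mul hd hf ha hy
  rw [pair_mul_right hd hf hx.1 hc.1 hq.1, hx.2 c hc, h q hq, one_mul]

theorem conj_mem_orth {g : Γ} (hg : tr g f = f) (hga : Commute g a) {x : Γ}
    (hx : x ∈ orth hd hf) : g * x * g⁻¹ ∈ orth hd hf := by
  have hn := hd.normal
  refine ⟨hn.conj_mem x hx.1 g, fun c hc => ?_⟩
  have hc' : IsFix a P f (g⁻¹ * c * g) := by
    refine ⟨by simpa using hn.conj_mem c hc.1 g⁻¹, ?_⟩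
    have h : f (g⁻¹ * dif a c * g) = f (dif a c) := congrFun hg _
    have e : dif a (g⁻¹ * c * g) = g⁻¹ * dif a c * g := by
      have hga' : a * g⁻¹ = g⁻¹ * a := (hga.inv_left).eq.symm
      have hga'' : g * a⁻¹ = a⁻¹ * g := (hga.inv_right).eq
      rw [dif, dif]
      simp only [mul_inv_rev, inv_inv, mul_assoc]
      rw [← mul_assoc a g⁻¹, hga', hga'']
      simp only [mul_assoc]
      group
    rw [e, h]
    exact hc.2
  rw [← hx.2 _ hc', ← congrFun hg ⁅g * x * g⁻¹, c⁆]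
  show f (g⁻¹ * _ * g) = _
  congr 1
  simp only [commutatorElement_def]
  group

omit hd hf ha in
/-- The operators of the weight space. -/
theorem wsp_inv_of_tr {g : Γ} (hg : tr g f = f) {v : E} (hv : v ∈ wsp ρ f) : ρ g v ∈ wsp ρ f :=
  hg ▸ rho_mem_wsp_tr hv g

end Cfsg.Agent.TurullHeight
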