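import Cfsg.Agent.Lib.TurullHeight.LayerData

/-!
# Layers on which `a` has no fixed class

All weights are moved and the orthogonal subgroup of a fixed weight is the whole group. Elements
fixing the fixed vectors are trivial on the weight spaces of the weights not fixed by `a`, and are
trivial or inverting on the others.
-/

set_option autoImplicit false

namespace Cfsg.Agent.TurullHeight

open Finset
open scoped commutatorElement

variable {Γ : Type*} [Group Γ] {k : Type*} [Field k] {E : Type*} [AddCommGroup E] [Module k E]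
  [IsAlgClosed k] [FiniteDimensional k E] {ρ : Γ →* Module.End k E} {P Φ : Subgroup Γ} {a : Γ}
  {r p : ℕ}

/-- The kernel of a weight. -/
def kerWt {f : Γ → k} (hf : IsWt ρ P f) : Subgroup Γ where
  carrier := {x | f x = 1}
  one_mem' := hf.map_one
  mul_mem' := fun {x y} hx hy => by
    show f (x * y) = 1
    rw [hf.map_mul (by rw [show f x = 1 from hx]; exact one_ne_zero), show f x = 1 from hx,
      show f y = 1 from hy, one_mul]
  inv_mem' := fun {x} hx => by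
    show f x⁻¹ = 1
    rw [hf.map_inv (by rw [show f x = 1 from hx]; exact one_ne_zero), show f x = 1 from hx, inv_one]

open scoped Classical in
/-- The centre of a fixed weight, the kernel times `Φ` of another one. -/
noncomputable def wtSub (Φ : Subgroup Γ) (a : Γ) {f : Γ → k} (hf : IsWt ρ P f) : Subgroup Γ :=
  if tr a f = f then zSub hf else kerWt hf ⊔ Φ

/-- The intersection over a family of weights. -/
noncomputable def interW (ρ : Γ →* Module.End k E) (P Φ : Subgroup Γ) (a : Γ)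
    (Ω : (Γ → k) → Prop) : Subgroup Γ :=
  P ⊓ ⨅ (f : Γ → k) (hf : IsWt ρ P f) (_ : Ω f), wtSub Φ a hf

theorem mem_interW {Ω : (Γ → k) → Prop} {x : Γ} :
    x ∈ interW ρ P Φ a Ω ↔ x ∈ P ∧ ∀ f (hf : IsWt ρ P f), Ω f → x ∈ wtSub Φ a hf := by
  simp only [interW, Subgroup.mem_inf, Subgroup.mem_iInf]

variable [Finite Γ] [P.Normal] [Φ.Normal] (hl : LayerData ρ P Φ a r p)

omit [P.Normal] [Φ.Normal] [IsAlgClosed k] [FiniteDimensional k E] [Finite Γ] in
theorem tr_pow_ne (hr : r.Prime) (har : a ^ r = 1) {f : Γ → k} (hne : tr a f ≠ f) {i : ℕ}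
    (h0 : 0 < i) (hi : i < r) : tr (a ^ i) f ≠ f := by
  intro h
  obtain ⟨n, hn⟩ := Nat.exists_mul_mod_eq_one_of_coprime
    ((hr.coprime_iff_not_dvd.2 fun hd => absurd (Nat.le_of_dvd h0 hd) (not_le.2 hi)).symm) hr.one_lt
  have h3 : ∀ m : ℕ, tr (a ^ (i * m)) f = f := by
    intro m
    induction m with
    | zero => rw [Nat.mul_zero, pow_zero, tr_one]
    | succ m ih => rw [Nat.mul_succ, pow_add, ← tr_tr, h, ih]
  have h4 := h3 n
  rw [pow_eq_pow_mod _ har, hn.2, pow_one] at h4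
  exact hne h4

omit [P.Normal] [Φ.Normal] [IsAlgClosed k] [FiniteDimensional k E] [Finite Γ] in
theorem tr_pow_inj (hr : r.Prime) (har : a ^ r = 1) {f : Γ → k} (hne : tr a f ≠ f) {i j : ℕ}
    (hi : i < r) (hj : j < r) (h : tr (a ^ i) f = tr (a ^ j) f) : i = j := by
  by_contra hij
  have key : ∀ i j, i < j → j < r → tr (a ^ i) f = tr (a ^ j) f → False := fun i j hlt hj h => by
    have h2 := congrArg (tr (a ^ i)⁻¹) h
    rw [tr_tr, tr_tr, inv_mul_cancel, tr_one] at h2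
    have e : a ^ (j - i) = (a ^ i)⁻¹ * a ^ j := by
      rw [eq_inv_mul_iff_mul_eq, ← pow_add, Nat.add_sub_cancel' hlt.le]
    rw [← e] at h2
    exact tr_pow_ne hr har hne (show 0 < j - i by omega) (by omega) h2.symm
  rcases lt_or_gt_of_ne hij with h' | h'
  exacts [key i j h' hj h, key j i h' hi h.symm]

omit [P.Normal] [Φ.Normal] [IsAlgClosed k] [FiniteDimensional k E] [Finite Γ] in
theorem trace_fixed (har : a ^ r = 1) (v : E) :
    ρ a (∑ i ∈ range r, ρ (a ^ i) v) = ∑ i ∈ range r, ρ (a ^ i) v := by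
  have h : ρ a (∑ i ∈ range r, ρ (a ^ i) v) + ρ (a ^ 0) v =
      (∑ i ∈ range r, ρ (a ^ i) v) + ρ (a ^ r) v := by
    rw [map_sum, ← sum_range_succ (fun i => ρ (a ^ i) v) r,
      sum_range_succ' (fun i => ρ (a ^ i) v) r]
    simp only [← rho_mul_apply, ← pow_succ']
  rwa [har, pow_zero, add_left_inj] at h

include hl

theorem proj_trace {f : Γ → k} (hf : IsWt ρ P f) (hne : tr a f ≠ f) {v : E} (hv : v ∈ wsp ρ f) :
    proj ρ f (∑ i ∈ range r, ρ (a ^ i) v) = v := by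
  rw [map_sum, sum_eq_single 0 (fun i hi hi0 => proj_apply_of_ne hl.act.classTwo hf (hf.translate _)
      (fun he => tr_pow_ne hl.act.hr hl.act.a_pow hne (Nat.pos_of_ne_zero hi0) (mem_range.1 hi)
        he.symm) (rho_mem_wsp_tr hv _)) (fun h => absurd (mem_range.2 hl.act.hr.pos) h),
    pow_zero, map_one, Module.End.one_apply,
    proj_apply_of_mem hf (natCard_P_ne_zero hl.act) hv]

/-- A weight not fixed by `a` gives a fixed vector. -/
theorem exists_fixed_of_tr_ne {f : Γ → k} (hf : IsWt ρ P f) (hne : tr a f ≠ f) :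
    ∃ v, ρ a v = v ∧ proj ρ f v ≠ 0 := by
  obtain ⟨v, hv, hv0⟩ := (Submodule.ne_bot_iff _).1 hf.wsp_ne_bot
  exact ⟨_, trace_fixed hl.act.a_pow v, by rwa [proj_trace hl hf hne hv]⟩

/-- An element fixing the fixed vectors is trivial on a weight space not fixed by `a`. -/
theorem fixes_wsp {y : Γ} (hya : Commute y a) (hy : ∀ v, ρ a v = v → ρ y v = v) {s e : ℕ}
    (hs : s.Prime) (hsr : s ≠ r) (hye : y ^ (s ^ e) = 1) {f : Γ → k} (hf : IsWt ρ P f)
    (hne : tr a f ≠ f) {v : E} (hv : v ∈ wsp ρ f) : ρ y v = v := by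
  classical
  have hg : IsWt ρ P (tr y f) := hf.translate y
  have hgne : tr a (tr y f) ≠ tr y f := fun h => hne (by
    have h' := congrArg (tr y⁻¹) h
    rw [tr_tr, tr_tr, show y⁻¹ * a * y = a by
      rw [mul_assoc, ← hya.eq, inv_mul_cancel_left], tr_tr, inv_mul_cancel, tr_one] at h'
    exact h')
  have hsum : ∀ w ∈ wsp ρ f, ρ y w = proj ρ (tr y f) (∑ i ∈ range r, ρ (a ^ i) w) := by
    intro w hw
    conv_rhs => rw [← hy _ (trace_fixed hl.act.a_pow w)]
    rw [map_sum]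
    have e : ∀ i, ρ y (ρ (a ^ i) w) = ρ (a ^ i) (ρ y w) := fun i => by
      rw [← rho_mul_apply, ← rho_mul_apply, (hya.pow_right i).eq]
    simp only [e]
    exact (proj_trace hl hg hgne (rho_mem_wsp_tr hw y)).symm
  obtain ⟨v₀, hv₀, hv₀0⟩ := (Submodule.ne_bot_iff _).1 hf.wsp_ne_bot
  obtain ⟨i, hi, hif⟩ : ∃ i < r, tr (a ^ i) f = tr y f := by
    by_contra h
    push Not at h
    have h0 := hsum v₀ hv₀
    rw [map_sum, sum_eq_zero fun i hi => proj_apply_of_ne hl.act.classTwo hg (hf.translate _)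
      (fun he => h i (mem_range.1 hi) he.symm) (rho_mem_wsp_tr hv₀ _)] at h0
    exact hv₀0 (by rw [← rho_inv_apply ρ y v₀, h0, map_zero])
  have hyi : ∀ w ∈ wsp ρ f, ρ y w = ρ (a ^ i) w := by
    intro w hw
    rw [hsum w hw, map_sum, sum_eq_single i (fun j hj hji => proj_apply_of_ne hl.act.classTwo hg
      (hf.translate _) (fun he => hji (tr_pow_inj hl.act.hr hl.act.a_pow hne (mem_range.1 hj) hi
        (he.symm.trans hif.symm))) (rho_mem_wsp_tr hw _)) (fun h => absurd (mem_range.2 hi) h)]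
    exact proj_apply_of_mem hg (natCard_P_ne_zero hl.act) (hif ▸ rho_mem_wsp_tr hw _)
  have hpow : ∀ t : ℕ, ∀ w ∈ wsp ρ f, ρ (y ^ t) w = ρ (a ^ (i * t)) w := by
    intro t
    induction t with
    | zero => intro w _; rw [Nat.mul_zero, pow_zero, pow_zero]
    | succ t ih =>
      intro w hw
      rw [pow_succ, rho_mul_apply, hyi w hw, ← rho_mul_apply, ((hya.pow_pow t i)).eq, rho_mul_apply,
        ih w hw, ← rho_mul_apply, ← pow_add, Nat.mul_succ, add_comm]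
  rcases Nat.eq_zero_or_pos e with rfl | he
  · rw [pow_zero, pow_one] at hye
    rw [hye, map_one, Module.End.one_apply]
  obtain ⟨u, hu⟩ := Nat.exists_mul_mod_eq_one_of_coprime (n := r) (k := s ^ e)
    (((Nat.coprime_primes hs hl.act.hr).2 hsr).symm.pow_right e) (Nat.one_lt_pow he.ne' hs.one_lt)
  have h1 := hpow (r * u) v hv
  rw [pow_eq_pow_mod _ hye, hu.2, pow_one, show i * (r * u) = r * (i * u) by ring, pow_mul,
    hl.act.a_pow, one_pow, map_one, Module.End.one_apply] at h1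
  exact h1

omit [Φ.Normal] in
/-- Trivial on the weight space: the commutators lie in the kernel. -/
theorem map_commutator_eq_one {y : Γ} {f : Γ → k} (hf : IsWt ρ P f)
    (hy : ∀ v ∈ wsp ρ f, ρ y v = v) {g : Γ} (hg : g ∈ P) : f ⁅y, g⁆ = 1 := by
  have hc : ⁅y, g⁆ ∈ P := mul_mem (‹P.Normal›.conj_mem g hg y) (inv_mem hg)
  refine hf.eq_one_of_fix hl.act.classTwo le_rfl hf.wsp_pInv hf.wsp_ne_bot hc fun w hw => ?_
  have hgw : ρ g⁻¹ w ∈ wsp ρ f := hf.wsp_pInv _ (inv_mem hg) w hw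
  rw [commutatorElement_def, rho_mul_apply, rho_mul_apply, rho_mul_apply,
    show ρ y⁻¹ (ρ g⁻¹ w) = ρ g⁻¹ w by conv_lhs => rw [← hy _ hgw, rho_inv_apply],
    rho_apply_inv, hy w hw]

omit [Φ.Normal] in
/-- Trivial or inverting on a fixed weight with a fixed vector. -/
theorem trivial_or_inv_of_quiet (hmv : ∀ f, IsWt ρ P f → Moved P a f)
    (hor : ∀ f (hf : IsWt ρ P f), tr a f = f → P ≤ orth hl.act hf) {y : Γ} (hya : Commute y a)
    (hy : ∀ v, ρ a v = v → ρ y v = v) {s e : ℕ} (hs : s.Prime) (hsr : s ≠ r) (hsp : s ≠ p)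
    (hye : y ^ (s ^ e) = 1) {f : Γ → k} (hf : IsWt ρ P f) (ha : tr a f = f) {v₀ : E}
    (hv₀ : v₀ ∈ wsp ρ f) (hav₀ : ρ a v₀ = v₀) (hv₀0 : v₀ ≠ 0) :
    tr y f = f ∧ ((∀ x ∈ P, f (x⁻¹ * (y * x * y⁻¹)) ≠ 0) ∨
      (s = 2 ∧ ∀ x ∈ P, f (x * (y * x * y⁻¹)) ≠ 0)) := by
  have hyf : tr y f = f := by
    refine ((hf.translate y).eq_of_inf_ne_bot hl.act.classTwo hf ?_)
    refine (Submodule.ne_bot_iff _).2 ⟨v₀, ⟨?_, hv₀⟩, hv₀0⟩
    have := rho_mem_wsp_tr hv₀ y
    rwa [hy v₀ hav₀] at this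
  refine ⟨hyf, ?_⟩
  rcases trivial_or_inv hl.act hf ha (hmv f hf) hv₀ hav₀ hv₀0 hyf hya
    (fun v _ h => hy v h) hs hsr hsp hye with h | ⟨h2, h⟩
  · exact Or.inl fun x hx => h x (hor f hf ha hx)
  · exact Or.inr ⟨h2, fun x hx => h x (hor f hf ha hx)⟩

/-- An element fixing the weight, of order prime to `r`, when there is no fixed vector. -/
theorem trivial_of_no_fixed' (hmv : ∀ f, IsWt ρ P f → Moved P a f)
    (hor : ∀ f (hf : IsWt ρ P f), tr a f = f → P ≤ orth hl.act hf)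
    (hnf : ∀ v, ρ a v = v → v = 0) {y : Γ} (hya : Commute y a) (hyr : ¬ r ∣ orderOf y) {f : Γ → k}
    (hf : IsWt ρ P f) (hyf : tr y f = f) {x : Γ} (hx : x ∈ P) :
    tr a f = f ∧ f (x⁻¹ * (y * x * y⁻¹)) ≠ 0 := by
  have ha : tr a f = f := by
    by_contra hne
    obtain ⟨v, hv, hv0⟩ := exists_fixed_of_tr_ne hl hf hne
    exact hv0 (by rw [hnf v hv, map_zero])
  exact ⟨ha, trivial_of_no_fixed hl.act hf ha (hmv f hf) (fun v _ h => hnf v h) hyf hya hyr
    (hor f hf ha hx)⟩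

theorem le_interW (Ω : (Γ → k) → Prop) : Φ ≤ interW ρ P Φ a Ω := fun x hx =>
  mem_interW.2 ⟨hl.le hx, fun f hf _ => by
    unfold wtSub
    split_ifs
    exacts [hl.ne_zero_of_mem hf hx, Subgroup.mem_sup_right hx]⟩

omit hl in
theorem conj_mem_interW {Ω : (Γ → k) → Prop} {g : Γ} (hga : Commute g a)
    (hΩ : ∀ f, IsWt ρ P f → Ω f → Ω (tr g⁻¹ f)) {x : Γ} (hx : x ∈ interW ρ P Φ a Ω) :
    g * x * g⁻¹ ∈ interW ρ P Φ a Ω := by
  rw [mem_interW] at hx ⊢
  refine ⟨‹P.Normal›.conj_mem x hx.1 g, fun f hf hf' => ?_⟩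
  have h := hx.2 _ (hf.translate g⁻¹) (hΩ f hf hf')
  have hfx : tr a (tr g⁻¹ f) = tr g⁻¹ f ↔ tr a f = f := by
    rw [tr_tr, ← hga.inv_left.eq, ← tr_tr]
    refine ⟨fun h => ?_, congrArg _⟩
    have h' := congrArg (tr g) h
    rwa [tr_tr, mul_inv_cancel, tr_one, tr_tr, mul_inv_cancel, tr_one] at h'
  unfold wtSub at h ⊢
  by_cases hfa : tr a f = f
  · rw [if_pos (hfx.2 hfa)] at h
    rw [if_pos hfa]
    show f (g * x * g⁻¹) ≠ 0
    have h' : f (g⁻¹⁻¹ * x * g⁻¹) ≠ 0 := h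
    rwa [inv_inv] at h'
  · rw [if_neg (fun h => hfa (hfx.1 h))] at h
    rw [if_neg hfa]
    obtain ⟨u, hu, z, hz, rfl⟩ := Subgroup.mem_sup_of_normal_right.1 h
    rw [show g * (u * z) * g⁻¹ = (g * u * g⁻¹) * (g * z * g⁻¹) by group]
    refine mul_mem (Subgroup.mem_sup_left ?_) (Subgroup.mem_sup_right (‹Φ.Normal›.conj_mem z hz g))
    show f (g * u * g⁻¹) = 1
    have h' : f (g⁻¹⁻¹ * u * g⁻¹) = 1 := hu
    rwa [inv_inv] at h'

omit [Φ.Normal] in
/-- If the intersection is everything, the family is empty. -/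
theorem not_mem_of_interW_eq (hmv : ∀ f, IsWt ρ P f → Moved P a f) {Ω : (Γ → k) → Prop}
    (h : P ≤ interW ρ P Φ a Ω) {f : Γ → k} (hf : IsWt ρ P f) : ¬ Ω f := by
  intro hΩ
  obtain ⟨g, hg, hg1⟩ := hmv f hf
  have hmem : ∀ x ∈ P, x ∈ wtSub Φ a hf := fun x hx => (mem_interW.1 (h hx)).2 f hf hΩ
  have hd := dif_mem hl.act hg
  unfold wtSub at hmem
  split_ifs at hmem with hfa
  · exact hg1 (map_dif_eq_one hl.act hf hfa hg (hmem _ hd))
  · have hK : kerWt hf ≤ P := fun x hx =>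
      hf.mem_of_ne_zero (by rw [show f x = 1 from hx]; exact one_ne_zero)
    exact hg1 (hl.gen _ hK (fun x hx hρ => eq_one_of_rho_eq_one hl.act hf hx hρ) hmem hd)

/-- An element central for all fixed weights and in the kernels of the others is trivial in the
layer. -/
theorem mem_of_forall_wts (hmv : ∀ f, IsWt ρ P f → Moved P a f)
    (hcomm : ∀ x ∈ P, ∀ y ∈ P, x * y * x⁻¹ * y⁻¹ ∈ Φ) {u : Γ} (hu : u ∈ P)
    (h : ∀ f, IsWt ρ P f → (tr a f = f → f u ≠ 0) ∧ (tr a f ≠ f → f u = 1)) : u ∈ Φ := by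
  let M : Subgroup Γ := P ⊓ ⨅ (f : Γ → k) (hf : IsWt ρ P f), zSub hf
  have hmem : ∀ x, x ∈ M ↔ x ∈ P ∧ ∀ f, IsWt ρ P f → f x ≠ 0 := fun x => by
    simp only [M, Subgroup.mem_inf, Subgroup.mem_iInf, mem_zSub]
  have hM : M.Normal := ⟨fun x hx g => by
    rw [hmem] at hx ⊢
    refine ⟨‹P.Normal›.conj_mem x hx.1 g, fun f hf => ?_⟩
    have h' : f (g⁻¹⁻¹ * x * g⁻¹) ≠ 0 := hx.2 _ (hf.translate g⁻¹)
    rwa [inv_inv] at h'⟩
  have hΦ : Φ ≤ M := fun x hx => (hmem x).2 ⟨hl.le hx, fun f hf => hl.ne_zero_of_mem hf hx⟩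
  have huM : u ∈ M := (hmem u).2 ⟨hu, fun f hf => by
    by_cases hfa : tr a f = f
    · exact (h f hf).1 hfa
    · rw [(h f hf).2 hfa]
      exact one_ne_zero⟩
  rcases hl.irr M hM hΦ inf_le_left with e | e
  · exact e ▸ huM
  have h0 := hl.eq_zero_of_forall_kbar (u := sect Φ ⟨u, hu⟩) fun f hf => ?_
  · exact (sect_eq_zero Φ hcomm).1 h0
  refine ⟨⟨u, hu⟩, (h f hf).2 fun hfa => ?_, rfl⟩
  obtain ⟨g, hg, hg1⟩ := hmv f hf
  exact hg1 (map_dif_eq_one hl.act hf hfa hg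
    (((hmem _).1 (by rw [e]; exact dif_mem hl.act hg)).2 f hf))

end Cfsg.Agent.TurullHeight
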