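import Cfsg.Agent.Lib.TurullHeight.Orbit

/-!
# The commutator of a group with an element of prime order

`difSub X a` is generated by the `g⁻¹ · a g a⁻¹`, `g ∈ X`. For coprime action it generates itself in
this way and together with the fixed points it gives `X`.
-/

set_option autoImplicit false

namespace Cfsg.Agent.TurullHeight

variable {Γ : Type*} [Group Γ]

/-- The subgroup generated by the differences. -/
def difSub (X : Subgroup Γ) (a : Γ) : Subgroup Γ := Subgroup.closure (dif a '' (X : Set Γ))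

theorem dif_mem_difSub {X : Subgroup Γ} {a g : Γ} (hg : g ∈ X) : dif a g ∈ difSub X a :=
  Subgroup.subset_closure ⟨g, hg, rfl⟩

theorem difSub_le {X : Subgroup Γ} {a : Γ} (ha : ∀ x ∈ X, a * x * a⁻¹ ∈ X) : difSub X a ≤ X :=
  (Subgroup.closure_le _).2 (by
    rintro _ ⟨g, hg, rfl⟩
    exact mul_mem (inv_mem hg) (ha g hg))

/-- Stability of `difSub` under a conjugation that maps the generators into it. -/
theorem conj_mem_difSub_of {X : Subgroup Γ} {a h : Γ}
    (hh : ∀ g ∈ X, h * dif a g * h⁻¹ ∈ difSub X a) {n : Γ} (hn : n ∈ difSub X a) :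
    h * n * h⁻¹ ∈ difSub X a := by
  induction hn using Subgroup.closure_induction with
  | mem x hx => obtain ⟨g, hg, rfl⟩ := hx; exact hh g hg
  | one => simp
  | mul x y _ _ hx hy =>
    rw [show h * (x * y) * h⁻¹ = (h * x * h⁻¹) * (h * y * h⁻¹) by group]
    exact mul_mem hx hy
  | inv x _ hx =>
    rw [show h * x⁻¹ * h⁻¹ = (h * x * h⁻¹)⁻¹ by group]
    exact inv_mem hx

theorem conj_mem_difSub {X : Subgroup Γ} {a h : Γ} (hh : h ∈ X) {n : Γ} (hn : n ∈ difSub X a) :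
    h * n * h⁻¹ ∈ difSub X a := by
  refine conj_mem_difSub_of (fun g hg => ?_) hn
  rw [show h * dif a g * h⁻¹ = dif a (g * h⁻¹) * (dif a h⁻¹)⁻¹ by simp only [dif]; group]
  exact mul_mem (dif_mem_difSub (mul_mem hg (inv_mem hh))) (inv_mem (dif_mem_difSub (inv_mem hh)))

theorem dif_conj {a y : Γ} (hya : Commute y a) (g : Γ) :
    dif a (y * g * y⁻¹) = y * dif a g * y⁻¹ := by
  have h1 : a * y = y * a := hya.eq.symm
  have h2 : y⁻¹ * a⁻¹ = a⁻¹ * y⁻¹ := hya.inv_inv.eq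
  simp only [dif]
  rw [show a * (y * g * y⁻¹) * a⁻¹ = (a * y) * g * (y⁻¹ * a⁻¹) by group, h1, h2]
  group

theorem conj_mem_difSub_comm {X : Subgroup Γ} {a y : Γ} (hya : Commute y a)
    (hy : ∀ x ∈ X, y * x * y⁻¹ ∈ X) {n : Γ} (hn : n ∈ difSub X a) :
    y * n * y⁻¹ ∈ difSub X a :=
  conj_mem_difSub_of (fun g hg => (dif_conj hya g) ▸ dif_mem_difSub (hy g hg)) hn

theorem inv_mem_difSub {X : Subgroup Γ} {a : Γ} (ha : ∀ x ∈ X, a * x * a⁻¹ ∈ X) {n : Γ}
    (hn : n ∈ difSub X a) : a * n * a⁻¹ ∈ difSub X a :=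
  conj_mem_difSub_comm (Commute.refl a) ha hn

variable [Finite Γ] {X : Subgroup Γ} {a : Γ} {r p : ℕ}

/-- A class modulo `M` fixed by `a` contains an element fixed by `a`. -/
theorem exists_fix_coset (hr : r.Prime) (har : a ^ r = 1) {M : Subgroup Γ} (hp : p.Prime)
    (hrp : r ≠ p) (hM : IsPGroup p M) (hMa : ∀ m ∈ M, a * m * a⁻¹ ∈ M) {g : Γ}
    (hg : dif a g ∈ M) : ∃ c, g⁻¹ * c ∈ M ∧ Commute c a := by
  have := Fact.mk hp
  refine exists_commute_mem_coset hr (e := 1) (by rwa [pow_one]) hMa hg fun hd => ?_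
  obtain ⟨b, hb⟩ := IsPGroup.iff_card.1 hM
  rw [hb] at hd
  exact hrp ((Nat.prime_dvd_prime_iff_eq hr hp).1 (hr.dvd_of_dvd_pow hd))

/-- Every element is a fixed one times a product of differences. -/
theorem exists_fix_mul_difSub (hr : r.Prime) (har : a ^ r = 1) (hp : p.Prime) (hrp : r ≠ p)
    (hX : IsPGroup p X) (ha : ∀ x ∈ X, a * x * a⁻¹ ∈ X) {g : Γ} (hg : g ∈ X) :
    ∃ c m, c ∈ X ∧ Commute c a ∧ m ∈ difSub X a ∧ g = c * m := by
  obtain ⟨c, hc, hca⟩ := exists_fix_coset hr har hp hrp (hX.to_le (difSub_le ha))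
    (fun m hm => inv_mem_difSub ha hm) (dif_mem_difSub hg)
  refine ⟨c, (g⁻¹ * c)⁻¹, ?_, hca, inv_mem hc, by group⟩
  simpa using mul_mem hg (difSub_le ha hc)

theorem difSub_gen (hr : r.Prime) (har : a ^ r = 1) (hp : p.Prime) (hrp : r ≠ p)
    (hX : IsPGroup p X) (ha : ∀ x ∈ X, a * x * a⁻¹ ∈ X) (H : Subgroup Γ)
    (hH : ∀ n ∈ difSub X a, dif a n ∈ H) : difSub X a ≤ H := by
  refine (Subgroup.closure_le _).2 ?_
  rintro _ ⟨g, hg, rfl⟩
  obtain ⟨c, m, -, hca, hm, rfl⟩ := exists_fix_mul_difSub hr har hp hrp hX ha hg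
  have e : dif a (c * m) = dif a m := by
    simp only [dif]
    rw [show a * (c * m) * a⁻¹ = (a * c) * m * a⁻¹ by group, hca.eq.symm]
    group
  rw [e]
  exact hH m hm

/-- A subgroup containing the differences and the fixed points is everything. -/
theorem le_of_difSub_le (hr : r.Prime) (har : a ^ r = 1) (hp : p.Prime) (hrp : r ≠ p)
    (hX : IsPGroup p X) (ha : ∀ x ∈ X, a * x * a⁻¹ ∈ X) (H : Subgroup Γ)
    (hd : difSub X a ≤ H) (hc : ∀ x ∈ X, Commute x a → x ∈ H) : X ≤ H := fun g hg => by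
  obtain ⟨c, m, hcX, hca, hm, rfl⟩ := exists_fix_mul_difSub hr har hp hrp hX ha hg
  exact mul_mem (hc c hcX hca) (hd hm)

end Cfsg.Agent.TurullHeight
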