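import Mathlib.Algebra.Module.ZMod
import Mathlib.FieldTheory.IsAlgClosed.AlgebraicClosure
import Mathlib.LinearAlgebra.Matrix.ToLin
import Mathlib.LinearAlgebra.FiniteDimensional.Lemmas
import Mathlib.LinearAlgebra.Projection
import Mathlib.Algebra.CharP.Algebra
import Mathlib.Algebra.Field.ZMod
import Mathlib.FieldTheory.Cardinality

/-!
# The endomorphisms of an elementary abelian group over an algebraically closed field
-/

set_option autoImplicit false

namespace Cfsg.Agent.TurullHeight

/-- `L` preserves the ranks of idempotents. -/
def KeepsRank {V : Type*} [AddCommGroup V] {k : Type*} [Field k] {d : ℕ} (p : ℕ)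
    (L : AddMonoid.End V →+* Module.End k (Fin d → k)) : Prop :=
  ∀ e : AddMonoid.End V, e * e = e →
    Nat.card (AddMonoidHom.range (e : V →+ V)) = p ^ Module.finrank k (LinearMap.range (L e))

theorem finrank_range_add_one_sub {F : Type*} [Field F] {M : Type*} [AddCommGroup M] [Module F M]
    [FiniteDimensional F M] (g : Module.End F M) (hg : g * g = g) :
    Module.finrank F (LinearMap.range g) + Module.finrank F (LinearMap.range (1 - g)) =
      Module.finrank F M := by
  have hk : LinearMap.range (1 - g) = LinearMap.ker g := by
    refine le_antisymm ?_ fun x hx => ⟨x, ?_⟩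
    · rintro _ ⟨x, rfl⟩
      rw [LinearMap.mem_ker, ← Module.End.mul_apply, mul_sub, mul_one, hg, sub_self,
        LinearMap.zero_apply]
    · rw [LinearMap.sub_apply, Module.End.one_apply, LinearMap.mem_ker.1 hx, sub_zero]
  rw [hk, LinearMap.finrank_range_add_finrank_ker]

private theorem endRep_aux {V : Type*} [AddCommGroup V] [Finite V] (p : ℕ)
    [Fact p.Prime] [Module (ZMod p) V] :
    ∃ (d : ℕ) (L : AddMonoid.End V →+* Module.End (AlgebraicClosure (ZMod p))
        (Fin d → AlgebraicClosure (ZMod p))), Function.Injective L ∧ KeepsRank p L := by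
  classical
  have hfin : Module.Finite (ZMod p) V := Module.Finite.of_finite
  let K := AlgebraicClosure (ZMod p)
  let b := Module.finBasis (ZMod p) V
  let lin : AddMonoid.End V →+* Module.End (ZMod p) V :=
    { toFun := fun e => AddMonoidHom.toZModLinearMap p e
      map_one' := LinearMap.ext fun x => rfl
      map_mul' := fun e e' => LinearMap.ext fun x => rfl
      map_zero' := LinearMap.ext fun x => rfl
      map_add' := fun e e' => LinearMap.ext fun x => rfl }
  let Θ : Module.End (ZMod p) V →+* Module.End K (Fin (Module.finrank (ZMod p) V) → K) :=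
    (Matrix.toLinAlgEquiv' (R := K)).toRingEquiv.toRingHom.comp
      (((algebraMap (ZMod p) K).mapMatrix).comp
        (LinearMap.toMatrixAlgEquiv b).toRingEquiv.toRingHom)
  have hΘ : Function.Injective Θ := fun x y h => by
    apply (LinearMap.toMatrixAlgEquiv b).injective
    exact Matrix.map_injective (algebraMap (ZMod p) K).injective
      ((Matrix.toLinAlgEquiv' (R := K)).injective h)
  have hlin : Function.Injective lin := fun e e' h =>
    AddMonoidHom.ext fun x => LinearMap.congr_fun h x
  refine ⟨_, Θ.comp lin, hΘ.comp hlin, fun e he => ?_⟩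
  set f := lin e with hf
  have hff : f * f = f := by rw [hf, ← map_mul, he]
  -- the rank cannot go up
  have hle : ∀ g : Module.End (ZMod p) V, Module.finrank K (LinearMap.range (Θ g)) ≤
      Module.finrank (ZMod p) (LinearMap.range g) := by
    intro g
    let c := Module.finBasis (ZMod p) (LinearMap.range g)
    let A := LinearMap.toMatrix c b (LinearMap.range g).subtype
    let B := LinearMap.toMatrix b c g.rangeRestrict
    have hAB : LinearMap.toMatrix b b g = A * B := by
      rw [← LinearMap.toMatrix_comp]; rfl
    have hΘg : Θ g = (Matrix.toLin' (A.map (algebraMap (ZMod p) K))).comp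
        (Matrix.toLin' (B.map (algebraMap (ZMod p) K))) := by
      rw [← Matrix.toLin'_mul, ← Matrix.map_mul, ← hAB]
      rfl
    rw [hΘg]
    refine (Submodule.finrank_mono (LinearMap.range_comp_le_range _ _)).trans ?_
    refine (LinearMap.finrank_range_le _).trans ?_
    rw [Module.finrank_pi, Fintype.card_fin]
  have h1 := hle f
  have h2 := hle (1 - f)
  have h3 := finrank_range_add_one_sub f hff
  have h4 := finrank_range_add_one_sub (Θ f) (by rw [← map_mul, hff])
  rw [← map_one Θ, ← map_sub] at h4
  rw [Module.finrank_pi, Fintype.card_fin] at h4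
  have heq : Module.finrank K (LinearMap.range (Θ f)) =
      Module.finrank (ZMod p) (LinearMap.range f) := by omega
  show Nat.card (AddMonoidHom.range (e : V →+ V)) = p ^ Module.finrank K (LinearMap.range (Θ f))
  rw [heq]
  have h5 := Module.natCard_eq_pow_finrank (K := ZMod p) (V := LinearMap.range f)
  rw [Nat.card_zmod] at h5
  exact (Nat.card_congr (Equiv.setCongr (Set.ext fun x => Iff.rfl))).trans h5

/-- The endomorphisms of a finite group of exponent `p` as matrices over an algebraically closed
field, the ranks of idempotents kept. -/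
theorem exists_endRep {V : Type*} [AddCommGroup V] [Finite V] (p : ℕ) [Fact p.Prime]
    (hexp : ∀ x : V, p • x = 0) :
    ∃ (d : ℕ) (L : AddMonoid.End V →+* Module.End (AlgebraicClosure (ZMod p))
        (Fin d → AlgebraicClosure (ZMod p))), Function.Injective L ∧ KeepsRank p L :=
  @endRep_aux V _ _ p _ (AddCommGroup.zmodModule hexp)

end Cfsg.Agent.TurullHeight
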