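import Cfsg.Agent.Lib.TurullHeight.WspFrame
import Cfsg.Agent.Lib.TurullHeight.EndRep

/-!
# The exceptional symplectic module

`a` of odd prime order `r` on the symplectic group `W` of exponent two with `|[W, a]| ≤ (r - 1)²`,
and `N = [N, a]` of odd prime-power order, abelian up to centre on `W`, preserved form: then `N`
fixes every fixed point of `a`.
-/

set_option autoImplicit false

namespace Cfsg.Agent.TurullHeight

open Finset Module
open scoped commutatorElement

section Translate

variable {Γ : Type*} [Group Γ] [Finite Γ] {k : Type*} [Field k] {E : Type*} [AddCommGroup E]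
  [Module k E] {ρ : Γ →* Module.End k E}

theorem rho_proj (g : Γ) (f : Γ → k) (v : E) :
    ρ g (proj ρ f v) = proj ρ (tr g f) (ρ g v) := by
  classical
  let _ := Fintype.ofFinite Γ
  have hcard : Nat.card {x : Γ // tr g f x ≠ 0} = Nat.card {x : Γ // f x ≠ 0} :=
    Nat.card_congr ((MulAut.conj g⁻¹).toEquiv.subtypeEquiv fun x => by
      show f (g⁻¹ * x * g) ≠ 0 ↔ f (g⁻¹ * x * g⁻¹⁻¹) ≠ 0
      rw [inv_inv])
  show ρ g (((Nat.card {x : Γ // f x ≠ 0} : k)⁻¹ • ∑ z : Γ, (f z)⁻¹ • ρ z) v) =
    ((Nat.card {x : Γ // tr g f x ≠ 0} : k)⁻¹ • ∑ z : Γ, (tr g f z)⁻¹ • ρ z) (ρ g v)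
  rw [hcard, LinearMap.smul_apply, LinearMap.smul_apply, map_smul]
  congr 1
  rw [LinearMap.sum_apply, LinearMap.sum_apply, map_sum,
    ← Equiv.sum_comp (MulAut.conj g).toEquiv fun z => ((tr g f z)⁻¹ • ρ z) (ρ g v)]
  refine sum_congr rfl fun z _ => ?_
  show ρ g (((f z)⁻¹ • ρ z) v) =
    ((f (g⁻¹ * (g * z * g⁻¹) * g))⁻¹ • ρ (g * z * g⁻¹)) (ρ g v)
  rw [LinearMap.smul_apply, LinearMap.smul_apply, map_smul, ← rho_mul_apply, ← rho_mul_apply,
    show g * z * g⁻¹ * g = g * z by group, show g⁻¹ * (g * z * g⁻¹) * g = z by group]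

theorem eq_zero_or_eq_of_proj [IsAlgClosed k] [FiniteDimensional k E] {P : Subgroup Γ} [P.Normal]
    (h2 : ClassTwo ρ P) {f f' : Γ → k} (hf : IsWt ρ P f) (hf' : IsWt ρ P f') {v : E}
    (hv : v ∈ wsp ρ f') : proj ρ f v = 0 ∨ f = f' := by
  by_cases h : f = f'
  · exact Or.inr h
  · exact Or.inl (proj_apply_of_ne h2 hf hf' h hv)

end Translate

theorem sq_lt_two_pow {R : ℕ} (hR : 1 ≤ R) : R ^ 2 < 2 ^ (2 * R - 1) := by
  have h := Nat.lt_two_pow_self (n := R - 1)
  have h1 : R ≤ 2 ^ (R - 1) := by omega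
  calc R ^ 2 ≤ (2 ^ (R - 1)) ^ 2 := Nat.pow_le_pow_left h1 2
    _ = 2 ^ (2 * R - 2) := by rw [← pow_mul]; congr 1; omega
    _ < 2 ^ (2 * R - 1) := Nat.pow_lt_pow_right Nat.one_lt_two (by omega)

theorem le_of_fixed_bound {r m t D C b : ℕ} (hr : 1 ≤ r) (hrt : 1 ≤ (r - 1) * t) (hm : 0 < m)
    (hmD : m ≤ D) (hDb : D ≤ C + b)
    (h : (m = r * t + 1 ∧ C * m ≤ (t + 1) * D) ∨ (m + 1 = r * t ∧ C * m ≤ t * D)) :
    (r - 1) * t ≤ b + 1 := by
  obtain ⟨R, rfl⟩ : ∃ R, r = R + 1 := ⟨r - 1, by omega⟩
  rw [Nat.add_sub_cancel] at hrt ⊢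
  obtain ⟨K, hK⟩ : ∃ K, R * t = K + 1 := ⟨R * t - 1, by omega⟩
  rw [Nat.succ_mul, hK] at h
  have key : ∀ L u, m = L + u → C * m ≤ u * D → L ≤ b := by
    intro L u hLu hC
    have h1 : D * m ≤ C * m + b * m := by rw [← add_mul]; exact Nat.mul_le_mul_right m hDb
    have h2 : D * m = L * D + u * D := by rw [hLu]; ring
    have h3 : L * m ≤ L * D := Nat.mul_le_mul_left L hmD
    have h4 : L * m ≤ b * m := by omega
    exact Nat.le_of_mul_le_mul_right h4 hm
  rw [hK]
  rcases h with ⟨he, hC⟩ | ⟨he, hC⟩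
  · have := key (K + 1) (t + 1) (by omega) hC; omega
  · have := key K t (by omega) hC; omega

theorem map_finset_sum_left {W M : Type*} [AddCommMonoid W] [CommMonoid M] {β : W → W → M}
    (hadd : ∀ x y z, β (x + y) z = β x z * β y z) (hb0 : ∀ z, β 0 z = 1) {ι : Type*}
    (s : Finset ι) (g : ι → W) (z : W) : β (∑ i ∈ s, g i) z = ∏ i ∈ s, β (g i) z := by
  classical
  induction s using Finset.induction_on with
  | empty => rw [sum_empty, prod_empty, hb0]
  | @insert i s hi ih => rw [sum_insert hi, prod_insert hi, hadd, ih]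

theorem end_sum_apply {W : Type*} [AddCommGroup W] {ι : Type*} (s : Finset ι)
    (g : ι → AddMonoid.End W) (w : W) : (∑ i ∈ s, g i) w = ∑ i ∈ s, g i w := by
  classical
  induction s using Finset.induction_on with
  | empty => rfl
  | @insert i s hi ih => rw [sum_insert hi, sum_insert hi, ← ih]; rfl

variable {Δ : Type*} [Group Δ] [Finite Δ] {W : Type*} [AddCommGroup W] [Finite W]
  {M : Type*} [CommGroup M]

/-- The exceptional module has no room for the action of `N`. -/
theorem fixes_of_exceptional (h2W : ∀ w : W, 2 • w = 0) (ν : Δ →* AddMonoid.End W)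
    (N : Subgroup Δ) [N.Normal] (a : Δ) {r q : ℕ} (hr : r.Prime) (hr2 : r ≠ 2) (hq : q.Prime)
    (hq2 : q ≠ 2) (hrq : r ≠ q) (hN : IsPGroup q N) (har : a ^ r = 1)
    (hgen : ∀ H : Subgroup Δ, (∀ n ∈ N, dif a n ∈ H) → N ≤ H)
    (hc1 : ∀ x ∈ N, ∀ y ∈ N, ∀ z ∈ N, Commute (ν ⁅x, y⁆) (ν z))
    (hc2 : ∀ x ∈ N, ∀ y ∈ N, Commute (ν (x ^ q)) (ν y))
    (β : W → W → M) (hadd : ∀ x y z, β (x + y) z = β x z * β y z)
    (hadd' : ∀ x y z, β x (y + z) = β x y * β x z) (halt : ∀ x, β x x = 1)
    (hinv : ∀ g, g = a ∨ g ∈ N → ∀ x y, β (ν g x) (ν g y) = β x y)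
    (hnd : ∀ x, (∀ y, β x y = 1) → x = 0)
    (hcard : Nat.card (AddMonoidHom.range ((ν a - 1 : AddMonoid.End W) : W →+ W)) ≤ (r - 1) ^ 2)
    {u : W} (hu : ν a u = u) {n : Δ} (hn : n ∈ N) : ν n u = u := by
  classical
  by_contra hne
  let _ : Fintype N := Fintype.ofFinite N
  have hb0 : ∀ z, β 0 z = 1 := fun z => by
    have h := hadd 0 0 z; rw [add_zero] at h; exact mul_eq_left.1 h.symm
  have hb0' : ∀ z, β z 0 = 1 := fun z => by
    have h := hadd' z 0 0; rw [add_zero] at h; exact mul_eq_left.1 h.symm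
  have hbsq : ∀ x y, β x y ^ 2 = 1 := fun x y => by
    rw [sq, ← hadd, ← two_nsmul, h2W, hb0]
  have hqodd : Odd q := hq.odd_of_ne_two hq2
  have hcardN : Odd (Nat.card N) := by
    have := Fact.mk hq
    obtain ⟨e, he⟩ := IsPGroup.iff_card.1 hN
    rw [he]; exact hqodd.pow
  have hodd : ∀ {m : ℕ}, Odd m → ∀ w : W, m • w = w := by
    rintro m ⟨j, rfl⟩ w
    rw [add_nsmul, mul_nsmul, h2W, one_nsmul, smul_zero, zero_add]
  -- the two averages
  set eN : AddMonoid.End W := ∑ x : N, ν x with heN
  set eA : AddMonoid.End W := ∑ i ∈ range r, ν (a ^ i) with heA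
  have hNl : ∀ x ∈ N, ν x * eN = eN := fun x hx => by
    rw [heN, mul_sum]
    simp only [← map_mul]
    exact Fintype.sum_equiv (Equiv.mulLeft (⟨x, hx⟩ : N)) _ _ fun _ => rfl
  have hapow : ∀ i, ν (a ^ i) * eA = eA := by
    have h1 : ν a * eA = eA := by
      have h : ν a * eA + ν (a ^ 0) = eA + ν (a ^ r) := by
        rw [heA, mul_sum, ← sum_range_succ (fun i => ν (a ^ i)) r,
          sum_range_succ' (fun i => ν (a ^ i)) r]
        simp only [← map_mul, ← pow_succ']
      rw [har, pow_zero] at h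
      exact add_right_cancel h
    intro i
    induction i with
    | zero => rw [pow_zero, map_one, one_mul]
    | succ i ih => rw [pow_succ', map_mul, mul_assoc, ih, h1]
  have hNg : ∀ g : Δ, ν g * eN = eN * ν g := fun g => by
    rw [heN, mul_sum, sum_mul]
    simp only [← map_mul]
    refine Fintype.sum_equiv (MulAut.conjNormal (H := N) g).toEquiv _ _ fun x => ?_
    congr 1
    show g * (x : Δ) = (MulAut.conjNormal g x : Δ) * g
    rw [MulAut.conjNormal_apply, inv_mul_cancel_right]
  have hNA : eA * eN = eN * eA := by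
    rw [heA, sum_mul, mul_sum]; exact sum_congr rfl fun i _ => hNg _
  have hNN : eN * eN = eN := AddMonoidHom.ext fun w => by
    conv_lhs => rw [heN, sum_mul, sum_congr rfl fun x _ => hNl _ x.2, sum_const, card_univ,
      ← Nat.card_eq_fintype_card]
    exact hodd hcardN (eN w)
  have hAA : eA * eA = eA := AddMonoidHom.ext fun w => by
    conv_lhs => rw [heA, sum_mul, sum_congr rfl fun i _ => hapow i, sum_const, card_range]
    exact hodd (hr.odd_of_ne_two hr2) (eA w)
  have hAa : ∀ w, ν a (eA w) = eA w := fun w => by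
    have := DFunLike.congr_fun (hapow 1) w
    rwa [pow_one] at this
  have hfixA : ∀ w, ν a w = w → eA w = w := fun w hw => by
    have hi : ∀ i, ν (a ^ i) w = w := by
      intro i
      induction i with
      | zero => rw [pow_zero, map_one]; rfl
      | succ i ih => rw [pow_succ', map_mul]; show ν a (ν (a ^ i) w) = w; rw [ih, hw]
    show (∑ i ∈ range r, ν (a ^ i)) w = w
    rw [end_sum_apply]
    simp only [hi, sum_const, card_range]
    exact hodd (hr.odd_of_ne_two hr2) w
  -- a fixed vector without part fixed by `N`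
  set w := u - eN u with hw
  have hNw : eN w = 0 := by
    rw [hw, map_sub]
    show eN u - (eN * eN) u = 0
    rw [hNN, sub_self]
  have hw0 : w ≠ 0 := fun h => hne (by
    rw [hw, sub_eq_zero] at h
    have := DFunLike.congr_fun (hNl n hn) u
    rw [h]
    exact this)
  have haw : ν a w = w := by
    rw [hw, map_sub, hu]
    congr 1
    show (ν a * eN) u = eN u
    rw [hNg]
    show eN (ν a u) = eN u
    rw [hu]
  set π := eA * (1 - eN) with hπ
  have hπw : π w = w := by
    show eA (w - eN w) = w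
    rw [hNw, sub_zero, hfixA w haw]
  obtain ⟨z, hz⟩ : ∃ z, β w z ≠ 1 := by
    by_contra h
    push Not at h
    exact hw0 (hnd w h)
  have hβπ : β w (π z) = β w z := by
    have hinvN : ∀ x ∈ N, ∀ y, β w (ν x y) = β (ν x⁻¹ w) y := fun x hx y => by
      rw [← hinv x⁻¹ (Or.inr (inv_mem hx)) w (ν x y)]
      congr 1
      show (ν x⁻¹ * ν x) y = y
      rw [← map_mul, inv_mul_cancel, map_one]; rfl
    have h1 : β w (eN z) = 1 := by
      show β w ((∑ x : N, ν x) z) = 1
      rw [end_sum_apply, map_finset_sum_left (β := fun x y => β y x) (fun x y z => hadd' z x y) hb0']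
      have h2 : β (eN w) z = 1 := by rw [hNw, hb0]
      rw [← h2]
      show _ = β ((∑ x : N, ν x) w) z
      rw [end_sum_apply, map_finset_sum_left hadd hb0]
      exact Fintype.prod_equiv (Equiv.inv N) _ _ fun x => hinvN x x.2 z
    show β w (eA (z - eN z)) = β w z
    have hA : ∀ y, β w (eA y) = β w y := fun y => by
      show β w ((∑ i ∈ range r, ν (a ^ i)) y) = _
      rw [end_sum_apply]
      rw [map_finset_sum_left (β := fun x y => β y x) (fun x y z => hadd' z x y) hb0']
      have hterm : ∀ i, β w (ν (a ^ i) y) = β w y := by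
        intro i
        induction i with
        | zero => rw [pow_zero, map_one]; rfl
        | succ i ih =>
          rw [pow_succ', map_mul]
          show β w (ν a (ν (a ^ i) y)) = _
          conv_lhs => rw [← haw]
          rw [hinv a (Or.inl rfl), ih]
      simp only [hterm, prod_const, card_range]
      obtain ⟨j, hj⟩ := hr.odd_of_ne_two hr2
      rw [hj, pow_succ, pow_mul, hbsq, one_pow, one_mul]
    rw [hA]
    have h3 := hadd' w (z - eN z) (eN z)
    rw [sub_add_cancel, h1, mul_one] at h3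
    exact h3.symm
  have hππ : π * π = π := by
    have hc : Commute eA eN := hNA
    rw [hπ]
    rw [((Commute.one_right eA).sub_right hc).symm.mul_mul_mul_comm, hAA, mul_sub, mul_one, sub_mul,
      one_mul, hNN, sub_self, sub_zero]
  have h3card : 3 ≤ Nat.card (AddMonoidHom.range (π : W →+ W)) := by
    have hπz0 : π z ≠ 0 := fun h => hz (by rw [← hβπ, h, hb0'])
    have hπzw : π z ≠ w := fun h => hz (by rw [← hβπ, h, halt])
    have h3 : ({0, w, π z} : Set W).ncard = 3 :=
      Set.ncard_eq_three.2 ⟨0, w, π z, hw0.symm, hπz0.symm, hπzw.symm, rfl⟩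
    rw [← h3]
    refine (Set.ncard_le_ncard ?_ (Set.toFinite _)).trans (le_of_eq (Nat.card_coe_set_eq _).symm)
    rintro x (rfl | rfl | rfl)
    · exact zero_mem _
    · exact ⟨w, hπw⟩
    · exact ⟨z, rfl⟩
  -- the complement
  set B := (1 - eA) * (1 - eN) with hB
  have hBB : B * B = B := by
    have hc : Commute (1 - eA) (1 - eN) :=
      ((Commute.one_right _).sub_right (((Commute.one_left eN).sub_left hNA)))
    have hA1 : (1 - eA) * (1 - eA) = 1 - eA := IsIdempotentElem.one_sub hAA
    have hN1 : (1 - eN) * (1 - eN) = 1 - eN := IsIdempotentElem.one_sub hNN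
    rw [hB, hc.symm.mul_mul_mul_comm, hA1, hN1]
  have hBrange : Nat.card (AddMonoidHom.range (B : W →+ W)) ≤ (r - 1) ^ 2 := by
    refine le_trans (Nat.card_mono (Set.toFinite _) ?_) hcard
    rintro _ ⟨x, rfl⟩
    set R := AddMonoidHom.range ((ν a - 1 : AddMonoid.End W) : W →+ W)
    set y := x - eN x
    show y - eA y ∈ R
    have h1 : y - eA y = -∑ i ∈ range r, (ν (a ^ i) y - y) := by
      rw [sum_sub_distrib, sum_const, card_range, hodd (hr.odd_of_ne_two hr2) y, neg_sub,
        ← end_sum_apply]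
    rw [h1]
    refine neg_mem (sum_mem fun i hi => ?_)
    clear h1 hi
    induction i with
    | zero => rw [pow_zero, map_one]; show y - y ∈ R; rw [sub_self]; exact zero_mem _
    | succ i ih =>
      have : ν (a ^ (i + 1)) y - y = (ν a (ν (a ^ i) y) - ν (a ^ i) y) + (ν (a ^ i) y - y) := by
        rw [pow_succ', map_mul]
        show ν a (ν (a ^ i) y) - y = _
        abel
      rw [this]
      exact add_mem ⟨ν (a ^ i) y, rfl⟩ ih
  -- over an algebraically closed field
  have := Fact.mk Nat.prime_two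
  obtain ⟨K, _, _, hK, d, L, hL⟩ : ∃ (K : Type) (_ : Field K) (_ : IsAlgClosed K) (_ : CharP K 2)
      (d : ℕ) (L : AddMonoid.End W →+* Module.End K (Fin d → K)), KeepsRank 2 L := by
    obtain ⟨d, L, -, hL⟩ := exists_endRep 2 h2W
    exact ⟨_, inferInstance, inferInstance,
      charP_of_injective_algebraMap (algebraMap (ZMod 2) _).injective 2, d, L, hL⟩
  let ρ : Δ →* Module.End K (Fin d → K) := L.toMonoidHom.comp ν
  have hρ : ∀ g, ρ g = L (ν g) := fun g => rfl
  have hKodd : ∀ {m : ℕ}, Odd m → (m : K) = 1 := by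
    rintro m ⟨j, rfl⟩
    rw [Nat.cast_add, Nat.cast_mul, show ((2 : ℕ) : K) = 0 from CharP.cast_eq_zero K 2, zero_mul,
      zero_add, Nat.cast_one]
  have hd : ActData ρ N a r q :=
    { normal := inferInstance
      classTwo := fun x hx y hy z hz => (hc1 x hx y hy z hz).map L
      pow_central := fun x hx y hy => (hc2 x hx y hy).map L
      hr := hr
      r_ne := by rw [hKodd (hr.odd_of_ne_two hr2)]; exact one_ne_zero
      a_pow := har
      hp := hq
      pgroup := hN
      p_ne := by rw [hKodd hqodd]; exact one_ne_zero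
      rp := hrq }
  have hP := natCard_P_ne_zero hd
  set EN := L eN with hEN
  set EA := L eA with hEA
  have hrank2 : 2 ≤ finrank K (LinearMap.range (L π)) := by
    have h : Nat.card (AddMonoidHom.range (π : W →+ W)) = 2 ^ finrank K (LinearMap.range (L π)) :=
      hL π hππ
    by_contra hlt
    have : 2 ^ finrank K (LinearMap.range (L π)) ≤ 2 ^ 1 :=
      Nat.pow_le_pow_right (by norm_num) (by omega)
    omega
  have hrankB : 2 ^ finrank K (LinearMap.range (L B)) ≤ (r - 1) ^ 2 :=
    (hL B hBB).symm.trans_le hBrange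
  have hLB : ∀ v, EN v = 0 → L B v = v - EA v := fun v hv => by
    rw [hB, map_mul, map_sub, map_sub, map_one, Module.End.mul_apply, ← hEN, ← hEA,
      LinearMap.sub_apply 1 EN, Module.End.one_apply, hv, sub_zero, LinearMap.sub_apply,
      Module.End.one_apply]
  have hEA_fix : ∀ v, ρ a v = v → EA v = v := fun v hv => by
    have hi : ∀ i, ρ (a ^ i) v = v := by
      intro i
      induction i with
      | zero => rw [pow_zero, map_one, Module.End.one_apply]
      | succ i ih => rw [pow_succ', rho_mul_apply, ih, hv]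
    rw [hEA, heA, map_sum, LinearMap.sum_apply]
    simp only [← hρ, hi, sum_const, card_range, ← Nat.cast_smul_eq_nsmul K,
      hKodd (hr.odd_of_ne_two hr2), one_smul]
  have hEA_a : ∀ v, ρ a (EA v) = EA v := fun v => by
    rw [hEA, hρ, ← Module.End.mul_apply, ← map_mul]
    congr 2
    exact (pow_one a ▸ hapow 1)
  have hEN_apply : ∀ v, EN v = ∑ x : N, ρ (x : Δ) v := fun v => by
    rw [hEN, heN, map_sum, LinearMap.sum_apply]; rfl
  have hEN_proj : ∀ f, IsWt ρ N f → Commute EN (proj ρ f) := fun f hf => by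
    rw [hEN, heN, map_sum]
    exact Commute.sum_left _ _ _ fun x _ => proj_commute hf x.2
  -- moved weights have no `N`-invariants, the others consist of them
  have hmoved : ∀ f, IsWt ρ N f → (∃ g ∈ N, f (dif a g) ≠ 1) → ∀ v ∈ wsp ρ f, EN v = 0 := by
    intro f hf ⟨g, hg, hg1⟩ v hv
    by_contra h0
    let T : Submodule K (Fin d → K) :=
      { carrier := {x | x ∈ wsp ρ f ∧ ∀ y ∈ N, ρ y x = x}
        add_mem' := fun {x y} hx hy => ⟨add_mem hx.1 hy.1, fun z hz => by
          rw [map_add, hx.2 z hz, hy.2 z hz]⟩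
        zero_mem' := ⟨zero_mem _, fun z _ => map_zero _⟩
        smul_mem' := fun c x hx => ⟨Submodule.smul_mem _ c hx.1, fun z hz => by
          rw [map_smul, hx.2 z hz]⟩ }
    have hmem : EN v ∈ T := by
      refine ⟨?_, fun y hy => ?_⟩
      · rw [hEN_apply]
        exact Submodule.sum_mem _ fun x _ => hf.wsp_pInv x x.2 v hv
      · rw [hEN, hρ, ← Module.End.mul_apply, ← map_mul, hNl y hy]
    refine hg1 (hf.eq_one_of_fix hd.classTwo (T := T) (fun x hx => hx.1)
      (fun y hy x hx => by rw [hx.2 y hy]; exact hx) ?_ (dif_mem hd hg)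
      fun x hx => hx.2 _ (dif_mem hd hg))
    exact fun hb => h0 ((Submodule.mem_bot K).1 (hb ▸ hmem))
  have hstill : ∀ f, IsWt ρ N f → ¬ (∃ g ∈ N, f (dif a g) ≠ 1) → ∀ v ∈ wsp ρ f, EN v = v := by
    intro f hf hno v hv
    push Not at hno
    have hall : ∀ x ∈ N, f x = 1 := fun x hx => hgen (zSub hf ⊓
      { carrier := {x | f x = 1}
        one_mem' := hf.map_one
        mul_mem' := fun {x y} hx hy => by
          show f (x * y) = 1
          rw [hf.map_mul (by rw [show f x = 1 from hx]; exact one_ne_zero), show f x = 1 from hx,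
            show f y = 1 from hy, one_mul]
        inv_mem' := fun {x} hx => by
          show f x⁻¹ = 1
          rw [hf.map_inv (by rw [show f x = 1 from hx]; exact one_ne_zero), show f x = 1 from hx,
            inv_one] })
      (fun y hy => ⟨by show f _ ≠ 0; rw [hno y hy]; exact one_ne_zero, hno y hy⟩) hx |>.2
    rw [hEN_apply]
    have h1 : ∀ x : N, ρ (x : Δ) v = v := fun x => by
      rw [hv x (by rw [hall x x.2]; exact one_ne_zero), hall x x.2, one_smul]
    rw [sum_congr rfl fun x _ => h1 x, sum_const, card_univ, ← Nat.card_eq_fintype_card,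
      ← Nat.cast_smul_eq_nsmul K, hKodd hcardN, one_smul]
  have hcomp : ∀ f, IsWt ρ N f → ¬ (∃ g ∈ N, f (dif a g) ≠ 1) → ∀ v, EN v = 0 → proj ρ f v = 0 :=
    fun f hf hno v hv => by
      rw [← hstill f hf hno _ (proj_mem hf v), ← Module.End.mul_apply, (hEN_proj f hf).eq,
        Module.End.mul_apply, hv, map_zero]
  by_cases hfixed : ∃ f, IsWt ρ N f ∧ (∃ g ∈ N, f (dif a g) ≠ 1) ∧ tr a f = f
  · -- a fixed moved weight
    obtain ⟨f, hf, hmv, hfa⟩ := hfixed
    obtain ⟨m, t, e, hme, hm2, hmD, hb⟩ := fixed_bound hd hf hfa hmv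
    let φ := (L B).domRestrict (wsp ρ f)
    have hker : finrank K (LinearMap.ker φ) ≤
        finrank K (wsp ρ f ⊓ LinearMap.ker (ρ a - 1) : Submodule K (Fin d → K)) := by
      rw [← Submodule.finrank_map_subtype_eq]
      refine Submodule.finrank_mono ?_
      rintro _ ⟨v, hv, rfl⟩
      refine ⟨v.2, ?_⟩
      have h : L B v = 0 := LinearMap.mem_ker.1 hv
      rw [hLB v (hmoved f hf hmv v v.2), sub_eq_zero] at h
      show (ρ a - 1) (v : Fin d → K) = 0
      rw [LinearMap.sub_apply, Module.End.one_apply, sub_eq_zero]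
      rw [h, hEA_a]
    have himg : finrank K (LinearMap.range φ) ≤ finrank K (LinearMap.range (L B)) :=
      Submodule.finrank_mono (by rintro _ ⟨v, rfl⟩; exact ⟨v, rfl⟩)
    have hrn := φ.finrank_range_add_finrank_ker
    set D := finrank K (wsp ρ f)
    set C := finrank K (wsp ρ f ⊓ LinearMap.ker (ρ a - 1) : Submodule K (Fin d → K))
    set b := finrank K (LinearMap.range (L B))
    have hDb : D ≤ C + b := by omega
    have hr3 : 3 ≤ r := by have := hr.two_le; omega
    have ht1 : 1 ≤ t := by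
      rcases Nat.eq_zero_or_pos t with rfl | h
      · rcases hb with ⟨h, -⟩ | ⟨h, -⟩ <;> omega
      · exact h
    have ht2 : 2 ≤ t := by
      by_contra ht
      have ht1' : t = 1 := by omega
      subst ht1'
      obtain ⟨i, hi⟩ := (Nat.odd_mul.1 (hme ▸ hqodd.pow : Odd (m * m))).1
      obtain ⟨j, hj⟩ := hr.odd_of_ne_two hr2
      rcases hb with ⟨h, -⟩ | ⟨h, -⟩ <;> omega
    have hmul : (r - 1) * 2 ≤ (r - 1) * t := Nat.mul_le_mul_left _ ht2
    have hkey := le_of_fixed_bound (r := r) (by omega) (by omega) (by omega) hmD hDb hb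
    have h9 := sq_lt_two_pow (R := r - 1) (by omega)
    have h10 : 2 ^ (2 * (r - 1) - 1) ≤ 2 ^ b := Nat.pow_le_pow_right (by norm_num) (by omega)
    omega
  · -- all moved weights are permuted freely
    push Not at hfixed
    have hwtr : ∀ (g : Δ) f, IsWt ρ N f → IsWt ρ N (tr g f) := fun g f hf => hf.translate g
    have hmtr : ∀ f : Δ → K, (∃ g ∈ N, f (dif a g) ≠ 1) → ∃ g ∈ N, tr a f (dif a g) ≠ 1 := by
      rintro f ⟨g, hg, hg1⟩
      refine ⟨a * g * a⁻¹, hd.normal.conj_mem g hg a, ?_⟩
      show f (a⁻¹ * dif a (a * g * a⁻¹) * a) ≠ 1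
      rwa [show a⁻¹ * dif a (a * g * a⁻¹) * a = dif a g by simp only [dif]; group]
    let Y := {f : Δ → K // IsWt ρ N f ∧ ∃ g ∈ N, f (dif a g) ≠ 1}
    have : Finite Y := ((finite_wts (ρ := ρ) (P := N)).subset (fun f hf => hf.1)).to_subtype
    let τ : Y → Y := fun f => ⟨tr a f.1, hwtr a _ f.2.1, hmtr _ f.2.2⟩
    have hτ : ∀ i (f : Y), (τ^[i] f).1 = tr (a ^ i) f.1 := by
      intro i
      induction i with
      | zero => intro f; rw [pow_zero, tr_one]; rfl
      | succ i ih => intro f; rw [Function.iterate_succ_apply', pow_succ', ← tr_tr, ← ih]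
    have hfree : ∀ (f : Y) i, 0 < i → i < r → τ^[i] f ≠ f := by
      intro f i h0 hi h
      obtain ⟨j, hj⟩ := Nat.exists_mul_mod_eq_one_of_coprime
        ((hr.coprime_iff_not_dvd.2 fun hd' => absurd (Nat.le_of_dvd h0 hd') (not_le.2 hi)).symm)
        hr.one_lt
      have h1 : τ^[i * j] f = f := (Function.IsPeriodicPt.mul_const h j).eq
      have h2 := congrArg Subtype.val h1
      rw [hτ, pow_eq_pow_mod _ har, hj.2, pow_one] at h2
      exact hfixed f.1 f.2.1 f.2.2 h2
    obtain ⟨S, hS⟩ := exists_reps τ hr.ne_zero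
      (fun f => Subtype.ext (by rw [hτ, har, tr_one])) hfree
    let σ : Module.End K (Fin d → K) := ∑ s ∈ S, proj ρ s.1
    have hENρ : ∀ g v, EN (ρ g v) = ρ g (EN v) := fun g v => by
      rw [hEN, hρ, ← Module.End.mul_apply, ← map_mul, ← hNg, map_mul, Module.End.mul_apply]
    have hσN : ∀ v, EN (σ v) = 0 := fun v => by
      rw [LinearMap.sum_apply, map_sum]
      exact sum_eq_zero fun s _ => hmoved _ s.2.1 s.2.2 _ (proj_mem s.2.1 v)
    have hinv' : ∀ i v, EA (ρ (a ^ i) v) = EA v := by
      have hc : ∀ i, eA * ν (a ^ i) = eA := fun i => by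
        rw [show eA * ν (a ^ i) = ν (a ^ i) * eA by
          rw [heA, sum_mul, mul_sum]
          exact sum_congr rfl fun j _ => by rw [← map_mul, ← map_mul, ← pow_add, ← pow_add, add_comm]]
        exact hapow i
      intro i v
      rw [hEA, hρ, ← Module.End.mul_apply, ← map_mul, hc]
    -- the map
    let Cs : Submodule K (Fin d → K) := LinearMap.range (L π)
    have hCs : ∀ v ∈ Cs, EN v = 0 ∧ ρ a v = v := by
      rintro _ ⟨x, rfl⟩
      refine ⟨?_, ?_⟩
      · rw [hEN, ← Module.End.mul_apply, ← map_mul, hπ, ← mul_assoc, ← hNA, mul_assoc, mul_sub,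
          mul_one, hNN, sub_self, mul_zero, map_zero, LinearMap.zero_apply]
      · rw [hπ, map_mul, Module.End.mul_apply, ← hEA, hEA_a]
    let Ψ : (Fin (r - 1) → Cs) →ₗ[K] LinearMap.range (L B) :=
      (∑ i : Fin (r - 1), ((ρ (a ^ ((i : ℕ) + 1)) - 1) * σ).comp
        (Cs.subtype.comp (LinearMap.proj i))).codRestrict _ fun c => by
          rw [LinearMap.sum_apply]
          refine Submodule.sum_mem _ fun i _ => ?_
          simp only [LinearMap.comp_apply, Module.End.mul_apply, LinearMap.sub_apply,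
            Module.End.one_apply]
          refine ⟨ρ (a ^ ((i : ℕ) + 1)) (σ (c i : Fin d → K)) - σ (c i : Fin d → K), ?_⟩
          rw [hLB _ (by rw [map_sub, hENρ, hσN, map_zero, sub_zero]), map_sub, hinv', sub_self,
            sub_zero]
          rfl
    have hΨ : Function.Injective Ψ := by
      refine (injective_iff_map_eq_zero Ψ).2 fun c hc => ?_
      have h0 : ∑ i : Fin (r - 1),
          (ρ (a ^ ((i : ℕ) + 1)) (σ (c i : Fin d → K)) - σ (c i : Fin d → K)) = 0 := by
        have := congrArg Subtype.val hc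
        simpa [Ψ, LinearMap.sum_apply] using this
      funext j
      refine Subtype.ext ?_
      show (c j : Fin d → K) = 0
      have hinjS : ∀ (s t : Y) (i l : ℕ), s ∈ S → t ∈ S → i < r → l < r →
          tr (a ^ i) s.1 = tr (a ^ l) t.1 → i = l ∧ s = t := by
        intro s t i l hs ht hi hl he
        have := hS.1 (a₁ := (⟨s, hs⟩, ⟨i, hi⟩)) (a₂ := (⟨t, ht⟩, ⟨l, hl⟩))
          (Subtype.ext (by rw [hτ, hτ]; exact he))
        exact ⟨congrArg (fun q => (q.2 : ℕ)) this, congrArg (fun q => (q.1 : Y)) this⟩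
      have hjs : ∀ s ∈ S, proj ρ s.1 (c j : Fin d → K) = 0 := by
        intro s hs
        have hj := j.2
        set g := tr (a ^ ((j : ℕ) + 1)) s.1 with hg
        have hgw : IsWt ρ N g := hwtr _ _ s.2.1
        have hcomp1 : ∀ (l : ℕ), l < r → ∀ v, proj ρ g (ρ (a ^ l) (σ v)) =
            if l = (j : ℕ) + 1 then ρ (a ^ l) (proj ρ s.1 v) else 0 := by
          intro l hl v
          rw [LinearMap.sum_apply, map_sum, map_sum]
          have hterm : ∀ t ∈ S, proj ρ g (ρ (a ^ l) (proj ρ t.1 v)) =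
              if l = (j : ℕ) + 1 ∧ t = s then ρ (a ^ l) (proj ρ s.1 v) else 0 := by
            intro t ht
            have hmem := rho_mem_wsp_tr (proj_mem t.2.1 v) (a ^ l)
            split_ifs with h
            · obtain ⟨rfl, rfl⟩ := h
              exact proj_apply_of_mem hgw hP hmem
            · refine (eq_zero_or_eq_of_proj hd.classTwo hgw (hwtr _ _ t.2.1) hmem).resolve_right ?_
              intro he
              obtain ⟨h1, h2⟩ := hinjS s t _ _ hs ht (by omega) hl (hg ▸ he)
              exact h ⟨h1.symm, h2.symm⟩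
          rw [sum_congr rfl hterm]
          split_ifs with h
          · rw [sum_eq_single s (fun t _ hts => if_neg fun h' => hts h'.2) (fun h' => absurd hs h'),
              if_pos ⟨h, rfl⟩]
          · exact sum_eq_zero fun t _ => if_neg fun h' => h h'.1
        have h1 := congrArg (proj ρ g) h0
        rw [map_sum, map_zero, sum_eq_single j] at h1
        · have h2 := hcomp1 ((j : ℕ) + 1) (by omega) (c j : Fin d → K)
          have h3 := hcomp1 0 hr.pos (c j : Fin d → K)
          rw [if_pos rfl] at h2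
          rw [if_neg (by omega), pow_zero, map_one, Module.End.one_apply] at h3
          rw [map_sub, h2, h3, sub_zero] at h1
          have h4 := congrArg (ρ (a ^ ((j : ℕ) + 1))⁻¹) h1
          rwa [rho_inv_apply, map_zero] at h4
        · intro i _ hij
          have hi := i.2
          have h2 := hcomp1 ((i : ℕ) + 1) (by omega) (c i : Fin d → K)
          have h3 := hcomp1 0 hr.pos (c i : Fin d → K)
          rw [if_neg fun h => hij (Fin.ext (by omega))] at h2
          rw [if_neg (by omega), pow_zero, map_one, Module.End.one_apply] at h3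
          rw [map_sub, h2, h3, sub_zero]
        · exact fun h => absurd (mem_univ _) h
      obtain ⟨hN0, haf⟩ := hCs _ (c j).2
      have hafix : ∀ i, ρ (a ^ i) (c j : Fin d → K) = c j := by
        intro i
        induction i with
        | zero => rw [pow_zero, map_one, Module.End.one_apply]
        | succ i ih => rw [pow_succ', rho_mul_apply, ih, haf]
      rw [← sum_proj hd.classTwo hP (c j : Fin d → K)]
      refine sum_eq_zero fun f hf => ?_
      have hfw := mem_wts.1 hf
      by_cases hm : ∃ g ∈ N, f (dif a g) ≠ 1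
      · obtain ⟨⟨s, i⟩, hsi⟩ := hS.2 ⟨f, hfw, hm⟩
        have hf' : tr (a ^ (i : ℕ)) s.1.1 = f := (hτ _ _).symm.trans (congrArg Subtype.val hsi)
        rw [← hf', ← hafix i, ← rho_proj, hjs s.1 s.2, map_zero]
      · exact hcomp f hfw hm _ hN0
    have hdim := LinearMap.finrank_le_finrank_of_injective hΨ
    rw [Module.finrank_pi_fintype, sum_const, card_univ, Fintype.card_fin, smul_eq_mul] at hdim
    have hge : 2 * (r - 1) - 1 ≤ finrank K (LinearMap.range (L B)) := by
      have : (r - 1) * 2 ≤ (r - 1) * finrank K Cs := Nat.mul_le_mul_left _ hrank2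
      omega
    have h9 := sq_lt_two_pow (R := r - 1) (by have := hr.two_le; omega)
    have h10 := Nat.pow_le_pow_right (n := 2) (by norm_num) hge
    omega

end Cfsg.Agent.TurullHeight
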