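import Mathlib.LinearAlgebra.Dimension.Constructions
import Mathlib.LinearAlgebra.FiniteDimensional.Lemmas
import Mathlib.Data.Fintype.Card
import Mathlib.Data.Setoid.Basic
import Mathlib.Dynamics.PeriodicPts.Defs

/-!
# Fixed points of an operator permuting lines freely

`fixed_lines`: if `T` with `T ^ b = 1` permutes the lines `k • v x` of a basis freely apart from one
fixed vector, then every fixed vector is that vector plus a norm, and the fixed space has dimension
`1 + (card - 1) / b`. The characteristic is arbitrary.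
-/

set_option autoImplicit false

namespace Cfsg.Agent.TurullHeight

open Finset

/-- Orbit representatives of a map all of whose orbits have length exactly `b`. -/
theorem exists_reps {Y : Type*} [Finite Y] (τ : Y → Y) {b : ℕ} (hb : b ≠ 0)
    (hper : ∀ y, τ^[b] y = y) (hfree : ∀ y, ∀ i, 0 < i → i < b → τ^[i] y ≠ y) :
    ∃ S : Finset Y, Function.Bijective fun s : S × Fin b => τ^[(s.2 : ℕ)] s.1 := by
  classical
  have hbp : 0 < b := Nat.pos_of_ne_zero hb
  have hmod : ∀ y i, τ^[i] y = τ^[i % b] y := by
    intro y i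
    conv_lhs => rw [← Nat.mod_add_div i b, Function.iterate_add_apply]
    congr 1
    exact (Function.IsPeriodicPt.mul_const (hper y : Function.IsPeriodicPt τ b y) _).eq
  let _ : Fintype Y := Fintype.ofFinite Y
  let R : Setoid Y :=
    { r := fun y z => ∃ i, τ^[i] y = z
      iseqv :=
        { refl := fun y => ⟨0, rfl⟩
          symm := fun {y z} ⟨i, hi⟩ => ⟨b - i % b, by
            have h1 := Nat.mod_lt i hbp
            rw [← hi, ← Function.iterate_add_apply, hmod, ← Nat.add_mod_mod,
              show b - i % b + i % b = b by omega, Nat.mod_self]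
            rfl⟩
          trans := fun {y z w} ⟨i, hi⟩ ⟨j, hj⟩ => ⟨j + i, by
            rw [Function.iterate_add_apply, hi, hj]⟩ } }
  let S : Finset Y := univ.image fun q : Quotient R => q.out
  refine ⟨S, ?_, fun y => ?_⟩
  · rintro ⟨⟨s, hs⟩, i⟩ ⟨⟨t, ht⟩, j⟩ (h : τ^[(i : ℕ)] s = τ^[(j : ℕ)] t)
    obtain ⟨q, -, hq⟩ := mem_image.1 hs
    obtain ⟨q', -, hq'⟩ := mem_image.1 ht
    have hst : s = t := by
      have h1 : R.r s (τ^[(i : ℕ)] s) := ⟨_, rfl⟩
      have h2 : R.r t (τ^[(j : ℕ)] t) := ⟨_, rfl⟩
      rw [← h] at h2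
      have h3 : R.r s t := R.iseqv.trans h1 (R.iseqv.symm h2)
      have h4 : q = q' := by
        rw [← Quotient.out_eq q, ← Quotient.out_eq q', hq, hq']
        exact Quotient.sound h3
      rw [← hq, ← hq', h4]
    subst hst
    have hij : (i : ℕ) = j := by
      by_contra hne
      rcases lt_or_gt_of_ne hne with hlt | hlt
      · refine hfree (τ^[(i : ℕ)] s) (j - i) (by omega) (by omega) ?_
        rw [← Function.iterate_add_apply, show (j : ℕ) - i + i = j by omega, h]
      · refine hfree (τ^[(j : ℕ)] s) (i - j) (by omega) (by omega) ?_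
        rw [← Function.iterate_add_apply, show (i : ℕ) - j + j = i by omega, h]
    exact Prod.ext rfl (Fin.ext hij)
  · obtain ⟨i, hi⟩ := Quotient.mk_out (s := R) y
    exact ⟨⟨⟨_, mem_image.2 ⟨⟦y⟧, mem_univ _, rfl⟩⟩, ⟨i % b, Nat.mod_lt _ hbp⟩⟩, by
      show τ^[i % b] _ = y
      rw [← hmod]; exact hi⟩

variable {k M : Type*} [Field k] [AddCommGroup M] [Module k M]

/-- The norm of a vector. -/
def normMap (T : Module.End k M) (b : ℕ) : Module.End k M := ∑ i ∈ range b, T ^ i

theorem mul_normMap (T : Module.End k M) {b : ℕ} (hT : T ^ b = 1) :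
    T * normMap T b = normMap T b := by
  have h : T * normMap T b + 1 = normMap T b + T ^ b := by
    rw [normMap, mul_sum, ← sum_range_succ, sum_range_succ' (fun i => T ^ i), pow_zero]
    simp only [pow_succ']
  rwa [hT, add_left_inj] at h

theorem fixed_lines [FiniteDimensional k M] (T : Module.End k M) {b : ℕ} (hb : b ≠ 0)
    (hT : T ^ b = 1) {X : Type*} [Fintype X] (v : X → M) (hv : LinearIndependent k v)
    (hspan : ⊤ ≤ Submodule.span k (Set.range v)) (x₀ : X) (h₀ : T (v x₀) = v x₀) (τ : X → X)
    (hline : ∀ x, ∃ c : k, T (v x) = c • v (τ x))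
    (hfree : ∀ x, x ≠ x₀ → ∀ i, 0 < i → i < b → τ^[i] x ≠ x) :
    b * Module.finrank k (LinearMap.ker (T - 1)) + 1 = Fintype.card X + b ∧
      ∀ z, T z = z → ∃ (a : k) (w : M), z = a • v x₀ + normMap T b w := by
  classical
  have hline' : ∀ (i : ℕ) x, ∃ c : k, (T ^ i) (v x) = c • v (τ^[i] x) := by
    intro i
    induction i with
    | zero => exact fun x => ⟨1, by rw [one_smul]; rfl⟩
    | succ i ih =>
      intro x
      obtain ⟨c, hc⟩ := ih x
      obtain ⟨e, he⟩ := hline (τ^[i] x)
      exact ⟨c * e, by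
        rw [pow_succ', Module.End.mul_apply, hc, map_smul, he, smul_smul,
          Function.iterate_succ_apply']⟩
  have huniq : ∀ {x y : X} {c : k}, v x = c • v y → x = y := by
    intro x y c h
    by_contra hne
    refine hv.notMem_span_image (s := {y}) (x := x) hne ?_
    rw [Set.image_singleton, h]
    exact Submodule.smul_mem _ _ (Submodule.mem_span_singleton_self _)
  have hper : ∀ x, τ^[b] x = x := fun x => by
    obtain ⟨c, hc⟩ := hline' b x
    rw [hT, Module.End.one_apply] at hc
    exact (huniq hc).symm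
  have hinj : Function.Injective τ := fun x y h => by
    obtain ⟨n, rfl⟩ := Nat.exists_eq_succ_of_ne_zero hb
    rw [← hper x, ← hper y, Function.iterate_succ_apply, h, ← Function.iterate_succ_apply]
  have hτ0 : τ x₀ = x₀ := by
    obtain ⟨c, hc⟩ := hline x₀
    rw [h₀] at hc
    exact (huniq hc).symm
  let τ' : {x // x ≠ x₀} → {x // x ≠ x₀} :=
    fun x => ⟨τ x.1, fun h => x.2 (hinj (h.trans hτ0.symm))⟩
  have hτ' : ∀ (i : ℕ) (x : {x // x ≠ x₀}), ((τ'^[i] x : {x // x ≠ x₀}) : X) = τ^[i] x.1 := by
    intro i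
    induction i with
    | zero => exact fun x => rfl
    | succ i ih =>
      intro x
      rw [Function.iterate_succ_apply', Function.iterate_succ_apply', ← ih]
  obtain ⟨S, hS⟩ := exists_reps τ' hb (fun x => Subtype.ext ((hτ' b x).trans (hper x.1)))
    (fun x i h1 h2 h => hfree x.1 x.2 i h1 h2 ((hτ' i x).symm.trans (congrArg Subtype.val h)))
  let φ : S × Fin b → X := fun s => (τ'^[(s.2 : ℕ)] s.1.1).1
  let e : Option (S × Fin b) → X := fun o => o.elim x₀ φ
  have he : Function.Bijective e := by
    refine ⟨?_, fun x => ?_⟩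
    · rintro (_ | s) (_ | t) h
      · rfl
      · exact absurd h.symm (τ'^[(t.2 : ℕ)] t.1.1).2
      · exact absurd h (τ'^[(s.2 : ℕ)] s.1.1).2
      · exact congrArg some (hS.1 (Subtype.ext h))
    · by_cases hx : x = x₀
      · exact ⟨none, hx.symm⟩
      · obtain ⟨s, hs⟩ := hS.2 ⟨x, hx⟩
        exact ⟨some s, congrArg Subtype.val hs⟩
  choose c hc using hline'
  have hc0 : ∀ i x, c i x ≠ 0 := fun i x h => by
    have hinv : ∀ j : ℕ, Function.Injective ⇑(T ^ j) := fun j => by
      have h1 : (T ^ b) ^ j = 1 := by rw [hT, one_pow]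
      rw [← pow_mul] at h1
      intro y z hyz
      have : j ≤ b * j := Nat.le_mul_of_pos_left j (Nat.pos_of_ne_zero hb)
      have key : ∀ w, (T ^ (b * j - j)) ((T ^ j) w) = w := fun w => by
        rw [← Module.End.mul_apply, ← pow_add, Nat.sub_add_cancel this, h1, Module.End.one_apply]
      rw [← key y, hyz, key]
    exact hv.ne_zero x (hinv i (by rw [hc, h, zero_smul, map_zero]))
  let C : Option (S × Fin b) → kˣ := fun o =>
    o.elim 1 fun s => Units.mk0 (c s.2 s.1.1.1) (hc0 _ _)
  let W : Option (S × Fin b) → M := fun o => o.elim (v x₀) fun s => (T ^ (s.2 : ℕ)) (v s.1.1.1)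
  have hWC : W = C • (v ∘ e) := by
    funext o
    rcases o with _ | s
    · show v x₀ = (1 : kˣ) • v x₀
      rw [one_smul]
    · show (T ^ (s.2 : ℕ)) (v s.1.1.1) = Units.mk0 (c s.2 s.1.1.1) (hc0 _ _) • v (φ s)
      rw [hc, Units.smul_mk0]
      congr 2
      exact (hτ' _ _).symm
  have hWi : LinearIndependent k W := by
    rw [hWC]; exact (hv.comp e he.1).units_smul C
  have hWspan : ⊤ ≤ Submodule.span k (Set.range W) := hspan.trans (Submodule.span_le.2 (by
    rintro _ ⟨x, rfl⟩
    obtain ⟨o, rfl⟩ := he.2 x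
    have : v (e o) = (C o)⁻¹ • W o := by
      rw [hWC, Pi.smul_apply', Function.comp_apply, inv_smul_smul]
    rw [SetLike.mem_coe, this]
    exact Submodule.smul_mem _ _ (Submodule.subset_span ⟨o, rfl⟩)))
  have hnorm : ∀ s : S, normMap T b (v s.1.1) = ∑ i : Fin b, W (some (s, i)) := fun s => by
    rw [normMap, LinearMap.sum_apply]
    exact (Fin.sum_univ_eq_sum_range (fun i => (T ^ i) (v s.1.1)) b).symm
  let U : Option S → M := fun o => o.elim (v x₀) fun s => normMap T b (v s.1.1)
  -- fixed vectors
  have hfix : ∀ z, T z = z →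
      ∃ (a : k) (g : S → k), z = a • v x₀ + ∑ s : S, g s • normMap T b (v s.1.1) := by
    intro z hz
    obtain ⟨f, hf⟩ := (Submodule.mem_span_range_iff_exists_fun k).1 (hWspan Submodule.mem_top (x := z))
    have hz' : ∀ i, (T ^ i) z = z := by
      intro i
      induction i with
      | zero => rfl
      | succ i ih => rw [pow_succ', Module.End.mul_apply, ih, hz]
    refine ⟨f none, fun s => f (some (s, ⟨0, Nat.pos_of_ne_zero hb⟩)), ?_⟩
    -- the coefficients are constant on the orbits
    have hconst : ∀ (s : S) (i : Fin b),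
        f (some (s, i)) = f (some (s, ⟨0, Nat.pos_of_ne_zero hb⟩)) := by
      intro s i
      let sh : Fin b ≃ Fin b :=
        { toFun := fun j => ⟨((j : ℕ) + i) % b, Nat.mod_lt _ (Nat.pos_of_ne_zero hb)⟩
          invFun := fun j => ⟨((j : ℕ) + (b - i)) % b, Nat.mod_lt _ (Nat.pos_of_ne_zero hb)⟩
          left_inv := fun j => Fin.ext (by
            show (((j : ℕ) + i) % b + (b - i)) % b = j
            rw [Nat.mod_add_mod, show (j : ℕ) + i + (b - i) = j + b by omega, Nat.add_mod_right,
              Nat.mod_eq_of_lt j.2])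
          right_inv := fun j => Fin.ext (by
            show (((j : ℕ) + (b - i)) % b + i) % b = j
            rw [Nat.mod_add_mod, show (j : ℕ) + (b - i) + i = j + b by omega, Nat.add_mod_right,
              Nat.mod_eq_of_lt j.2]) }
      let π : Option (S × Fin b) ≃ Option (S × Fin b) :=
        ((Equiv.refl S).prodCongr sh).optionCongr
      have hTW : ∀ o, (T ^ (i : ℕ)) (W o) = W (π o) := by
        rintro (_ | ⟨t, j⟩)
        · show (T ^ (i : ℕ)) (v x₀) = v x₀
          clear! f z
          induction (i : ℕ) with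
          | zero => rfl
          | succ l ih => rw [pow_succ', Module.End.mul_apply, ih, h₀]
        · show (T ^ (i : ℕ)) ((T ^ (j : ℕ)) (v t.1.1)) = (T ^ (((j : ℕ) + i) % b)) (v t.1.1)
          rw [← Module.End.mul_apply, ← pow_add, add_comm (i : ℕ), pow_eq_pow_mod _ hT]
      have h1 : ∑ o, f (π.symm o) • W o = ∑ o, f o • W o := by
        rw [← Equiv.sum_comp π fun o => f (π.symm o) • W o]
        simp only [Equiv.symm_apply_apply, ← hTW, ← map_smul, ← map_sum, hf, hz']
      have h2 := Fintype.linearIndependent_iff.1 hWi (fun o => f (π.symm o) - f o) (by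
        simp only [sub_smul, sum_sub_distrib, h1, sub_self]) (some (s, i))
      rw [sub_eq_zero] at h2
      rw [← h2]
      show f (some (s, sh.symm i)) = _
      congr 3
      exact Fin.ext (by
        show ((i : ℕ) + (b - i)) % b = 0
        rw [show (i : ℕ) + (b - i) = b by omega, Nat.mod_self])
    conv_lhs => rw [← hf, Fintype.sum_option, Fintype.sum_prod_type]
    congr 1
    refine sum_congr rfl fun s _ => ?_
    rw [hnorm, smul_sum]
    exact sum_congr rfl fun i _ => by rw [hconst]
  have hker : LinearMap.ker (T - 1) = Submodule.span k (Set.range U) := by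
    refine le_antisymm (fun z hz => ?_) (Submodule.span_le.2 ?_)
    · rw [LinearMap.mem_ker, LinearMap.sub_apply, Module.End.one_apply, sub_eq_zero] at hz
      obtain ⟨a, g, rfl⟩ := hfix z hz
      refine Submodule.add_mem _ (Submodule.smul_mem _ _ (Submodule.subset_span ⟨none, rfl⟩))
        (Submodule.sum_mem _ fun s _ => Submodule.smul_mem _ _ (Submodule.subset_span ⟨some s, rfl⟩))
    · rintro _ ⟨o, rfl⟩
      rw [SetLike.mem_coe, LinearMap.mem_ker, LinearMap.sub_apply, Module.End.one_apply, sub_eq_zero]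
      rcases o with _ | s
      · exact h₀
      · show T (normMap T b _) = normMap T b _
        rw [← Module.End.mul_apply, mul_normMap T hT]
  have hUi : LinearIndependent k U := by
    refine Fintype.linearIndependent_iff.2 fun g hg => ?_
    let G : Option (S × Fin b) → k := fun o => o.elim (g none) fun s => g (some s.1)
    have h1 : ∑ o, G o • W o = 0 := by
      rw [← hg, Fintype.sum_option, Fintype.sum_option, Fintype.sum_prod_type]
      congr 1
      refine sum_congr rfl fun s _ => ?_
      show ∑ i : Fin b, g (some s) • W (some (s, i)) = g (some s) • normMap T b (v s.1.1)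
      rw [hnorm, smul_sum]
    have h2 := Fintype.linearIndependent_iff.1 hWi G h1
    rintro (_ | s)
    · exact h2 none
    · exact h2 (some (s, ⟨0, Nat.pos_of_ne_zero hb⟩))
  refine ⟨?_, fun z hz => ?_⟩
  · rw [hker, finrank_span_eq_card hUi, ← Fintype.card_of_bijective he, Fintype.card_option,
      Fintype.card_option, Fintype.card_prod, Fintype.card_fin]
    ring
  · obtain ⟨a, g, rfl⟩ := hfix z hz
    exact ⟨a, ∑ s : S, g s • v s.1.1, by simp only [map_sum, map_smul]⟩

end Cfsg.Agent.TurullHeight
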