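import Cfsg.Agent.Lib.FittingHeight.TwistedAlgebra
import Cfsg.Agent.Lib.TurullHeight.Lines
import Cfsg.Agent.Lib.TurullHeight.Blocks
import Mathlib.LinearAlgebra.Trace
import Mathlib.LinearAlgebra.Basis.Prod
import Mathlib.Algebra.Central.End

/-!
# The matrix algebra of a group that is abelian up to scalars

A `Frame` of `π : Q →* End W` identifies the span of `π` with `End (k ^ m)`, `m * m` the index of the
scalar subgroup. An operator on `W` inducing an automorphism of `Q` induces one of `End (k ^ m)`,
which is conjugation by an operator of the same period.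
-/

set_option autoImplicit false

namespace Cfsg.Agent.TurullHeight

open Finset Module
open FittingHeight (scalarSub transOp)

variable {k W : Type*} [Field k] [AddCommGroup W] [Module k W]

/-- Conjugation by an invertible operator. -/
def conjEnd (A : (Module.End k W)ˣ) : Module.End k W ≃ₐ[k] Module.End k W :=
  AlgEquiv.ofAlgHom
    (AlgHom.ofLinearMap
      { toFun := fun z => (A : Module.End k W) * z * (A⁻¹ : (Module.End k W)ˣ)
        map_add' := fun x y => by rw [mul_add, add_mul]
        map_smul' := fun c x => by rw [mul_smul_comm, smul_mul_assoc]; rfl }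
      (by show (A : Module.End k W) * 1 * _ = 1; rw [mul_one, Units.mul_inv])
      (fun x y => by
        show (A : Module.End k W) * (x * y) * _ = _ * x * _ * (_ * y * _)
        simp only [mul_assoc, Units.inv_mul_cancel_left]))
    (AlgHom.ofLinearMap
      { toFun := fun z => (A⁻¹ : (Module.End k W)ˣ) * z * (A : Module.End k W)
        map_add' := fun x y => by rw [mul_add, add_mul]
        map_smul' := fun c x => by rw [mul_smul_comm, smul_mul_assoc]; rfl }
      (by show (A⁻¹ : (Module.End k W)ˣ) * (1 : Module.End k W) * _ = 1; rw [mul_one, Units.inv_mul])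
      (fun x y => by
        show _ * (x * y) * (A : Module.End k W) = _ * x * _ * (_ * y * _)
        simp only [mul_assoc, Units.mul_inv_cancel_left]))
    (by
      ext1 z
      show (A : Module.End k W) * (_ * z * (A : Module.End k W)) * _ = z
      simp only [mul_assoc, Units.mul_inv_cancel_left, Units.mul_inv, mul_one])
    (by
      ext1 z
      show _ * ((A : Module.End k W) * z * _) * (A : Module.End k W) = z
      simp only [mul_assoc, Units.inv_mul_cancel_left, Units.inv_mul, mul_one])

theorem conjEnd_apply (A : (Module.End k W)ˣ) (z : Module.End k W) :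
    conjEnd A z = (A : Module.End k W) * z * (A⁻¹ : (Module.End k W)ˣ) := rfl

/-- Orthogonal idempotents with an idempotent sum: the ranks add up. -/
theorem finrank_range_sum_part [FiniteDimensional k W] {κ : Type*} [Fintype κ]
    {g : κ → Module.End k W} (hg : OrthogonalIdempotents g) :
    ∑ l, finrank k (LinearMap.range (g l)) = finrank k (LinearMap.range (∑ l, g l)) := by
  classical
  set s := ∑ l, g l with hs
  have hgs : ∀ l, g l * s = g l := fun l => by
    rw [hs, mul_sum, sum_eq_single l (fun q _ hq => hg.ortho (Ne.symm hq))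
      (fun h => absurd (mem_univ _) h), (hg.idem l).eq]
  have hsg : ∀ l, s * g l = g l := fun l => by
    rw [hs, sum_mul, sum_eq_single l (fun q _ hq => hg.ortho hq)
      (fun h => absurd (mem_univ _) h), (hg.idem l).eq]
  have hss : s * s = s := by
    conv_lhs => rw [hs, sum_mul]
    exact sum_congr rfl fun l _ => hgs l
  let g' : Option κ → Module.End k W := fun o => o.elim (1 - s) g
  have hc : CompleteOrthogonalIdempotents g' := {
    idem := by
      rintro (_ | l)
      · exact IsIdempotentElem.one_sub hss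
      · exact hg.idem l
    ortho := by
      rintro (_ | l) (_ | q) h
      · exact absurd rfl h
      · show (1 - s) * g q = 0
        rw [sub_mul, one_mul, hsg, sub_self]
      · show g l * (1 - s) = 0
        rw [mul_sub, mul_one, hgs, sub_self]
      · exact hg.ortho fun e => h (congrArg some e)
    complete := by
      rw [Fintype.sum_option]
      exact sub_add_cancel 1 s }
  have h1 := finrank_range_sum hc
  let g2 : Option Unit → Module.End k W := fun o => o.elim (1 - s) fun _ => s
  have hc2 : CompleteOrthogonalIdempotents g2 := {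
    idem := by
      rintro (_ | _)
      · exact IsIdempotentElem.one_sub hss
      · exact hss
    ortho := by
      rintro (_ | l) (_ | q) h
      · exact absurd rfl h
      · show (1 - s) * s = 0
        rw [sub_mul, one_mul, hss, sub_self]
      · show s * (1 - s) = 0
        rw [mul_sub, mul_one, hss, sub_self]
      · exact absurd rfl h
    complete := by
      rw [Fintype.sum_option, Fintype.sum_unique]
      exact sub_add_cancel 1 s }
  have h2 := finrank_range_sum hc2
  rw [Fintype.sum_option] at h1 h2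
  rw [Fintype.sum_unique] at h2
  show ∑ l, finrank k (LinearMap.range (g l)) = _
  have h1' : finrank k (LinearMap.range (1 - s)) + ∑ l, finrank k (LinearMap.range (g l)) =
      finrank k W := h1
  have h2' : finrank k (LinearMap.range (1 - s)) + finrank k (LinearMap.range s) = finrank k W := h2
  omega

theorem finrank_range_mul_mul_le [FiniteDimensional k W] (A B C : Module.End k W) :
    finrank k (LinearMap.range (A * B * C)) ≤ finrank k (LinearMap.range B) := by
  refine le_trans (Submodule.finrank_mono ?_) (Submodule.finrank_map_le A (LinearMap.range B))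
  rintro _ ⟨x, rfl⟩
  exact ⟨B (C x), ⟨C x, rfl⟩, rfl⟩

variable {Q : Type*} [Group Q]

/-- The span of `π` as a matrix algebra. -/
structure Frame (π : Q →* Module.End k W) where
  /-- the degree -/
  m : ℕ
  /-- the embedding of the matrix algebra -/
  ι : Module.End k (Fin m → k) →ₐ[k] Module.End k W
  ι_inj : Function.Injective ι
  /-- the operators -/
  u : Q →* Module.End k (Fin m → k)
  ι_u : ∀ x, ι (u x) = π x
  span_u : Submodule.span k (Set.range u) = ⊤
  index_eq : (scalarSub π).index = m * m

variable {π : Q →* Module.End k W}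

/-- Existence of a frame. -/
theorem exists_frame [Nontrivial W] [IsAlgClosed k] [FiniteDimensional k W] [Finite Q]
    (hβ : ∀ x y, ∃ c : k, π x * π y = c • (π y * π x))
    (hcent : ∀ x, (∀ y, π x * π y = π y * π x) → x ∈ scalarSub π) : Nonempty (Frame π) := by
  obtain ⟨m, hm, ⟨e⟩⟩ := FittingHeight.exists_matrix hβ hcent
  let ι := (FittingHeight.spanAlg π).val.comp e.symm.toAlgHom
  let u : Q →* Module.End k (Fin m → k) :=
    e.toMonoidHom.comp
      { toFun := fun x => ⟨π x, FittingHeight.apply_mem_spanAlg x⟩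
        map_one' := Subtype.ext (map_one π)
        map_mul' := fun x y => Subtype.ext (map_mul π x y) }
  have hu : ∀ x, ι (u x) = π x := fun x => by
    show ((e.symm (e ⟨π x, _⟩) : FittingHeight.spanAlg π) : Module.End k W) = π x
    rw [AlgEquiv.symm_apply_apply]
  have hinj : Function.Injective ι := fun a b h => e.symm.injective (Subtype.ext h)
  refine ⟨⟨m, ι, hinj, u, hu, ?_, hm.symm⟩⟩
  have h1 : (Submodule.span k (Set.range u)).map ι.toLinearMap =
      Submodule.span k (Set.range π) := by
    rw [Submodule.map_span, ← Set.range_comp]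
    congr 1
    ext z
    simp only [Set.mem_range, Function.comp_apply, AlgHom.toLinearMap_apply, hu]
  refine eq_top_iff.2 fun z _ => ?_
  have h2 : ι z ∈ Submodule.span k (Set.range π) := (e.symm z).2
  rw [← h1] at h2
  obtain ⟨z', hz', e'⟩ := h2
  exact hinj e' ▸ hz'

namespace Frame

variable (F : Frame π)

theorem m_pos [Finite Q] : 0 < F.m := by
  rcases Nat.eq_zero_or_pos F.m with h | h
  · exact absurd (by rw [F.index_eq, h]) (Subgroup.index_ne_zero_of_finite (H := scalarSub π))
  · exact h

theorem exists_scalar {x : Q} (hx : x ∈ scalarSub π) : ∃ c : k, F.u x = c • 1 := by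
  obtain ⟨c, hc⟩ := hx
  exact ⟨c, F.ι_inj (by rw [F.ι_u, map_smul, map_one, hc])⟩

theorem mem_scalarSub {x : Q} {c : k} (h : F.u x = c • 1) : x ∈ scalarSub π :=
  ⟨c, by rw [← F.ι_u, h, map_smul, map_one]⟩

theorem exists_smul_of_mk {x y : Q} (h : (x : Q ⧸ scalarSub π) = y) :
    ∃ c : k, F.u x = c • F.u y := by
  obtain ⟨c, hc⟩ := F.exists_scalar (inv_mem (QuotientGroup.eq.1 h))
  refine ⟨c, ?_⟩
  rw [show x = y * (x⁻¹ * y)⁻¹ by group, map_mul, hc, mul_smul_comm, mul_one]

theorem linearIndependent_u [Nontrivial W] [Finite Q]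
    (hβ : ∀ x y, ∃ c : k, π x * π y = c • (π y * π x))
    (hcent : ∀ x, (∀ y, π x * π y = π y * π x) → x ∈ scalarSub π) :
    LinearIndependent k fun q : Q ⧸ scalarSub π => F.u q.out := by
  have : Fintype (Q ⧸ scalarSub π) := Fintype.ofFinite _
  have h : transOp π = F.ι.toLinearMap ∘ fun q : Q ⧸ scalarSub π => F.u q.out :=
    funext fun q => (F.ι_u _).symm
  exact (h ▸ FittingHeight.linearIndependent_transOp hβ hcent).of_comp F.ι.toLinearMap

theorem span_out : ⊤ ≤ Submodule.span k (Set.range fun q : Q ⧸ scalarSub π => F.u q.out) := by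
  rw [← F.span_u, Submodule.span_le]
  rintro _ ⟨x, rfl⟩
  obtain ⟨c, hc⟩ := F.exists_smul_of_mk (x := x) (y := (x : Q ⧸ scalarSub π).out)
    (QuotientGroup.out_eq' _).symm
  rw [SetLike.mem_coe, hc]
  exact Submodule.smul_mem _ _ (Submodule.subset_span ⟨_, rfl⟩)

/-- Linear maps agreeing on the operators are equal. -/
theorem ext_u {M : Type*} [AddCommGroup M] [Module k M]
    {f g : Module.End k (Fin F.m → k) →ₗ[k] M} (h : ∀ x, f (F.u x) = g (F.u x)) : f = g :=
  LinearMap.ext_on F.span_u (by rintro _ ⟨x, rfl⟩; exact h x)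

/-- An operator commuting with the algebra is faithful on it. -/
theorem faithful {f : Module.End k W} (hf : ∀ z, Commute (F.ι z) f) (hf0 : f ≠ 0)
    {z : Module.End k (Fin F.m → k)} (h : F.ι z * f = 0) : z = 0 := by
  by_contra hz
  obtain ⟨v, hv⟩ : ∃ v, z v ≠ 0 := by
    by_contra hc
    push Not at hc
    exact hz (LinearMap.ext hc)
  obtain ⟨l, hl⟩ : ∃ l, (z v) l ≠ 0 := by
    by_contra hc
    push Not at hc
    exact hv (funext hc)
  apply hf0
  have hone : (1 : Module.End k (Fin F.m → k)) =
      ∑ i : Fin F.m, (LinearMap.proj i).smulRight (Pi.single i 1) := by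
    refine LinearMap.ext fun x => ?_
    simp only [Module.End.one_apply, LinearMap.sum_apply, LinearMap.smulRight_apply,
      LinearMap.proj_apply]
    exact pi_eq_sum_univ' x
  have key : ∀ (ψ : (Fin F.m → k) →ₗ[k] k) (x : Fin F.m → k), F.ι (ψ.smulRight x) * f = 0 := by
    intro ψ x
    have e : ψ.smulRight x = ((z v l)⁻¹ • (LinearMap.proj l).smulRight x) * z * ψ.smulRight v := by
      refine LinearMap.ext fun y => ?_
      simp only [Module.End.mul_apply, LinearMap.smul_apply, LinearMap.smulRight_apply,
        LinearMap.proj_apply, map_smul, Pi.smul_apply, smul_eq_mul, smul_smul]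
      congr 1
      field_simp
    rw [e, map_mul, map_mul, mul_assoc, (hf _).eq, ← mul_assoc, mul_assoc (F.ι _) (F.ι z), h,
      mul_zero, zero_mul]
  rw [← one_mul f, ← map_one F.ι, hone, map_sum, sum_mul]
  exact sum_eq_zero fun i _ => key _ _

/-- The ranks of the image of an idempotent. -/
theorem rank [FiniteDimensional k W] [Finite Q] {e : Module.End k (Fin F.m → k)}
    (he : IsIdempotentElem e) {f : Module.End k W} (hf : IsIdempotentElem f)
    (hcomm : ∀ z, Commute (F.ι z) f) :
    finrank k (LinearMap.range (F.ι e * f)) * F.m =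
      finrank k (LinearMap.range e) * finrank k (LinearMap.range f) := by
  classical
  have hc : IsCompl (LinearMap.range e) (LinearMap.ker e) := LinearMap.IsIdempotentElem.isCompl he
  let b₁ := finBasis k (LinearMap.range e)
  let b₂ := finBasis k (LinearMap.ker e)
  let b := (b₁.prod b₂).map (Submodule.prodEquivOfIsCompl _ _ hc)
  have hcard : Fintype.card (Fin (finrank k (LinearMap.range e)) ⊕ Fin (finrank k (LinearMap.ker e)))
      = F.m := by
    rw [← finrank_eq_card_basis b, finrank_pi, Fintype.card_fin]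
  let E : (Fin (finrank k (LinearMap.range e)) ⊕ Fin (finrank k (LinearMap.ker e))) →
      (Fin (finrank k (LinearMap.range e)) ⊕ Fin (finrank k (LinearMap.ker e))) →
      Module.End k (Fin F.m → k) := fun l q => (b.coord q).smulRight (b l)
  have hE : ∀ l q q' s, E l q * E q' s = if q = q' then E l s else 0 := by
    intro l q q' s
    refine LinearMap.ext fun x => ?_
    simp only [E, Module.End.mul_apply, LinearMap.smulRight_apply, map_smul, Basis.coord_apply,
      Basis.repr_self, smul_eq_mul]
    by_cases h : q = q'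
    · subst h
      rw [Finsupp.single_eq_same, one_smul, if_pos rfl]
      rfl
    · rw [Finsupp.single_eq_of_ne h, zero_smul, smul_zero, if_neg h]
      rfl
  have hsum : ∑ l, E l l = 1 := LinearMap.ext fun x => by
    simp only [E, LinearMap.sum_apply, LinearMap.smulRight_apply, Basis.coord_apply,
      Module.End.one_apply]
    exact b.sum_repr x
  have he' : e = ∑ i, E (Sum.inl i) (Sum.inl i) := by
    refine b.ext fun l => ?_
    simp only [E, LinearMap.sum_apply, LinearMap.smulRight_apply, Basis.coord_apply, Basis.repr_self]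
    rcases l with i | i
    · rw [sum_eq_single i (fun q _ hq => by
        rw [Finsupp.single_eq_of_ne (fun h => hq (Sum.inl_injective h)), zero_smul])
        (fun h => absurd (mem_univ _) h), Finsupp.single_eq_same, one_smul]
      obtain ⟨y, hy⟩ := (b₁ i).2
      have : b (Sum.inl i) = (b₁ i : Fin F.m → k) := by
        simp [b]
      rw [this, ← hy, ← Module.End.mul_apply, he.eq]
    · rw [sum_eq_zero fun q _ => by rw [Finsupp.single_eq_of_ne (by simp), zero_smul]]
      have : b (Sum.inr i) = (b₂ i : Fin F.m → k) := by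
        simp [b]
      rw [this]
      exact LinearMap.mem_ker.1 (b₂ i).2
  let g : (Fin (finrank k (LinearMap.range e)) ⊕ Fin (finrank k (LinearMap.ker e))) →
      Module.End k W := fun l => F.ι (E l l) * f
  have hg : ∀ l q q' s, F.ι (E l q) * f * (F.ι (E q' s) * f) = F.ι (E l q * E q' s) * f := by
    intro l q q' s
    rw [(hcomm (E q' s)).symm.mul_mul_mul_comm, hf.eq, map_mul]
  have hgo : OrthogonalIdempotents g :=
    { idem := fun l => by
        show g l * g l = g l
        rw [hg, hE, if_pos rfl]
      ortho := fun l q h => by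
        show g l * g q = 0
        rw [hg, hE, if_neg h, map_zero, zero_mul] }
  have hL : ∀ l q, finrank k (LinearMap.range (g l)) ≤ finrank k (LinearMap.range (g q)) := by
    intro l q
    have : g l = F.ι (E l q) * g q * F.ι (E q l) := by
      show _ = F.ι (E l q) * (F.ι (E q q) * f) * F.ι (E q l)
      rw [mul_assoc, mul_assoc, ← (hcomm (E q l)).eq, ← mul_assoc, ← mul_assoc, ← map_mul, ← map_mul,
        hE, if_pos rfl, hE, if_pos rfl]
    rw [this]
    exact finrank_range_mul_mul_le _ _ _
  have hfull : ∑ l, finrank k (LinearMap.range (g l)) = finrank k (LinearMap.range f) := by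
    rw [finrank_range_sum_part hgo, ← sum_mul, ← map_sum, hsum, map_one, one_mul]
  have hpart : ∑ i, finrank k (LinearMap.range (g (Sum.inl i))) =
      finrank k (LinearMap.range (F.ι e * f)) := by
    rw [show F.ι e = ∑ i, F.ι (E (Sum.inl i) (Sum.inl i)) by conv_lhs => rw [he', map_sum],
      sum_mul]
    exact finrank_range_sum_part (hgo.embedding Function.Embedding.inl)
  obtain ⟨l₀⟩ : Nonempty (Fin (finrank k (LinearMap.range e)) ⊕ Fin (finrank k (LinearMap.ker e))) :=
    Fintype.card_pos_iff.1 (by rw [hcard]; exact F.m_pos)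
  have hconst : ∀ l, finrank k (LinearMap.range (g l)) = finrank k (LinearMap.range (g l₀)) :=
    fun l => le_antisymm (hL _ _) (hL _ _)
  rw [← hpart, ← hfull]
  simp only [hconst, sum_const, card_univ, Fintype.card_fin, smul_eq_mul]
  rw [hcard]
  ring

/-- An operator inducing `α` induces an automorphism of the matrix algebra. -/
theorem exists_conj (A : (Module.End k W)ˣ) (α : MulAut Q)
    (hA : ∀ x, (A : Module.End k W) * π x = π (α x) * A) :
    ∃ ψ : Module.End k (Fin F.m → k) ≃ₐ[k] Module.End k (Fin F.m → k),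
      (∀ x, ψ (F.u x) = F.u (α x)) ∧ ∀ z, F.ι (ψ z) = conjEnd A (F.ι z) := by
  have hpi : ∀ x, conjEnd A (π x) = π (α x) := fun x => by
    rw [conjEnd_apply, hA, mul_assoc, Units.mul_inv, mul_one]
  have hpi' : ∀ x, (conjEnd A).symm (π x) = π (α.symm x) := fun x =>
    (AlgEquiv.symm_apply_eq _).2 (by rw [hpi]; exact congrArg π (α.apply_symm_apply x).symm)
  have hrange : ∀ (c : Module.End k W ≃ₐ[k] Module.End k W) (β : Q → Q),
      (∀ x, c (π x) = π (β x)) → ∀ z, c (F.ι z) ∈ F.ι.range := by
    intro c β hc z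
    have : z ∈ Submodule.span k (Set.range F.u) := by rw [F.span_u]; exact Submodule.mem_top
    induction this using Submodule.span_induction with
    | mem y hy =>
      obtain ⟨x, rfl⟩ := hy
      rw [F.ι_u, hc, ← F.ι_u]
      exact ⟨_, rfl⟩
    | zero => rw [map_zero, map_zero]; exact zero_mem _
    | add y y' _ _ h h' => rw [map_add, map_add]; exact add_mem h h'
    | smul c' y _ h => rw [map_smul, map_smul]; exact Subalgebra.smul_mem _ h _
  let e := AlgEquiv.ofInjective F.ι F.ι_inj
  let lft (c : Module.End k W ≃ₐ[k] Module.End k W) (β : Q → Q) (hc : ∀ x, c (π x) = π (β x)) :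
      Module.End k (Fin F.m → k) →ₐ[k] Module.End k (Fin F.m → k) :=
    e.symm.toAlgHom.comp ((c.toAlgHom.comp F.ι).codRestrict F.ι.range (hrange c β hc))
  have hto : ∀ c β hc z, F.ι (lft c β hc z) = c (F.ι z) := fun c β hc z =>
    congrArg Subtype.val (e.apply_symm_apply ⟨c (F.ι z), hrange c β hc z⟩)
  refine ⟨AlgEquiv.ofAlgHom (lft (conjEnd A) α hpi) (lft (conjEnd A).symm α.symm hpi') ?_ ?_,
    fun x => F.ι_inj ?_, fun z => hto _ _ hpi z⟩
  · ext1 z
    apply F.ι_inj
    rw [AlgHom.comp_apply, hto _ _ hpi, hto _ _ hpi', AlgEquiv.apply_symm_apply]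
    rfl
  · ext1 z
    apply F.ι_inj
    rw [AlgHom.comp_apply, hto _ _ hpi', hto _ _ hpi, AlgEquiv.symm_apply_apply]
    rfl
  · show F.ι (lft _ _ hpi (F.u x)) = _
    rw [hto _ _ hpi, F.ι_u, F.ι_u, hpi]

/-- An automorphism of period `b` is conjugation by an operator of period `b`. -/
theorem exists_implement [IsAlgClosed k] [Finite Q]
    (ψ : Module.End k (Fin F.m → k) ≃ₐ[k] Module.End k (Fin F.m → k)) {b : ℕ} (hb : b ≠ 0)
    (hψ : ∀ z, (ψ.toLinearMap ^ b) z = z) :
    ∃ γ : Module.End k (Fin F.m → k), γ ^ b = 1 ∧ ∀ z, γ * z = ψ z * γ := by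
  obtain ⟨T, hT⟩ := AlgEquiv.eq_linearEquivConjAlgEquiv ψ
  let γ₀ : Module.End k (Fin F.m → k) := T.toLinearMap
  have h1 : ∀ z, γ₀ * z = ψ z * γ₀ := fun z => LinearMap.ext fun x => by
    rw [hT]
    simp [γ₀, LinearEquiv.conjAlgEquiv_apply]
  have h2 : ∀ i z, γ₀ ^ i * z = (ψ.toLinearMap ^ i) z * γ₀ ^ i := by
    intro i
    induction i with
    | zero => intro z; simp
    | succ i ih =>
      intro z
      rw [pow_succ γ₀, mul_assoc, h1, ← mul_assoc, ih, pow_succ, Module.End.mul_apply, mul_assoc]
      rfl
  have h3 : γ₀ ^ b ∈ Subalgebra.center k (Module.End k (Fin F.m → k)) := by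
    rw [Subalgebra.mem_center_iff]
    intro z
    rw [h2 b z, hψ]
  rw [Algebra.IsCentral.center_eq_bot, Algebra.mem_bot] at h3
  obtain ⟨c, hc⟩ := h3
  have hne : Nontrivial (Fin F.m → k) := by
    have : Nonempty (Fin F.m) := ⟨⟨0, F.m_pos⟩⟩
    infer_instance
  have hu : IsUnit γ₀ := (Module.End.isUnit_iff _).2 T.bijective
  have hc0 : c ≠ 0 := by
    intro h
    rw [h, map_zero] at hc
    exact (hu.pow b).ne_zero hc.symm
  obtain ⟨w, hw⟩ := IsAlgClosed.exists_pow_nat_eq c⁻¹ (Nat.pos_of_ne_zero hb)
  refine ⟨w • γ₀, ?_, fun z => ?_⟩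
  · rw [smul_pow, hw, ← hc, Algebra.algebraMap_eq_smul_one, smul_smul, inv_mul_cancel₀ hc0, one_smul]
  · rw [smul_mul_assoc, h1, mul_smul_comm]

/-- The fixed space of an automorphism permuting the lines freely. -/
theorem fixed_free [Nontrivial W] [Finite Q]
    (hβ : ∀ x y, ∃ c : k, π x * π y = c • (π y * π x))
    (hcent : ∀ x, (∀ y, π x * π y = π y * π x) → x ∈ scalarSub π)
    (ψ : Module.End k (Fin F.m → k) ≃ₐ[k] Module.End k (Fin F.m → k)) (α : MulAut Q)
    (hψ : ∀ x, ψ (F.u x) = F.u (α x)) {b : ℕ} (hb : b ≠ 0) (hψb : ψ.toLinearMap ^ b = 1)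
    (hfree : ∀ x, x ∉ scalarSub π → ∀ i, 0 < i → i < b → x⁻¹ * (α ^ i) x ∉ scalarSub π) :
    b * finrank k (LinearMap.ker (ψ.toLinearMap - 1)) + 1 = F.m * F.m + b ∧
      ∀ z, ψ z = z → ∃ (a : k) (w : Module.End k (Fin F.m → k)),
        z = a • 1 + normMap ψ.toLinearMap b w := by
  classical
  let _ : Fintype (Q ⧸ scalarSub π) := Fintype.ofFinite _
  have hR : ∀ {x y : Q}, (x : Q ⧸ scalarSub π) = y →
      ((α x : Q) : Q ⧸ scalarSub π) = (α y : Q) := by
    intro x y h
    rw [QuotientGroup.eq] at h ⊢
    obtain ⟨c, hc⟩ := F.exists_scalar h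
    rw [show (α x)⁻¹ * α y = α (x⁻¹ * y) by rw [map_mul, map_inv]]
    exact F.mem_scalarSub (c := c) (by rw [← hψ, hc, map_smul, map_one])
  let τ : Q ⧸ scalarSub π → Q ⧸ scalarSub π := fun q => ((α q.out : Q) : Q ⧸ scalarSub π)
  have hτ : ∀ (i : ℕ) (x : Q), τ^[i] (x : Q ⧸ scalarSub π) = (((α ^ i) x : Q) : Q ⧸ scalarSub π) := by
    intro i
    induction i with
    | zero => exact fun x => rfl
    | succ i ih =>
      intro x
      rw [Function.iterate_succ_apply', ih, pow_succ', MulAut.mul_apply]
      exact hR (QuotientGroup.out_eq' _)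
  obtain ⟨c₀, hc₀⟩ := F.exists_scalar (x := ((1 : Q) : Q ⧸ scalarSub π).out)
    ((QuotientGroup.eq_one_iff _).1 (QuotientGroup.out_eq' _))
  obtain ⟨h1, h2⟩ := fixed_lines ψ.toLinearMap hb hψb (fun q : Q ⧸ scalarSub π => F.u q.out)
    (F.linearIndependent_u hβ hcent) F.span_out ((1 : Q) : Q ⧸ scalarSub π)
    (by show ψ _ = _; rw [hc₀, map_smul, map_one]) τ
    (fun q => by
      show ∃ c, ψ _ = _
      rw [hψ]
      exact F.exists_smul_of_mk (QuotientGroup.out_eq' (τ q)).symm)
    (fun q hq i hi hib h => by
      induction q using QuotientGroup.induction_on with | _ x => ?_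
      rw [hτ, eq_comm, QuotientGroup.eq] at h
      exact hfree x (fun hx => hq ((QuotientGroup.eq_one_iff x).2 hx)) i hi hib h)
  rw [← Nat.card_eq_fintype_card, ← Subgroup.index_eq_card, F.index_eq] at h1
  refine ⟨h1, fun z hz => ?_⟩
  obtain ⟨a, w, hzw⟩ := h2 z hz
  exact ⟨a * c₀, w, by rw [hzw, hc₀, smul_smul]⟩

/-- The fixed space of a conjugation is the commutant of the eigen-idempotents. -/
theorem ker_eq_commutant {ψ : Module.End k (Fin F.m → k) ≃ₐ[k] Module.End k (Fin F.m → k)}
    {γ : Module.End k (Fin F.m → k)} {b : ℕ} {ζ : k} (hb : b ≠ 0) (hbk : (b : k) ≠ 0)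
    (hζ : IsPrimitiveRoot ζ b) (hγ : γ ^ b = 1) (h : ∀ z, γ * z = ψ z * γ) :
    LinearMap.ker (ψ.toLinearMap - 1) = commutant (eigenIdem b γ ζ) := by
  have hu : IsUnit γ := IsUnit.of_pow_eq_one hγ hb
  ext z
  rw [LinearMap.mem_ker, LinearMap.sub_apply, Module.End.one_apply, sub_eq_zero, mem_commutant]
  constructor
  · intro hz j
    refine commute_eigenIdem ?_ j
    have h' := h z
    rw [show ψ z = z from hz] at h'
    exact h'.symm
  · intro hz
    have hc : Commute z γ := by
      rw [eq_sum_eigenIdem hγ hζ hb hbk]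
      exact Commute.sum_right _ _ _ fun j _ => (hz j).smul_right _
    refine hu.mul_right_cancel ?_
    show ψ z * γ = z * γ
    rw [← h, hc.eq]

end Frame

end Cfsg.Agent.TurullHeight
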