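import Cfsg.Agent.Lib.TurullHeight.Section
import Cfsg.Agent.Lib.TurullHeight.EndRep

/-!
# The layers of a tower as groups of operators

`repOf j Lm` is the representation of `Lev j` on the next section through a ring homomorphism `Lm`.
`QuietEl i x`: `x` fixes the classes of `U_{i+1}` fixed by `a` without part fixed by `[P_i, a]`; such
elements are quiet in every representation.
-/

set_option autoImplicit false

namespace Cfsg.Agent.TurullHeight

open Subgroup
open scoped commutatorElement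

variable {S : Type*} [Group S]

section Defs

variable (P Φ : ℕ → Subgroup S)

/-- The representation of a layer. -/
noncomputable def repOf {k : Type*} [Field k] {E : Type*} [AddCommGroup E] [Module k E] (j : ℕ)
    (Lm : AddMonoid.End (USect P Φ (j + 1)) →+* Module.End k E) :
    ↥(Lev P Φ j) →* Module.End k E where
  toFun g := Lm (op P Φ (j + 1) (g : S))
  map_one' := by
    show Lm (op P Φ (j + 1) (1 : S)) = 1
    rw [op_one, map_one]
  map_mul' g h := by rw [← map_mul, ← op_mul g.2.2 h.2.2]; rfl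

/-- `x` fixes the fixed classes of the next section without part fixed by `[P_i, a]`. -/
def QuietEl [Finite S] (a : S) (i : ℕ) (x : S) : Prop :=
  ∀ u : USect P Φ (i + 1), op P Φ (i + 1) a u = u →
    opSum P Φ (i + 1) (difSub (P i) a) u = 0 → op P Φ (i + 1) x u = u

/-- The elements fixing a class. -/
noncomputable def stabU [Finite S] (i : ℕ) (u : USect P Φ i) : Subgroup S where
  carrier := {g | g ∈ Mid P Φ i ∧ op P Φ i g u = u}
  one_mem' := ⟨one_mem _, by rw [op_one]; rfl⟩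
  mul_mem' := fun {g h} ⟨hg, hgu⟩ ⟨hh, hhu⟩ => ⟨mul_mem hg hh, by
    rw [op_mul_apply hg hh, hhu, hgu]⟩
  inv_mem' := fun {g} ⟨hg, hgu⟩ => ⟨inv_mem hg, by
    conv_lhs => rw [← hgu, op_inv_apply hg]⟩

/-- An element as an element of `Lev j`. -/
abbrev toLev (j : ℕ) {x : S} (h : x ∈ Lev P Φ j) : ↥(Lev P Φ j) := ⟨x, h⟩

end Defs

variable {P Φ : ℕ → Subgroup S} {G : Subgroup S} {a : S} {T : ℕ} {R : ℕ → Subgroup S} {p : ℕ → ℕ}
  {r : ℕ} (tw : Tower G a T P Φ R p)

include tw

theorem Tower.central_op {i : ℕ} (hi : i < T) {x : S} (hx : x ∈ R i) :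
    op P Φ (i + 1) x = 1 := by
  have hxP := tw.Φ_le i hi.le (tw.R_le i hi.le hx)
  rw [tw.op_eq_one_iff (i := i + 1) hi (tw.mem_Mid (by omega) hi hxP)]
  intro y hy
  rw [← commutatorElement_inv]
  exact inv_mem (((tw.R_iff i hi x hxP).1 hx) y hy)

theorem Tower.op_eq_one_iff_mem {i : ℕ} (hi : i < T) {x : S} (hx : x ∈ P i) :
    op P Φ (i + 1) x = 1 ↔ x ∈ R i := by
  refine ⟨fun h => (tw.R_iff i hi x hx).2 fun y hy => ?_, tw.central_op hi⟩
  rw [← commutatorElement_inv]
  exact inv_mem ((tw.op_eq_one_iff (i := i + 1) hi (tw.mem_Mid (by omega) hi hx)).1 h y hy)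

theorem Tower.op_comm_of_Φ {i : ℕ} (hi : i < T) {z y : S} (hz : z ∈ Φ i) (hy : y ∈ P i) :
    op P Φ (i + 1) (z * y) = op P Φ (i + 1) (y * z) := by
  have hc := tw.central i hi.le z hz y hy
  have hzP := tw.Φ_le i hi.le hz
  rw [show z * y = ⁅z, y⁆ * (y * z) by simp only [commutatorElement_def]; group,
    op_mul (tw.mem_Mid (by omega) hi (commutator_mem hzP hy))
      (tw.mem_Mid (by omega) hi (mul_mem hy hzP)), tw.central_op hi hc, one_mul]

theorem Tower.difSub_le' {i : ℕ} (hi : i ≤ T) : difSub (P i) a ≤ P i :=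
  difSub_le fun x hx => (mem_normalizer_iff.1 (tw.inv i hi) x).1 hx

theorem Tower.exists_fixed_class (hA : Ambient G a r) [Finite S] {i : ℕ} (hi : i ≤ T) {u : USect P Φ i}
    (hu : op P Φ i a u = u) : ∃ c ∈ P i, Commute c a ∧ cl P Φ i c = u :=
  tw.exists_fixed_rep hA hi hu

theorem Tower.op_a_cl {i : ℕ} (hi : i ≤ T) {c : S} (hc : c ∈ P i) (hca : Commute c a) :
    op P Φ i a (cl P Φ i c) = cl P Φ i c := by
  rw [tw.op_cl hi (tw.a_mem_Mid hi) hc, ← hca.eq, mul_inv_cancel_right]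

section Rep

variable [Finite S] (hA : Ambient G a r) {k : Type*} [Field k] {E : Type*} [AddCommGroup E]
  [Module k E] {j : ℕ} (hj : j < T)
  {Lm : AddMonoid.End (USect P Φ (j + 1)) →+* Module.End k E} (hLm : Function.Injective Lm)
  (hk : ∀ n : ℕ, ¬ p (j + 1) ∣ n → (n : k) ≠ 0)

include hA hj hLm hk

omit hLm in
theorem Tower.natCast_r_ne : (r : k) ≠ 0 := hk r fun h =>
  tw.rp (hA := hA) (i := j + 1) hj ((Nat.prime_dvd_prime_iff_eq (tw.prime _ hj) hA.hr).1 h).symm

omit hLm in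
theorem Tower.natCast_card_ne {X : Subgroup S} (hX : X ≤ P j) : (Nat.card X : k) ≠ 0 := hk _ fun h => by
  have := Fact.mk (tw.prime j hj.le)
  obtain ⟨e, he⟩ := IsPGroup.iff_card.1 ((tw.pgroup j hj.le).to_le hX)
  rw [he] at h
  exact tw.pne j hj ((Nat.prime_dvd_prime_iff_eq (tw.prime _ hj) (tw.prime j hj.le)).1
    ((tw.prime _ hj).dvd_of_dvd_pow h)).symm

omit hk in
theorem Tower.rep_eq_one_iff {x : ↥(Lev P Φ j)} (hx : (x : S) ∈ P j) :
    repOf P Φ j Lm x = 1 ↔ (x : S) ∈ R j := by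
  rw [← tw.op_eq_one_iff_mem hj hx]
  exact ⟨fun h => hLm (h.trans (map_one Lm).symm), fun h => (congrArg Lm h).trans (map_one Lm)⟩

/-- The layer. -/
theorem Tower.layerData :
    LayerData (repOf P Φ j Lm) ((P j).subgroupOf (Lev P Φ j)) ((Φ j).subgroupOf (Lev P Φ j))
      (toLev P Φ j (tw.a_mem_Lev hj)) r (p j) := by
  have hcen : ∀ z ∈ (Φ j).subgroupOf (Lev P Φ j), ∀ y ∈ (P j).subgroupOf (Lev P Φ j),
      Commute (repOf P Φ j Lm z) (repOf P Φ j Lm y) := fun z hz y hy => by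
    rw [Commute, SemiconjBy, ← map_mul, ← map_mul]
    exact congrArg Lm (tw.op_comm_of_Φ hj hz hy)
  refine ⟨⟨inferInstance, fun x hx y hy z hz => hcen _ (tw.comm_mem j hj.le _ hx _ hy) z hz,
    fun x hx y hy => hcen _ (tw.pow_mem j hj.le _ hx) y hy, hA.hr, tw.natCast_r_ne hA hj hk,
    Subtype.ext hA.a_pow, tw.prime j hj.le, (tw.pgroup j hj.le).comap_subtype, ?_,
    tw.rp (hA := hA) hj.le⟩, fun x hx => tw.Φ_le j hj.le hx, ?_, ?_, hcen, ?_, ?_, ?_⟩
  · exact hk _ fun h => tw.pne j hj ((Nat.prime_dvd_prime_iff_eq (tw.prime _ hj) (tw.prime j hj.le)).1 h).symm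
  · exact fun x hx y hy => tw.comm_mem j hj.le _ hx _ hy
  · exact fun x hx => tw.pow_mem j hj.le _ hx
  · intro M hMn hΦM hMP
    have hle : ∀ X : Subgroup S, X ≤ P j → X ≤ Lev P Φ j := fun X hX x hx =>
      tw.mem_Lev le_rfl hj (hX hx)
    have hnor : ∀ g ∈ Lev P Φ j, g ∈ normalizer ((M.map (Lev P Φ j).subtype : Subgroup S) : Set S) :=
      fun g hg => mem_normalizer_fintype fun x ⟨y, hy, he⟩ => by
        subst he
        exact ⟨toLev P Φ j hg * y * (toLev P Φ j hg)⁻¹, hMn.conj_mem y hy _, rfl⟩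
    have hmap := tw.irr j hj.le (M.map (Lev P Φ j).subtype)
      (by rintro _ ⟨y, hy, rfl⟩; exact hMP hy)
      (fun x hx => ⟨toLev P Φ j (hle _ (tw.Φ_le j hj.le) hx), hΦM hx, rfl⟩)
      (hnor a (tw.a_mem_Lev hj)) (fun i hi g hg => hnor g (tw.mem_Lev hi.le hj hg))
    refine hmap.imp (fun h => ?_) fun h => ?_ <;>
    · ext x
      rw [mem_subgroupOf, ← h]
      exact ⟨fun hx => ⟨x, hx, rfl⟩, fun ⟨y, hy, he⟩ => (Subtype.ext he : y = x) ▸ hy⟩
  · intro H hHP hker hle x hx
    have := tw.gen j hj.le (H.map (Lev P Φ j).subtype) (by rintro _ ⟨y, hy, rfl⟩; exact hHP hy)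
      (fun z hz => ⟨toLev P Φ j (tw.mem_Lev le_rfl hj (tw.Φ_le j hj.le (tw.R_le j hj.le hz))),
        hker _ (tw.Φ_le j hj.le (tw.R_le j hj.le hz))
          ((tw.rep_eq_one_iff hA hj hLm (tw.Φ_le j hj.le (tw.R_le j hj.le hz))).2 hz), rfl⟩)
      (fun z hz => by
        have h := mem_map_of_mem (Lev P Φ j).subtype
          (hle (x := toLev P Φ j (tw.mem_Lev le_rfl hj hz)) hz)
        rw [Subgroup.map_sup] at h
        have hsub : ((Φ j).subgroupOf (Lev P Φ j)).map (Lev P Φ j).subtype ≤ Φ j := by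
          rintro _ ⟨y, hy, rfl⟩; exact hy
        exact sup_le_sup le_rfl hsub h) hx
    obtain ⟨y, hy, he⟩ := this
    exact (Subtype.ext he : y = x) ▸ hy
  · by_contra h
    push Not at h
    refine tw.Φ_ne j hj.le fun x hx => tw.R_le j hj.le ?_
    exact (tw.rep_eq_one_iff hA hj hLm (x := toLev P Φ j (tw.mem_Lev le_rfl hj hx)) hx).1
      (h _ hx)

omit hLm hk in
/-- A vanishing composite of operators vanishes in the representation. -/
theorem Tower.apply_eq_zero {A B : AddMonoid.End (USect P Φ (j + 1))}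
    (h : ∀ u, A (B u) = 0) (v : E) : Lm A (Lm B v) = 0 := by
  have e : A * B = 0 := AddMonoidHom.ext h
  rw [← Module.End.mul_apply, ← map_mul, e, map_zero, LinearMap.zero_apply]

omit hLm hk in
theorem Tower.lm_opOrb {v : E} (hv : repOf P Φ j Lm (toLev P Φ j (tw.a_mem_Lev hj)) v = v) :
    Lm (opOrb P Φ (j + 1) a r) v = r • v := by
  have hm := tw.a_mem_Mid (i := j + 1) hj
  have key : ∀ t : ℕ, Lm (op P Φ (j + 1) (a ^ t)) v = v := by
    intro t
    induction t with
    | zero => rw [pow_zero, op_one, map_one, Module.End.one_apply]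
    | succ t ih =>
      rw [pow_succ', op_mul hm (_root_.pow_mem hm t), map_mul, Module.End.mul_apply, ih]
      exact hv
  rw [opOrb, map_sum, LinearMap.sum_apply, Finset.sum_congr rfl (fun t _ => key t),
    Finset.sum_const, Finset.card_range]

omit hLm in
/-- An element fixing the fixed classes fixes the fixed vectors. -/
theorem Tower.rep_fixes {y : ↥(Lev P Φ j)}
    (hy : ∀ u, op P Φ (j + 1) a u = u → op P Φ (j + 1) (y : S) u = u) {v : E}
    (hv : repOf P Φ j Lm (toLev P Φ j (tw.a_mem_Lev hj)) v = v) : repOf P Φ j Lm y v = v := by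
  have h := tw.apply_eq_zero hA hj (Lm := Lm) (A := op P Φ (j + 1) (y : S) - 1)
    (B := opOrb P Φ (j + 1) a r) (fun u => by
      show op P Φ (j + 1) (y : S) _ - _ = 0
      rw [sub_eq_zero]
      exact hy _ (tw.op_opOrb hA hj u)) v
  rw [tw.lm_opOrb hA hj hv, map_sub, map_one, LinearMap.sub_apply, map_nsmul,
    Module.End.one_apply, ← smul_sub, ← Nat.cast_smul_eq_nsmul k, smul_eq_zero] at h
  exact sub_eq_zero.1 (h.resolve_left (tw.natCast_r_ne hA hj hk))

omit hLm in
/-- Without fixed classes there are no fixed vectors. -/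
theorem Tower.rep_no_fixed (h0 : ∀ u, op P Φ (j + 1) a u = u → u = 0) {v : E}
    (hv : repOf P Φ j Lm (toLev P Φ j (tw.a_mem_Lev hj)) v = v) : v = 0 := by
  have h := tw.apply_eq_zero hA hj (Lm := Lm) (A := 1) (B := opOrb P Φ (j + 1) a r)
    (fun u => h0 _ (tw.op_opOrb hA hj u)) v
  rw [tw.lm_opOrb hA hj hv, map_one, Module.End.one_apply, ← Nat.cast_smul_eq_nsmul k,
    smul_eq_zero] at h
  exact h.resolve_left (tw.natCast_r_ne hA hj hk)

/-- A fixed class gives a fixed vector. -/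
theorem Tower.exists_rep_fixed {u : USect P Φ (j + 1)} (hu : op P Φ (j + 1) a u = u) (hu0 : u ≠ 0) :
    ∃ v : E, repOf P Φ j Lm (toLev P Φ j (tw.a_mem_Lev hj)) v = v ∧ v ≠ 0 := by
  by_contra h
  push Not at h
  refine hu0 (tw.nsmul_eq_zero (i := j + 1) hj (m := r) (fun h' => tw.natCast_r_ne hA hj hk ?_) ?_)
  · exact absurd ((Nat.prime_dvd_prime_iff_eq (tw.prime _ hj) hA.hr).1 h').symm
      (tw.rp (hA := hA) hj)
  have e : opOrb P Φ (j + 1) a r = 0 := hLm (LinearMap.ext fun w => by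
    rw [map_zero, LinearMap.zero_apply]
    refine h _ ?_
    show Lm (op P Φ (j + 1) a) (Lm _ w) = _
    rw [← Module.End.mul_apply, ← map_mul]
    congr 1
    exact congrArg Lm (AddMonoidHom.ext fun u => tw.op_opOrb hA hj u))
  rw [← tw.opOrb_of_fixed hj hu, e]
  rfl

variable [IsAlgClosed k] [FiniteDimensional k E]

/-- The sum over `[P_j, a]` kills the moved weight spaces. -/
theorem Tower.lm_opSum_moved {v : E}
    (hv : v ∈ movedSpace (repOf P Φ j Lm) ((P j).subgroupOf (Lev P Φ j))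
      (toLev P Φ j (tw.a_mem_Lev hj))) :
    Lm (opSum P Φ (j + 1) (difSub (P j) a)) v = 0 := by
  have hl := tw.layerData hA hj hLm hk
  set ρ := repOf P Φ j Lm with hρ
  set a' := toLev P Φ j (tw.a_mem_Lev hj)
  set X := difSub (P j) a with hX
  have hXP : X ≤ P j := tw.difSub_le' hj.le
  have hXM : X ≤ Mid P Φ (j + 1) := fun x hx => tw.mem_Mid (by omega) hj (hXP hx)
  unfold movedSpace at hv
  refine Submodule.iSup_induction _ (motive := fun v => Lm (opSum P Φ (j + 1) X) v = 0) hv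
    (fun f w hw => ?_) (map_zero _) (fun w w' h h' => by rw [map_add, h, h', add_zero])
  refine Submodule.iSup_induction _ (motive := fun v => Lm (opSum P Φ (j + 1) X) v = 0) hw
    (fun ⟨hf, hm⟩ w hw => ?_) (map_zero _) (fun w w' h h' => by rw [map_add, h, h', add_zero])
  obtain ⟨g, hg, hg1⟩ := hm
  by_contra h0
  let V : Submodule k E :=
    { carrier := {x | x ∈ wsp ρ f ∧ ∀ y : ↥(Lev P Φ j), (y : S) ∈ X → ρ y x = x}
      add_mem' := fun {x y} hx hy => ⟨add_mem hx.1 hy.1, fun z hz => by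
        rw [map_add, hx.2 z hz, hy.2 z hz]⟩
      zero_mem' := ⟨zero_mem _, fun z _ => map_zero _⟩
      smul_mem' := fun c x hx => ⟨Submodule.smul_mem _ c hx.1, fun z hz => by
        rw [map_smul, hx.2 z hz]⟩ }
  have hmem : Lm (opSum P Φ (j + 1) X) w ∈ V := by
    classical
    let _ := Fintype.ofFinite S
    refine ⟨?_, fun y hy => ?_⟩
    · rw [opSum, map_sum, LinearMap.sum_apply]
      refine Submodule.sum_mem _ fun n hn => ?_
      have hnX : n ∈ X := (Finset.mem_filter.1 hn).2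
      exact hf.wsp_pInv (toLev P Φ j (tw.mem_Lev le_rfl hj (hXP hnX))) (hXP hnX) w hw
    · show Lm (op P Φ (j + 1) (y : S)) _ = _
      rw [← Module.End.mul_apply, ← map_mul]
      congr 1
      exact congrArg Lm (AddMonoidHom.ext fun u => op_opSum_apply hXM hy u)
  refine hg1 (hf.eq_one_of_fix hl.act.classTwo (T := V) (fun x hx => hx.1) ?_ ?_
    (dif_mem hl.act hg) fun x hx => hx.2 _ ?_)
  · intro y hy x hx
    refine ⟨hf.wsp_pInv y hy x hx.1, fun z hz => ?_⟩
    have hyz : ((y⁻¹ * z * y : ↥(Lev P Φ j)) : S) ∈ X := by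
      have := conj_mem_difSub (X := P j) (a := a) (inv_mem hy) hz
      rwa [inv_inv] at this
    rw [← rho_mul_apply, show z * y = y * (y⁻¹ * z * y) by group, rho_mul_apply, hx.2 _ hyz]
  · exact fun hb => h0 ((Submodule.mem_bot k).1 (hb ▸ hmem))
  · exact dif_mem_difSub hg

/-- Quiet elements are quiet in the representation. -/
theorem Tower.quiet_of_quietEl {x : ↥(Lev P Φ j)} (hx : QuietEl P Φ a j (x : S)) :
    Quiet (repOf P Φ j Lm) ((P j).subgroupOf (Lev P Φ j)) (toLev P Φ j (tw.a_mem_Lev hj)) x := by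
  intro v hv hav
  set X := difSub (P j) a with hX
  have hXM : X ≤ Mid P Φ (j + 1) := fun z hz =>
    tw.mem_Mid (by omega) hj (tw.difSub_le' hj.le hz)
  have haX : a ∈ normalizer (X : Set S) := mem_normalizer_fintype fun z hz =>
    inv_mem_difSub (fun z hz => (mem_normalizer_iff.1 (tw.inv j hj.le) z).1 hz) hz
  have h := tw.apply_eq_zero hA hj (Lm := Lm) (A := op P Φ (j + 1) (x : S) - 1)
    (B := (Nat.card X • (1 : AddMonoid.End (USect P Φ (j + 1))) - opSum P Φ (j + 1) X) *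
      opOrb P Φ (j + 1) a r) (fun u => by
      show op P Φ (j + 1) (x : S) (Nat.card X • opOrb P Φ (j + 1) a r u -
        opSum P Φ (j + 1) X (opOrb P Φ (j + 1) a r u)) - _ = 0
      rw [sub_eq_zero]
      refine hx _ ?_ ?_
      · rw [map_sub, map_nsmul, tw.op_opOrb hA hj,
          op_opSum_comm hXM (tw.a_mem_Mid hj) haX, tw.op_opOrb hA hj]
      · rw [map_sub, map_nsmul, sub_eq_zero]
        exact (opSum_of_fixed X fun n hn => op_opSum_apply hXM hn _).symm) v
  have e1 : Lm (Nat.card X • (1 : AddMonoid.End (USect P Φ (j + 1))) - opSum P Φ (j + 1) X) v =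
      (Nat.card X : k) • v := by
    rw [map_sub, map_nsmul, map_one, LinearMap.sub_apply, LinearMap.smul_apply,
      Module.End.one_apply, tw.lm_opSum_moved hA hj hLm hk hv, sub_zero, Nat.cast_smul_eq_nsmul]
  rw [map_mul, Module.End.mul_apply, tw.lm_opOrb hA hj hav, map_nsmul, e1, map_nsmul,
    map_smul, map_sub Lm (op P Φ (j + 1) (x : S)), map_one,
    LinearMap.sub_apply, Module.End.one_apply, ← Nat.cast_smul_eq_nsmul k, smul_smul,
    smul_eq_zero] at h
  exact sub_eq_zero.1 (h.resolve_left (mul_ne_zero (tw.natCast_r_ne hA hj hk)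
    (tw.natCast_card_ne hA hj hk (tw.difSub_le' hj.le))))

end Rep

end Cfsg.Agent.TurullHeight
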