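import Mathlib.GroupTheory.Abelianization.Defs
import Mathlib.GroupTheory.QuotientGroup.Basic
import Mathlib.Algebra.Group.Subgroup.Ker

/-!
# An abelian section as a module

`Sect P Φ` is `P / (P' Φ)` written additively, with the action of the ambient group by conjugation.
-/

set_option autoImplicit false

namespace Cfsg.Agent.TurullHeight

variable {Γ : Type*} [Group Γ] (P Φ : Subgroup Γ)

/-- The image of `Φ` in the abelianisation of `P`. -/
def sectKer : AddSubgroup (Additive (Abelianization P)) :=
  ((Φ.subgroupOf P).map Abelianization.of).toAddSubgroup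

/-- The section `P / (P' Φ)`. -/
abbrev Sect : Type _ := Additive (Abelianization P) ⧸ sectKer P Φ

variable {P}

/-- The class of an element of `P`. -/
def sect (x : P) : Sect P Φ := QuotientAddGroup.mk (Additive.ofMul (Abelianization.of x))

theorem sect_mul (x y : P) : sect Φ (x * y) = sect Φ x + sect Φ y := by
  rw [sect, map_mul, ofMul_mul, QuotientAddGroup.mk_add]; rfl

theorem sect_one : sect Φ (1 : P) = 0 := by
  rw [sect, map_one, ofMul_one]; rfl

theorem sect_inv (x : P) : sect Φ x⁻¹ = -sect Φ x :=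
  eq_neg_of_add_eq_zero_left (by rw [← sect_mul, inv_mul_cancel, sect_one])

theorem sect_pow (x : P) (n : ℕ) : sect Φ (x ^ n) = n • sect Φ x := by
  induction n with
  | zero => rw [pow_zero, sect_one, zero_nsmul]
  | succ n ih => rw [pow_succ, sect_mul, ih, succ_nsmul]

theorem sect_surjective (u : Sect P Φ) : ∃ x : P, sect Φ x = u := by
  induction u using QuotientAddGroup.induction_on with | _ z => ?_
  obtain ⟨x, hx⟩ := QuotientGroup.mk_surjective (Additive.toMul z)
  refine ⟨x, ?_⟩
  show QuotientAddGroup.mk (Additive.ofMul (Abelianization.of x)) = _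
  rw [show Abelianization.of x = Additive.toMul z from hx]
  rfl

/-- The kernel is `Φ` when that contains the commutators. -/
theorem sect_eq_zero (h : ∀ x ∈ P, ∀ y ∈ P, x * y * x⁻¹ * y⁻¹ ∈ Φ) {x : P} :
    sect Φ x = 0 ↔ (x : Γ) ∈ Φ := by
  rw [sect, QuotientAddGroup.eq_zero_iff]
  have hc : commutator P ≤ Φ.subgroupOf P := by
    rw [commutator_def, Subgroup.commutator_le]
    exact fun u _ v _ => h u u.2 v v.2
  constructor
  · intro hm
    obtain ⟨z, hz, he⟩ := Subgroup.mem_map.1 (show Abelianization.of x ∈ (Φ.subgroupOf P).map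
      Abelianization.of from hm)
    have : z⁻¹ * x ∈ commutator P := by
      have h1 : Abelianization.of (z⁻¹ * x) = 1 := by
        rw [map_mul, map_inv, he, inv_mul_cancel]
      rwa [← MonoidHom.mem_ker, Abelianization.ker_of] at h1
    have h2 := mul_mem hz (hc this)
    rwa [mul_inv_cancel_left] at h2
  · intro hm
    exact ⟨x, hm, rfl⟩

theorem sect_eq_iff (h : ∀ x ∈ P, ∀ y ∈ P, x * y * x⁻¹ * y⁻¹ ∈ Φ) {x y : P} :
    sect Φ x = sect Φ y ↔ (x : Γ)⁻¹ * y ∈ Φ := by
  rw [show (x : Γ)⁻¹ * y = ((x⁻¹ * y : P) : Γ) from rfl, ← sect_eq_zero Φ h, sect_mul, sect_inv,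
    neg_add_eq_zero]

variable [P.Normal] [Φ.Normal]

/-- The action by conjugation. -/
def sectAct : Γ →* AddMonoid.End (Sect P Φ) :=
  let F : Γ → Sect P Φ →+ Sect P Φ := fun g =>
    QuotientAddGroup.map _ _
      (MonoidHom.toAdditive (Abelianization.map (MulAut.conjNormal (H := P) g).toMonoidHom))
      (fun z hz => by
        obtain ⟨x, hx, he⟩ := Subgroup.mem_map.1
          (show Additive.toMul z ∈ (Φ.subgroupOf P).map Abelianization.of from hz)
        refine Subgroup.mem_map.2 ⟨MulAut.conjNormal g x, ?_, ?_⟩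
        · rw [Subgroup.mem_subgroupOf, MulAut.conjNormal_apply]
          exact ‹Φ.Normal›.conj_mem _ hx g
        · show _ = Abelianization.map _ (Additive.toMul z)
          rw [← he, Abelianization.map_of]
          rfl)
  have hF : ∀ g (x : P), F g (sect Φ x) = sect Φ (MulAut.conjNormal g x) := fun g x => rfl
  { toFun := F
    map_one' := AddMonoidHom.ext fun u => by
      obtain ⟨x, rfl⟩ := sect_surjective Φ u
      rw [hF, map_one]; rfl
    map_mul' := fun g h => AddMonoidHom.ext fun u => by
      obtain ⟨x, rfl⟩ := sect_surjective Φ u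
      show F (g * h) (sect Φ x) = F g (F h (sect Φ x))
      rw [hF, hF, hF, map_mul]; rfl }

theorem sectAct_sect (g : Γ) (x : P) :
    sectAct Φ g (sect Φ x) = sect Φ (MulAut.conjNormal g x) := rfl

theorem sectAct_coe (g : Γ) {x : Γ} (hx : x ∈ P) :
    sectAct Φ g (sect Φ ⟨x, hx⟩) = sect Φ ⟨g * x * g⁻¹, ‹P.Normal›.conj_mem x hx g⟩ :=
  (sectAct_sect Φ g _).trans (congrArg (sect Φ) (Subtype.ext (MulAut.conjNormal_apply _ _)))

end Cfsg.Agent.TurullHeight
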