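import Cfsg.Agent.Lib.TurullHeight.WspFrame
import Cfsg.Agent.Lib.TurullHeight.Sect

/-!
# A layer and the weights of its group on the next one

`P/Φ` irreducible, `Φ` central in the operators of `P`. Every weight kills the commutators of `Φ`;
the images of the kernels meet trivially in `P/Φ`. `quiet`: the classes with a representative fixed
by `a` that fixes the fixed vectors in the moved weight spaces.
-/

set_option autoImplicit false

namespace Cfsg.Agent.TurullHeight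

open Finset
open scoped commutatorElement

variable {Γ : Type*} [Group Γ] {k : Type*} [Field k] {E : Type*} [AddCommGroup E] [Module k E]

/-- `P/Φ` a layer acting on `E`. -/
structure LayerData (ρ : Γ →* Module.End k E) (P Φ : Subgroup Γ) (a : Γ) (r p : ℕ) : Prop where
  act : ActData ρ P a r p
  le : Φ ≤ P
  comm_mem : ∀ x ∈ P, ∀ y ∈ P, x * y * x⁻¹ * y⁻¹ ∈ Φ
  pow_mem : ∀ x ∈ P, x ^ p ∈ Φ
  central : ∀ z ∈ Φ, ∀ y ∈ P, Commute (ρ z) (ρ y)
  irr : ∀ M : Subgroup Γ, M.Normal → Φ ≤ M → M ≤ P → M = Φ ∨ M = P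
  gen : ∀ H : Subgroup Γ, H ≤ P → (∀ x ∈ P, ρ x = 1 → x ∈ H) → P ≤ H ⊔ Φ → P ≤ H
  faithful : ∃ x ∈ P, ρ x ≠ 1

/-- A weight moved by `a` on the group. -/
def Moved (P : Subgroup Γ) (a : Γ) (f : Γ → k) : Prop := ∃ g ∈ P, f (dif a g) ≠ 1

variable (ρ : Γ →* Module.End k E) (P : Subgroup Γ) (a : Γ)

/-- The sum of the moved weight spaces. -/
def movedSpace : Submodule k E := ⨆ (f : Γ → k) (_ : IsWt ρ P f ∧ Moved P a f), wsp ρ f

/-- `x` fixes the fixed vectors of the moved weight spaces. -/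
def Quiet (x : Γ) : Prop := ∀ v ∈ movedSpace ρ P a, ρ a v = v → ρ x v = v

theorem quiet_one : Quiet ρ P a 1 := fun v _ _ => by rw [map_one, Module.End.one_apply]

variable {ρ P a}

theorem Quiet.mul {x y : Γ} (hx : Quiet ρ P a x) (hy : Quiet ρ P a y) : Quiet ρ P a (x * y) :=
  fun v hv ha => by rw [rho_mul_apply, hy v hv ha, hx v hv ha]

theorem Quiet.inv {x : Γ} (hx : Quiet ρ P a x) : Quiet ρ P a x⁻¹ := fun v hv ha => by
  conv_lhs => rw [← hx v hv ha, rho_inv_apply]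

theorem wsp_le_movedSpace {f : Γ → k} (hf : IsWt ρ P f) (hm : Moved P a f) :
    wsp ρ f ≤ movedSpace ρ P a :=
  le_iSup₂ (f := fun (f : Γ → k) (_ : IsWt ρ P f ∧ Moved P a f) => wsp ρ f) f ⟨hf, hm⟩

variable (ρ P a)

/-- The classes of the quiet fixed elements. -/
def quietSub (Φ : Subgroup Γ) : AddSubgroup (Sect P Φ) where
  carrier := {u | ∃ x : P, Commute (x : Γ) a ∧ Quiet ρ P a x ∧ sect Φ x = u}
  add_mem' := fun {u v} ⟨x, hxa, hx, hu⟩ ⟨y, hya, hy, hv⟩ =>
    ⟨x * y, hxa.mul_left hya, hx.mul hy, by rw [sect_mul, hu, hv]⟩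
  zero_mem' := ⟨1, Commute.one_left a, quiet_one ρ P a, sect_one Φ⟩
  neg_mem' := fun {u} ⟨x, hxa, hx, hu⟩ => ⟨x⁻¹, hxa.inv_left, hx.inv, by rw [sect_inv, hu]⟩

variable {ρ P a}

variable [IsAlgClosed k] [FiniteDimensional k E]

/-- The image of the kernel of a weight. -/
def kbar (Φ : Subgroup Γ) {f : Γ → k} (hf : IsWt ρ P f) : AddSubgroup (Sect P Φ) where
  carrier := {u | ∃ x : P, f x = 1 ∧ sect Φ x = u}
  add_mem' := fun {u v} ⟨x, hx, hu⟩ ⟨y, hy, hv⟩ => ⟨x * y, by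
    show f ((x : Γ) * y) = 1
    rw [hf.map_mul (by rw [hx]; exact one_ne_zero), hx, hy, one_mul], by rw [sect_mul, hu, hv]⟩
  zero_mem' := ⟨1, hf.map_one, sect_one Φ⟩
  neg_mem' := fun {u} ⟨x, hx, hu⟩ => ⟨x⁻¹, by
    show f ((x : Γ)⁻¹) = 1
    rw [hf.map_inv (by rw [hx]; exact one_ne_zero), hx, inv_one], by rw [sect_inv, hu]⟩

variable {Φ : Subgroup Γ} [P.Normal] [Φ.Normal] {r p : ℕ}
  (hl : LayerData ρ P Φ a r p)

include hl

theorem LayerData.ne_zero_of_mem {f : Γ → k} (hf : IsWt ρ P f) {z : Γ} (hz : z ∈ Φ) : f z ≠ 0 := by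
  rw [hf.ne_zero_iff]
  refine ⟨hl.le hz, fun y hy => eq_one_of_rho_eq_one hl.act hf (commutator_mem (hl.le hz) hy) ?_⟩
  rw [commutatorElement_def, map_mul, map_mul, map_mul, (hl.central z hz y hy).eq,
    mul_assoc (ρ y), ← map_mul ρ z, mul_inv_cancel, map_one, mul_one, ← map_mul, mul_inv_cancel,
    map_one]

theorem LayerData.exp_two (u : Sect P Φ) : p • u = 0 := by
  obtain ⟨x, rfl⟩ := sect_surjective Φ u
  rw [← sect_pow, sect_eq_zero Φ hl.comm_mem]
  exact hl.pow_mem x x.2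

omit [IsAlgClosed k] [FiniteDimensional k E] in
theorem sectAct_mem_quietSub {u : Sect P Φ} (hu : u ∈ quietSub ρ P a Φ) :
    sectAct Φ a u = u := by
  obtain ⟨x, hxa, -, rfl⟩ := hu
  rw [sectAct_sect]
  congr 1
  exact Subtype.ext (by rw [MulAut.conjNormal_apply, ← hxa.eq, mul_inv_cancel_right])

omit hl in
theorem sectAct_mem_kbar_iff {f : Γ → k} (hf : IsWt ρ P f) (g : Γ) (u : Sect P Φ) :
    sectAct Φ g u ∈ kbar Φ (hf.translate g) ↔ u ∈ kbar Φ hf := by
  constructor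
  · rintro ⟨y, hy, he⟩
    refine ⟨MulAut.conjNormal g⁻¹ y, ?_, ?_⟩
    · rw [MulAut.conjNormal_apply, inv_inv]; exact hy
    · rw [← sectAct_sect, he]
      show (sectAct (P := P) Φ g⁻¹ * sectAct (P := P) Φ g) u = u
      rw [← map_mul, inv_mul_cancel, map_one]; rfl
  · rintro ⟨y, hy, rfl⟩
    refine ⟨MulAut.conjNormal g y, ?_, (sectAct_sect Φ g y).symm⟩
    show f (g⁻¹ * ((MulAut.conjNormal g y : P) : Γ) * g) = 1
    rw [MulAut.conjNormal_apply, show g⁻¹ * (g * (y : Γ) * g⁻¹) * g = y by group]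
    exact hy

omit hl in
theorem kbar_congr {f f' : Γ → k} (hf : IsWt ρ P f) (hf' : IsWt ρ P f') (h : f = f') :
    kbar Φ hf = kbar Φ hf' := by subst h; rfl

variable [Finite Γ]

/-- The images of the kernels meet trivially. -/
theorem LayerData.eq_zero_of_forall_kbar {u : Sect P Φ}
    (h : ∀ f (hf : IsWt ρ P f), u ∈ kbar Φ hf) : u = 0 := by
  let M : Subgroup Γ :=
    { carrier := {x | ∃ hx : x ∈ P, ∀ f (hf : IsWt ρ P f), sect Φ ⟨x, hx⟩ ∈ kbar Φ hf}
      one_mem' := ⟨one_mem P, fun f hf => by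
        rw [show (⟨1, one_mem P⟩ : P) = 1 from rfl, sect_one]; exact zero_mem _⟩
      mul_mem' := fun {x y} ⟨hx, hxk⟩ ⟨hy, hyk⟩ => ⟨mul_mem hx hy, fun f hf => by
        rw [show (⟨x * y, mul_mem hx hy⟩ : P) = ⟨x, hx⟩ * ⟨y, hy⟩ from rfl, sect_mul]
        exact add_mem (hxk f hf) (hyk f hf)⟩
      inv_mem' := fun {x} ⟨hx, hxk⟩ => ⟨inv_mem hx, fun f hf => by
        rw [show (⟨x⁻¹, inv_mem hx⟩ : P) = (⟨x, hx⟩ : P)⁻¹ from rfl, sect_inv]
        exact neg_mem (hxk f hf)⟩ }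
  have hM : M.Normal := ⟨fun x ⟨hx, hxk⟩ g => ⟨‹P.Normal›.conj_mem x hx g, fun f hf => by
    rw [← sectAct_coe Φ g hx,
      ← kbar_congr ((hf.translate g⁻¹).translate g) hf (by rw [tr_tr, mul_inv_cancel, tr_one])]
    exact (sectAct_mem_kbar_iff (hf.translate g⁻¹) g _).2 (hxk _ _)⟩⟩
  have hΦM : Φ ≤ M := fun x hx => ⟨hl.le hx, fun f hf => by
    rw [(sect_eq_zero Φ hl.comm_mem (x := ⟨x, hl.le hx⟩)).2 hx]; exact zero_mem _⟩
  rcases hl.irr M hM hΦM (fun x hx => hx.1) with hMΦ | hMP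
  · obtain ⟨x, rfl⟩ := sect_surjective Φ u
    rw [sect_eq_zero Φ hl.comm_mem, ← hMΦ]
    exact ⟨x.2, h⟩
  · exfalso
    obtain ⟨x₀, hx₀, hne⟩ := hl.faithful
    refine hne (rho_eq_one hl.act.classTwo (natCard_P_ne_zero hl.act) fun f hf => ?_)
    let K : Subgroup Γ :=
      { carrier := {x | f x = 1}
        one_mem' := hf.map_one
        mul_mem' := fun {x y} hx hy => by
          show f (x * y) = 1
          rw [hf.map_mul (by rw [show f x = 1 from hx]; exact one_ne_zero), show f x = 1 from hx,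
            show f y = 1 from hy, one_mul]
        inv_mem' := fun {x} hx => by
          show f x⁻¹ = 1
          rw [hf.map_inv (by rw [show f x = 1 from hx]; exact one_ne_zero), show f x = 1 from hx,
            inv_one] }
    have hKP : K ≤ P := fun x hx => hf.mem_of_ne_zero (by rw [show f x = 1 from hx]; exact one_ne_zero)
    refine hl.gen K hKP (fun x hx hρ => eq_one_of_rho_eq_one hl.act hf hx hρ) (fun x hx => ?_) hx₀
    have hxM : x ∈ M := hMP ▸ hx
    obtain ⟨y, hy, he⟩ := hxM.2 f hf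
    rw [sect_eq_iff Φ hl.comm_mem] at he
    rw [show x = (y : Γ) * ((y : Γ)⁻¹ * x) by group]
    exact mul_mem (Subgroup.mem_sup_left hy) (Subgroup.mem_sup_right he)

omit [Finite Γ] [Φ.Normal] in
/-- A weight moved by `a` itself is moved on the group. -/
theorem LayerData.moved_of_tr_ne {f : Γ → k} (hf : IsWt ρ P f) (hne : tr a f ≠ f) : Moved P a f := by
  by_contra hm
  apply hne
  unfold Moved at hm
  push Not at hm
  have key : ∀ z ∈ P, f (a * z * a⁻¹) = f z := by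
    intro z hz
    have hd := hm z hz
    have e : a * z * a⁻¹ = z * dif a z := by rw [dif]; group
    by_cases hz0 : f z = 0
    · rw [hz0]
      by_contra hne'
      rw [e] at hne'
      apply hne'
      by_contra hne''
      have h2 : f (dif a z)⁻¹ = 1 := by rw [hf.map_inv (by rw [hd]; exact one_ne_zero), hd, inv_one]
      have h3 := hf.map_mul hne'' (dif a z)⁻¹
      rw [mul_inv_cancel_right, hz0, h2, mul_one] at h3
      exact hne'' h3.symm
    · rw [e, hf.map_mul hz0, hd, mul_one]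
  funext x
  by_cases hx : x ∈ P
  · have hx' : a⁻¹ * x * a ∈ P := by simpa using ‹P.Normal›.conj_mem x hx a⁻¹
    show f (a⁻¹ * x * a) = f x
    have := key _ hx'
    rw [show a * (a⁻¹ * x * a) * a⁻¹ = x by group] at this
    exact this.symm
  · have h1 : f x = 0 := by by_contra h; exact hx (hf.mem_of_ne_zero h)
    show f (a⁻¹ * x * a) = f x
    rw [h1]
    by_contra h
    have := ‹P.Normal›.conj_mem _ (hf.mem_of_ne_zero h) a
    rw [show a * (a⁻¹ * x * a) * a⁻¹ = x by group] at this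
    exact hx this

omit [IsAlgClosed k] [FiniteDimensional k E] [Finite Γ] [Φ.Normal] [P.Normal] hl in
theorem moved_tr [P.Normal] {f : Γ → k} (i : ℕ) (hm : Moved P a f) : Moved P a (tr (a ^ i) f) := by
  obtain ⟨g, hg, h⟩ := hm
  refine ⟨a ^ i * g * (a ^ i)⁻¹, ‹P.Normal›.conj_mem g hg _, ?_⟩
  show f ((a ^ i)⁻¹ * dif a (a ^ i * g * (a ^ i)⁻¹) * a ^ i) ≠ 1
  rwa [show (a ^ i)⁻¹ * dif a (a ^ i * g * (a ^ i)⁻¹) * a ^ i = dif a g by
    have hc : a * a ^ i = a ^ i * a := ((Commute.refl a).pow_right i).eq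
    simp only [dif, mul_inv_rev, inv_inv]
    rw [show a * (a ^ i * g * (a ^ i)⁻¹) * a⁻¹ = a ^ i * (a * g * a⁻¹) * (a ^ i)⁻¹ by
      rw [show a ^ i * (a * g * a⁻¹) * (a ^ i)⁻¹ = a ^ i * a * g * (a ^ i * a)⁻¹ by group, ← hc]
      group]
    group]

/-- Quiet classes lie in the kernels of the weights not fixed by `a`. -/
theorem LayerData.mem_kbar_of_tr_ne {f : Γ → k} (hf : IsWt ρ P f) (hne : tr a f ≠ f)
    {u : Sect P Φ} (hu : u ∈ quietSub ρ P a Φ) : u ∈ kbar Φ hf := by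
  classical
  obtain ⟨x, hxa, hq, rfl⟩ := hu
  have hm := hl.moved_of_tr_ne hf hne
  refine ⟨x, hf.eq_one_of_fix hl.act.classTwo le_rfl hf.wsp_pInv hf.wsp_ne_bot x.2 fun v hv => ?_, rfl⟩
  have hinj : Set.InjOn (fun i => tr (a ^ i) f) (range r : Finset ℕ) := by
    intro i hi j hj h
    rw [coe_range, Set.mem_Iio] at hi hj
    by_contra hij
    have key : ∀ i j, i < j → j < r → tr (a ^ i) f = tr (a ^ j) f → False := by
      intro i j hlt hj h
      have h1 : tr (a ^ (j - i)) f = f := by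
        have h2 := congrArg (tr (a ^ i)⁻¹) h
        rw [tr_tr, tr_tr, inv_mul_cancel, tr_one] at h2
        have e : a ^ (j - i) = (a ^ i)⁻¹ * a ^ j := by
          rw [eq_inv_mul_iff_mul_eq, ← pow_add, Nat.add_sub_cancel' hlt.le]
        rw [e]
        exact h2.symm
      obtain ⟨n, hn⟩ := Nat.exists_mul_mod_eq_one_of_coprime
        ((hl.act.hr.coprime_iff_not_dvd.2 fun hd => absurd (Nat.le_of_dvd (by omega) hd)
          (by omega)).symm : Nat.Coprime (j - i) r) hl.act.hr.one_lt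
      apply hne
      have h3 : ∀ m : ℕ, tr (a ^ ((j - i) * m)) f = f := by
        intro m
        induction m with
        | zero => rw [Nat.mul_zero, pow_zero, tr_one]
        | succ m ih => rw [Nat.mul_succ, pow_add, ← tr_tr, h1, ih]
      have h4 := h3 n
      rwa [pow_eq_pow_mod _ hl.act.a_pow, hn.2, pow_one] at h4
    rcases lt_or_gt_of_ne hij with hl' | hl'
    · exact key i j hl' hj h
    · exact key j i hl' hi h.symm
  set T := ∑ i ∈ range r, ρ (a ^ i) v with hT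
  have hTm : T ∈ movedSpace ρ P a := Submodule.sum_mem _ fun i _ =>
    wsp_le_movedSpace (hf.translate _) (moved_tr i hm) (rho_mem_wsp_tr hv _)
  have hTa : ρ a T = T := by
    have h : ρ a T + ρ (a ^ 0) v = T + ρ (a ^ r) v := by
      rw [hT, map_sum, ← sum_range_succ (fun i => ρ (a ^ i) v) r,
        sum_range_succ' (fun i => ρ (a ^ i) v) r]
      simp only [← rho_mul_apply, ← pow_succ']
    rwa [hl.act.a_pow, pow_zero, add_left_inj] at h
  have hxT := hq T hTm hTa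
  have hsum : ∑ i ∈ range r, ρ (a ^ i) (ρ (x : Γ) v - v) = 0 := by
    rw [← sub_eq_zero] at hxT
    rw [← hxT, hT, map_sum, ← sum_sub_distrib]
    refine sum_congr rfl fun i _ => ?_
    rw [map_sub, ← rho_mul_apply, ← rho_mul_apply, (hxa.pow_right i).eq]
  have h0 := eq_zero_of_sum hl.act.classTwo (natCard_P_ne_zero hl.act) (range r)
    (fun i => tr (a ^ i) f) (fun i _ => hf.translate _) hinj _
    (fun i _ => rho_mem_wsp_tr (sub_mem (hf.wsp_pInv _ x.2 v hv) hv) _) hsum 0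
    (mem_range.2 hl.act.hr.pos)
  rwa [pow_zero, map_one, Module.End.one_apply, sub_eq_zero] at h0

end Cfsg.Agent.TurullHeight
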