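import Cfsg.Agent.Lib.TurullHeight.Pivot2

/-!
# The height of the fixed points

If `resid G (n + 2) ≠ ⊥` then `resid C n ≠ ⊥`, `C` the fixed points of `a` in `G`: in a tower an element
fixed by `a`, deep enough in the residuals of `C` and not quiet, climbs to the top, and the first moved
layer gives such an element.
-/

set_option autoImplicit false

namespace Cfsg.Agent.TurullHeight

open Subgroup
open scoped commutatorElement

variable {S : Type*} [Group S]

theorem commute_commutator {x y a : S} (hx : Commute x a) (hy : Commute y a) :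
    Commute ⁅x, y⁆ a :=
  ((hx.mul_left hy).mul_left hx.inv_left).mul_left hy.inv_left

/-- The fixed points of `a` in `G`. -/
abbrev fixedIn (G : Subgroup S) (a : S) : Subgroup S := G ⊓ centralizer ({a} : Set S)

variable [Finite S] {P Φ : ℕ → Subgroup S} {G : Subgroup S} {a : S} {T : ℕ} {R : ℕ → Subgroup S}
  {p : ℕ → ℕ} {r : ℕ} (tw : Tower G a T P Φ R p) (hA : Ambient G a r)

include tw

omit [Finite S] in
theorem Tower.mem_fixedIn {i : ℕ} (hi : i ≤ T) {x : S} (hx : x ∈ P i) (hxa : Commute x a) :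
    x ∈ fixedIn G a :=
  ⟨tw.le i hi hx, mem_centralizer_singleton_iff.2 hxa.eq⟩

/-- Groups below the first moved one. -/
theorem Tower.le_resid_fixed {j : ℕ} (hj : j ≤ T) (hlow : ∀ i ≤ j, ∀ x ∈ P i, Commute x a) :
    P j ≤ resid (fixedIn G a) j := by
  induction j with
  | zero => exact fun x hx => tw.mem_fixedIn hj hx (hlow 0 le_rfl x hx)
  | succ j ih =>
    have hP : P j ≤ resid (fixedIn G a) j := ih (by omega) fun i hi => hlow i (by omega)
    suffices ∀ m ≤ j + 1, P (j + 1) ≤ resid (fixedIn G a) m from this _ le_rfl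
    intro m hm
    induction m with
    | zero => exact fun x hx => tw.mem_fixedIn hj hx (hlow _ le_rfl x hx)
    | succ m ih' =>
      refine le_resid_succ (ih' (by omega)) ?_
      conv_lhs => rw [← tw.perfect j hj]
      exact commutator_mono le_rfl (hP.trans (resid_antitone _ (by omega)))

/-- A commutator with a fixed element of the next layer lies one residual lower. -/
theorem Tower.comm_mem_resid (hA : Ambient G a r) {i : ℕ} (hi : i < T) {e c : S} (he : e ∈ P i) (hea : Commute e a)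
    (hre : e ∈ resid (fixedIn G a) (i - 2)) (hc : c ∈ P (i + 1)) (hca : Commute c a) :
    ⁅e, c⁆ ∈ resid (fixedIn G a) (i - 1) := by
  rcases Nat.lt_or_ge i 2 with h | h
  · rw [show i - 1 = 0 by omega]
    exact tw.mem_fixedIn hi (tw.commutator_mem_P (by omega) hi he hc) (commute_commutator hea hca)
  set C := fixedIn G a with hC
  have heC : e ∈ C := tw.mem_fixedIn hi.le he hea
  have hn : zpowers e ≤ normalizer ((C ⊓ P (i + 1) : Subgroup S) : Set S) :=
    zpowers_le.2 (inf_normalizer_le_normalizer_inf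
      ⟨le_normalizer heC, tw.norm (i + 1) i (by omega) hi he⟩)
  have := Fact.mk (tw.prime i hi.le)
  have := Fact.mk (tw.prime (i + 1) hi)
  have hcop : (Nat.card (zpowers e)).Coprime (Nat.card (C ⊓ P (i + 1) : Subgroup S)) :=
    IsPGroup.coprime_card_of_ne _ _ (tw.pne i hi) _ _ ((tw.pgroup i hi.le).to_le (zpowers_le.2 he))
      ((tw.pgroup (i + 1) hi).to_le inf_le_right)
  have hsol : Group.IsSolvable (zpowers e) :=
    Coprime.isSolvable_of_le ((zpowers_le.2 (tw.le i hi.le he) : zpowers e ≤ G)) hA.solv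
  have hle := commutator_le_resid_succ (j := i - 2) (inf_le_left : C ⊓ P (i + 1) ≤ C)
    (zpowers_le.2 hre) hn hcop (Or.inl hsol)
  rw [show i - 2 + 1 = i - 1 by omega] at hle
  rw [← commutatorElement_inv]
  exact inv_mem (hle (commutator_mem_commutator ⟨tw.mem_fixedIn hi hc hca, hc⟩ (mem_zpowers e)))

include hA

/-- Climbing to the top. -/
theorem Tower.up {n : ℕ} (hTn : T = n + 2) (hbot : resid (fixedIn G a) n = ⊥) {i : ℕ} (hi : i < T)
    {e : S} (he : e ∈ P i) (hea : Commute e a) (hre : e ∈ resid (fixedIn G a) (i - 2)) :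
    QuietEl P Φ a i e := by
  induction d : T - i generalizing i e with
  | zero => omega
  | succ d ih =>
    by_contra hne
    rcases Nat.lt_or_ge (i + 1) T with h | h
    · obtain ⟨c, hc, hca, hcq⟩ := tw.step hA h he hea hne
      refine hcq (ih h (tw.commutator_mem_P (by omega) hi he hc) (commute_commutator hea hca) ?_
        (by omega))
      rw [show i + 1 - 2 = i - 1 by omega]
      exact tw.comm_mem_resid hA hi he hea hre hc hca
    · obtain ⟨c, hc, hca, hcn⟩ := tw.exists_moved_of_not_quiet hA hi he hne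
      have h1 := tw.comm_mem_resid hA hi he hea hre hc hca
      rw [show i - 1 = n by omega, hbot, mem_bot] at h1
      exact hcn (h1 ▸ one_mem _)

/-- The first moved layer has no fixed class. -/
theorem Tower.fpf_of_moved {k : ℕ} (hk : k ≤ T) (hlow : ∀ i < k, ∀ x ∈ P i, Commute x a)
    (hmov : ∃ x ∈ P k, ¬ Commute x a) : Fpf P Φ a k := by
  have ha := tw.a_mem_Mid (i := k) hk
  let M : Subgroup S :=
    { carrier := {x | x ∈ P k ∧ op P Φ k a (cl P Φ k x) = cl P Φ k x}
      one_mem' := ⟨one_mem _, by rw [(tw.cl_eq_zero hk (one_mem _)).2 (one_mem _), map_zero]⟩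
      mul_mem' := fun {x y} ⟨hx, hx'⟩ ⟨hy, hy'⟩ => ⟨mul_mem hx hy, by
        rw [tw.cl_mul hk hx hy, map_add, hx', hy']⟩
      inv_mem' := fun {x} ⟨hx, hx'⟩ => ⟨inv_mem hx, by rw [tw.cl_inv hk hx, map_neg, hx']⟩ }
  have hnor : ∀ g ∈ Mid P Φ k, Commute g a → g ∈ normalizer (M : Set S) := fun g hg hga =>
    mem_normalizer_fintype fun x ⟨hx, hx'⟩ => ⟨(mem_normalizer_iff.1 hg.1 x).1 hx, by
      rw [← tw.op_cl hk hg hx, ← op_mul_apply ha hg, ← hga.eq, op_mul_apply hg ha, hx']⟩
  rcases tw.irr k hk M (fun x hx => hx.1) (fun x hx => ⟨tw.Φ_le k hk hx, by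
      rw [(tw.cl_eq_zero hk (tw.Φ_le k hk hx)).2 hx, map_zero]⟩)
      (hnor a ha (Commute.refl a))
      (fun j hj g hg => hnor g (tw.mem_Mid hj.le hk hg) (hlow j hj g hg)) with h | h
  · intro u hu
    obtain ⟨x, hx, rfl⟩ := tw.cl_surjective hk u
    exact (tw.cl_eq_zero hk hx).2 (h.le (⟨hx, hu⟩ : x ∈ M))
  · obtain ⟨x, hx, hxa⟩ := hmov
    refine absurd (tw.cfix k hk hlow (fun y hy => ?_) x hx) hxa
    obtain ⟨-, hy'⟩ := (h.ge hy : y ∈ M)
    have hay := (mem_normalizer_iff.1 (tw.inv k hk) y).1 hy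
    rw [tw.op_cl hk ha hy] at hy'
    show y⁻¹ * (a * y * a⁻¹) ∈ Φ k
    rw [← tw.cl_eq_zero hk (mul_mem (inv_mem hy) hay), tw.cl_mul hk (inv_mem hy) hay,
      tw.cl_inv hk hy, hy', neg_add_cancel]

/-- Fixed classes above a layer without any. -/
theorem Tower.visible {i : ℕ} (hi : i + 1 < T) (h0 : Fpf P Φ a i) (h1 : ¬ Fpf P Φ a (i + 1)) :
    ∃ c ∈ P (i + 1), Commute c a ∧ ¬ QuietEl P Φ a (i + 1) c := by
  by_contra hcon
  push Not at hcon
  refine h1 fun u hu => tw.eq_zero_of_fixed_difSub hA (by omega) h0 fun m hm => ?_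
  obtain ⟨c, hc, hca, rfl⟩ := tw.exists_fixed_class hA (i := i + 1) hi.le hu
  exact (tw.op_cl_eq_iff (i := i + 1) hi.le
    (tw.mem_Mid (by omega) hi.le (tw.difSub_le' (by omega) hm)) hc).2
    (tw.fixed_of_quiet hA hi hcon hc hca hm)

/-- An element moving a fixed class gives a non-quiet commutator. -/
theorem Tower.visible_comm {i m : ℕ} (hi : i + 1 < T) (hm : m ≤ i) (hpm : p m ≠ p i)
    (h0 : Fpf P Φ a i) {y : S} (hy : y ∈ P m) (hya : Commute y a) {u : USect P Φ (i + 1)}
    (hu : op P Φ (i + 1) a u = u) (hne : op P Φ (i + 1) y u ≠ u) :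
    ∃ c ∈ P (i + 1), Commute c a ∧ ¬ QuietEl P Φ a (i + 1) ⁅y, c⁆ := by
  by_contra hcon
  push Not at hcon
  obtain ⟨c, hc, hca, rfl⟩ := tw.exists_fixed_class hA (i := i + 1) hi.le hu
  have hec := tw.commutator_mem_P (i := m) (j := i + 1) (by omega) hi.le hy hc
  refine hne ((tw.op_cl_eq_iff (i := i + 1) hi.le (tw.mem_Mid (by omega) hi.le hy) hc).2 ?_)
  refine (tw.cl_eq_zero (i := i + 1) hi.le hec).1
    (tw.eq_zero_of_fixed_difSub hA (by omega) h0 fun g hg => ?_)
  exact (tw.op_cl_eq_iff (i := i + 1) hi.le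
    (tw.mem_Mid (by omega) hi.le (tw.difSub_le' (by omega) hg)) hec).2
    (tw.fixed_of_elem hA hi hm hy hya hpm hcon hc hca hg)

variable {n : ℕ} (hTn : T = n + 2) (hbot : resid (fixedIn G a) n = ⊥)

include hTn hbot

/-- The bottom layer moved. -/
theorem Tower.false_zero (h0 : Fpf P Φ a 0) : False := by
  have mem0 : ∀ {i}, i ≤ 2 → ∀ c ∈ P i, Commute c a → c ∈ resid (fixedIn G a) 0 :=
    fun hi c hc hca => tw.mem_fixedIn (by omega) hc hca
  by_cases h1 : Fpf P Φ a 1
  · have hp : p 0 = 2 := tw.pTwo hA (by omega) h0 h1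
    have h2 : ¬ Fpf P Φ a 2 := fun h2 =>
      tw.pne 0 (by omega) (hp.trans (tw.pTwo hA (j := 1) (by omega) h1 h2).symm)
    rcases Nat.eq_zero_or_pos n with rfl | hn
    · refine h2 fun u hu => ?_
      obtain ⟨c, hc, hca, rfl⟩ := tw.exists_fixed_class hA (i := 2) (by omega) hu
      refine (tw.cl_eq_zero (by omega) hc).2 ?_
      have := mem0 le_rfl c hc hca
      rw [hbot, mem_bot] at this
      exact this ▸ one_mem _
    · obtain ⟨c, hc, hca, hcq⟩ := tw.visible hA (i := 1) (by omega) h1 h2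
      exact hcq (tw.up hA hTn hbot (by omega) hc hca (mem0 le_rfl c hc hca))
  · obtain ⟨c, hc, hca, hcq⟩ := tw.visible hA (i := 0) (by omega) h0 h1
    exact hcq (tw.up hA hTn hbot (by omega) hc hca (mem0 (by omega) c hc hca))

/-- A moved layer with fixed classes above. -/
theorem Tower.false_above {k : ℕ} (hk0 : 0 < k) (hkn : k ≤ n) (h0 : Fpf P Φ a k)
    (h1 : ¬ Fpf P Φ a (k + 1)) (hlow : ∀ i < k, ∀ x ∈ P i, Commute x a) : False := by
  have hres : ∀ j < k, P j ≤ resid (fixedIn G a) j := fun j hj =>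
    tw.le_resid_fixed (by omega) fun i hi => hlow i (by omega)
  obtain rfl | ⟨m, rfl⟩ : k = 1 ∨ ∃ m, k = m + 2 := by
    rcases k with _ | _ | m
    exacts [absurd hk0 (by omega), Or.inl rfl, Or.inr ⟨m, rfl⟩]
  · obtain ⟨c, hc, hca, hcq⟩ := tw.visible hA (i := 1) (by omega) h0 h1
    exact hcq (tw.up hA hTn hbot (by omega) hc hca (tw.mem_fixedIn (by omega) hc hca))
  by_cases hex : ∃ y ∈ P (m + 1), ∃ u, op P Φ (m + 2 + 1) a u = u ∧ op P Φ (m + 2 + 1) y u ≠ u
  · obtain ⟨y, hy, u, hu, hne⟩ := hex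
    have hya := hlow (m + 1) (by omega) y hy
    obtain ⟨c, hc, hca, hcq⟩ := tw.visible_comm hA (i := m + 2) (m := m + 1) (by omega) (by omega)
      (tw.pne (m + 1) (by omega)) h0 hy hya hu hne
    refine hcq (tw.up hA hTn hbot (by omega) (tw.commutator_mem_P (by omega) (by omega) hy hc)
      (commute_commutator hya hca) ?_)
    rw [show m + 2 + 1 - 2 = m + 1 by omega]
    exact (commutator_mem_resid (tw.mem_fixedIn (i := m + 2 + 1) (by omega) hc hca)
      (hres (m + 1) (by omega) hy)).2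
  · push Not at hex
    unfold Fpf at h1
    push Not at h1
    obtain ⟨u₀, hu₀, hu₀0⟩ := h1
    obtain ⟨z, hz, hza, t, ht, hq⟩ := tw.pivot_low hA (by omega) h0 hlow hu₀ hu₀0 hex
    have hta := hlow m (by omega) t ht
    have hzP := tw.Φ_le (m + 2) (by omega) hz
    have hzt : ⁅z, t⁆ ∈ P (m + 2) := by
      rw [← commutatorElement_inv]
      exact inv_mem (tw.commutator_mem_P (i := m) (by omega) (by omega) ht hzP)
    refine hq (tw.up hA hTn hbot (by omega) hzt (commute_commutator hza hta) ?_)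
    rw [show m + 2 - 2 = m by omega]
    exact (commutator_mem_resid (tw.mem_fixedIn (i := m + 2) (by omega) hzP hza)
      (hres m (by omega) ht)).1

/-- A moved layer without fixed classes above. -/
theorem Tower.false_pivot {m : ℕ} (hkn : m + 1 ≤ n) (h0 : Fpf P Φ a (m + 1))
    (h1 : Fpf P Φ a (m + 1 + 1)) (hlow : ∀ i < m + 1, ∀ x ∈ P i, Commute x a) : False := by
  set C := fixedIn G a with hC
  have hPm : P m ≤ resid C m := tw.le_resid_fixed (by omega) fun i hi => hlow i (by omega)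
  have hPmC : P m ≤ C := hPm.trans (resid_le _ _)
  set Z0 := Φ (m + 1) ⊓ C with hZ0
  have hn0 : P m ≤ normalizer (Z0 : Set S) := fun g hg => inf_normalizer_le_normalizer_inf
    ⟨tw.Φ_norm (m + 1) m (by omega) (by omega) hg, le_normalizer (hPmC hg)⟩
  set Z := ⁅Z0, P m⁆ with hZ
  have := Fact.mk (tw.prime m (by omega))
  have := Fact.mk (tw.prime (m + 1) (by omega))
  have hcop : (Nat.card (P m)).Coprime (Nat.card Z0) :=
    IsPGroup.coprime_card_of_ne _ _ (tw.pne m (by omega)) _ _ (tw.pgroup m (by omega))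
      ((tw.pgroup (m + 1) (by omega)).to_le (inf_le_left.trans (tw.Φ_le (m + 1) (by omega))))
  have hsol : Group.IsSolvable (P m) :=
    Coprime.isSolvable_of_le (tw.le m (by omega)) hA.solv
  have hZr : Z ≤ resid C (m + 1) :=
    commutator_le_resid_succ inf_le_right hPm hn0 hcop (Or.inl hsol)
  have hZ0' : Z ≤ Z0 := le_normalizer_iff_commutator_le_left.1 hn0
  have hZP : Z ≤ P (m + 1) := hZ0'.trans (inf_le_left.trans (tw.Φ_le (m + 1) (by omega)))
  have hZa : ∀ y ∈ Z, Commute y a := fun y hy =>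
    (mem_centralizer_singleton_iff.1 (hZ0' hy).2.2 : _)
  have hTY : P m ≤ normalizer (Z : Set S) := fun g hg =>
    mem_normalizer_commutator (hn0 hg) (le_normalizer hg)
  have hYc : Z ≤ ⁅Z, P m⁆ := (Coprime.commutator_commutator_eq hn0 hcop (Or.inl hsol)).ge
  have hp2 : p (m + 1) = 2 := tw.pTwo hA (by omega) h0 h1
  have hp : p (m + 1 + 1) ≠ 2 := fun h => tw.pne (m + 1) (by omega) (hp2.trans h.symm)
  have h2 : ¬ Fpf P Φ a (m + 1 + 1 + 1) := fun h => hp (tw.pTwo hA (by omega) h1 h)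
  obtain ⟨y₁, hy₁, g₁, hg₁, hne⟩ : ∃ y ∈ Z, ∃ g ∈ P (m + 1 + 1), ⁅y, g⁆ ∉ Φ (m + 1 + 1) := by
    by_contra h
    push Not at h
    obtain ⟨z, hz, hza, t, ht, hzt⟩ := tw.exists_outside hA (by omega) h0 h1 hlow
    have hztZ : ⁅z, t⁆ ∈ Z := commutator_mem_commutator
      ⟨hz, tw.mem_fixedIn (i := m + 1) (by omega) (tw.Φ_le (m + 1) (by omega) hz) hza⟩ ht
    refine hzt ((tw.op_eq_one_iff_mem (by omega) (hZP hztZ)).1 ?_)
    exact (tw.op_eq_one_iff (i := m + 1 + 1) (by omega)
      (tw.mem_Mid (by omega) (by omega) (hZP hztZ))).2 (h _ hztZ)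
  by_cases hex : ∃ y ∈ Z, ∃ u, op P Φ (m + 1 + 1 + 1) a u = u ∧ op P Φ (m + 1 + 1 + 1) y u ≠ u
  · obtain ⟨y, hy, u, hu, hu'⟩ := hex
    have hres : ∀ c ∈ P (m + 1 + 1 + 1), Commute c a → ⁅y, c⁆ ∈ resid C (m + 1) := fun c hc hca =>
      (commutator_mem_resid (tw.mem_fixedIn (i := m + 1 + 1 + 1) (by omega) hc hca) (hZr hy)).2
    rcases Nat.lt_or_ge (m + 1 + 1 + 1) T with hlt | hge
    · obtain ⟨c, hc, hca, hcq⟩ := tw.visible_comm hA (i := m + 1 + 1) (m := m + 1) hlt (by omega)
        (tw.pne (m + 1) (by omega)) h1 (hZP hy) (hZa y hy) hu hu'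
      refine hcq (tw.up hA hTn hbot hlt (tw.commutator_mem_P (i := m + 1) (by omega) hlt.le (hZP hy) hc)
        (commute_commutator (hZa y hy) hca) ?_)
      rw [show m + 1 + 1 + 1 - 2 = m + 1 by omega]
      exact hres c hc hca
    · obtain ⟨c, hc, hca, rfl⟩ := tw.exists_fixed_class hA (i := m + 1 + 1 + 1) (by omega) hu
      refine hu' ((tw.op_cl_eq_iff (by omega) (tw.mem_Mid (j := m + 1) (by omega) (by omega) (hZP hy))
        hc).2 ?_)
      have := hres c hc hca
      rw [show m + 1 = n by omega, hbot, mem_bot] at this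
      exact this ▸ one_mem _
  · push Not at hex
    obtain ⟨z, hz, hza, t, ht, hq⟩ := tw.pivot_high hA (l := m) rfl (by omega) (by omega) h1 hp hZP
      hZa le_rfl (fun t ht => hlow m (by omega) t ht) hTY hYc hy₁ hg₁ hne hex
    have hta := hlow m (by omega) t ht
    have hzP := tw.Φ_le (m + 1 + 1) (by omega) hz
    have hzt : ⁅z, t⁆ ∈ P (m + 1 + 1) := by
      rw [← commutatorElement_inv]
      exact inv_mem (tw.commutator_mem_P (i := m) (by omega) (by omega) ht hzP)
    refine hq (tw.up hA hTn hbot (by omega) hzt (commute_commutator hza hta) ?_)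
    rw [show m + 1 + 1 - 2 = m by omega]
    exact (commutator_mem_resid (tw.mem_fixedIn (i := m + 1 + 1) (by omega) hzP hza) (hPm ht)).1

omit tw in
omit hTn hbot in
/-- The fixed points lose at most two. -/
theorem resid_fixedIn_ne_bot {n : ℕ} (hT : resid G (n + 2) ≠ ⊥) : resid (fixedIn G a) n ≠ ⊥ := by
  intro hbot
  obtain ⟨P, Φ, R, p, tw⟩ := exists_tower hA hT
  classical
  by_cases hex : ∃ k, k ≤ n ∧ ∃ x ∈ P k, ¬ Commute x a
  · obtain ⟨hkn, hmov⟩ := Nat.find_spec hex
    have hlow : ∀ i < Nat.find hex, ∀ x ∈ P i, Commute x a := fun i hi x hx => by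
      by_contra h
      exact Nat.find_min hex hi ⟨by omega, x, hx, h⟩
    have h0 := tw.fpf_of_moved hA (by omega) hlow hmov
    rcases hk : Nat.find hex with _ | m
    · exact tw.false_zero hA rfl hbot (hk ▸ h0)
    · rw [hk] at hkn hlow h0
      by_cases h1 : Fpf P Φ a (m + 1 + 1)
      · exact tw.false_pivot hA rfl hbot hkn h0 h1 hlow
      · exact tw.false_above hA rfl hbot m.succ_pos hkn h0 h1 hlow
  · push Not at hex
    have := tw.le_resid_fixed (j := n) (by omega) hex
    rw [hbot] at this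
    exact tw.Φ_ne n (by omega) (this.trans bot_le)

end Cfsg.Agent.TurullHeight
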