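import Cfsg.Agent.Lib.TurullHeight.Stable
import Cfsg.Agent.Lib.PGroup.Frattini
import Mathlib.GroupTheory.Perm.Cycle.Type

/-!
# Traces of translates

`u` a quiet class. If `N = [N, a]` does not stabilise a weight fixed by `a`, sums over the orbits of
`a` on translates place `u` in the image of the kernel, so operators mapping fixed classes to quiet
ones and commuting with `N` (or elements `y` fixed by `a` normalising `N`) give classes fixed by `N`.
-/

set_option autoImplicit false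

namespace Cfsg.Agent.TurullHeight

open Finset
open scoped commutatorElement

theorem sectAct_mul_apply {Γ : Type*} [Group Γ] {P : Subgroup Γ} [P.Normal] (Φ : Subgroup Γ)
    [Φ.Normal] (g h : Γ) (u : Sect P Φ) :
    sectAct Φ (g * h) u = sectAct Φ g (sectAct Φ h u) := by
  rw [map_mul]; rfl

theorem sectAct_one_apply {Γ : Type*} [Group Γ] {P : Subgroup Γ} [P.Normal] (Φ : Subgroup Γ)
    [Φ.Normal] (u : Sect P Φ) : sectAct Φ (1 : Γ) u = u := by
  rw [map_one]; rfl

/-- An element of prime power order acting on a set of size prime to it fixes a point of it. -/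
theorem exists_commute_mem_coset {Γ : Type*} [Group Γ] [Finite Γ] {y n₀ : Γ} {M : Subgroup Γ}
    {s e : ℕ} (hs : s.Prime) (hy : y ^ (s ^ e) = 1) (hM : ∀ m ∈ M, y * m * y⁻¹ ∈ M)
    (hn₀ : n₀⁻¹ * (y * n₀ * y⁻¹) ∈ M) (hcard : ¬ s ∣ Nat.card M) :
    ∃ n, n₀⁻¹ * n ∈ M ∧ Commute n y := by
  classical
  have := Fact.mk hs
  let X := {x : Γ // n₀⁻¹ * x ∈ M}
  let _ : Fintype X := Fintype.ofFinite X
  have hmem : ∀ x : X, n₀⁻¹ * (y * x.1 * y⁻¹) ∈ M := fun x => by
    rw [show n₀⁻¹ * (y * x.1 * y⁻¹) = n₀⁻¹ * (y * n₀ * y⁻¹) * (y * (n₀⁻¹ * x.1) * y⁻¹) by group]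
    exact mul_mem hn₀ (hM _ x.2)
  let g : X → X := fun x => ⟨y * x.1 * y⁻¹, hmem x⟩
  have hinj : Function.Injective g := fun x x' h => by
    have := congrArg Subtype.val h
    exact Subtype.ext (mul_left_cancel (mul_right_cancel this))
  let σ : Equiv.Perm X := Equiv.ofBijective g (Finite.injective_iff_bijective.1 hinj)
  have hσ : ∀ (t : ℕ) (x : X), ((σ ^ t) x).1 = y ^ t * x.1 * (y ^ t)⁻¹ := by
    intro t
    induction t with
    | zero => intro x; simp
    | succ t ih =>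
      intro x
      rw [pow_succ', Equiv.Perm.mul_apply]
      show y * ((σ ^ t) x).1 * y⁻¹ = _
      rw [ih, pow_succ']; group
  have hXM : Fintype.card X = Nat.card M := by
    rw [← Nat.card_eq_fintype_card]
    exact Nat.card_congr ((Equiv.mulLeft n₀⁻¹).subtypeEquiv fun x => Iff.rfl)
  obtain ⟨x, hx⟩ := Equiv.Perm.exists_fixed_point_of_prime (p := s) (n := e)
    (by rw [hXM]; exact hcard) (σ := σ) (Equiv.ext fun x => Subtype.ext (by
      rw [hσ, hy, one_mul, inv_one, mul_one]; rfl))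
  refine ⟨x.1, x.2, ?_⟩
  have h : y * x.1 * y⁻¹ = x.1 := congrArg Subtype.val hx
  exact (mul_inv_eq_iff_eq_mul.1 h).symm

variable {Γ : Type*} [Group Γ] [Finite Γ] {k : Type*} [Field k] {E : Type*} [AddCommGroup E]
  [Module k E]

/-- A proper invariant subgroup of the operator group containing the stabiliser of a weight. -/
structure StableSup (N : Subgroup Γ) (a : Γ) (f : Γ → k) (M : Subgroup Γ) : Prop where
  le : M ≤ N
  stab : ∀ n ∈ N, tr n f = f → n ∈ M
  ne : ∃ n ∈ N, n ∉ M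
  comm : ∀ x ∈ N, ∀ y ∈ N, ⁅x, y⁆ ∈ M
  inv : ∀ m ∈ M, a * m * a⁻¹ ∈ M
  fpf : ∀ n ∈ N, dif a n ∈ M → n ∈ M

theorem StableSup.normal {N M : Subgroup Γ} {a : Γ} {f : Γ → k} (hM : StableSup N a f M) {n m : Γ}
    (hn : n ∈ N) (hm : m ∈ M) : n * m * n⁻¹ ∈ M := by
  rw [show n * m * n⁻¹ = ⁅n, m⁆ * m by simp only [commutatorElement_def]; group]
  exact mul_mem (hM.comm n hn m (hM.le hm)) hm

theorem StableSup.inv_pow {N M : Subgroup Γ} {a : Γ} {f : Γ → k} (hM : StableSup N a f M) (i : ℕ)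
    {m : Γ} (hm : m ∈ M) : a ^ i * m * (a ^ i)⁻¹ ∈ M := by
  induction i with
  | zero => simpa using hm
  | succ i ih =>
    rw [show a ^ (i + 1) * m * (a ^ (i + 1))⁻¹ = a * (a ^ i * m * (a ^ i)⁻¹) * a⁻¹ by
      rw [pow_succ']; group]
    exact hM.inv _ ih

variable {ρ : Γ →* Module.End k E} {P Φ N : Subgroup Γ} [P.Normal] [Φ.Normal] {a : Γ} {r p q : ℕ}
  [IsAlgClosed k] [FiniteDimensional k E] (hl : LayerData ρ P Φ a r p)
  (hN : OpData P Φ N a r q p)

omit [P.Normal] [Φ.Normal] [IsAlgClosed k] [FiniteDimensional k E] [Finite Γ] in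
theorem conj_pow_mem {N : Subgroup Γ} {a : Γ} (h : ∀ n ∈ N, a * n * a⁻¹ ∈ N) (i : ℕ) {n : Γ}
    (hn : n ∈ N) : a ^ i * n * (a ^ i)⁻¹ ∈ N := by
  induction i with
  | zero => simpa using hn
  | succ i ih =>
    rw [show a ^ (i + 1) * n * (a ^ (i + 1))⁻¹ = a * (a ^ i * n * (a ^ i)⁻¹) * a⁻¹ by
      rw [pow_succ']; group]
    exact h _ ih

include hN in
omit [IsAlgClosed k] [FiniteDimensional k E] in
theorem exists_stableSup {f : Γ → k} (ha : tr a f = f) (hns : ∃ n ∈ N, tr n f ≠ f) :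
    ∃ M, StableSup N a f M := by
  have := Fact.mk hN.hq
  have hNa : N.map (MulAut.conj a).toMonoidHom ≤ N := by
    rintro _ ⟨n, hn, rfl⟩
    exact hN.inv n hn
  set M : Subgroup Γ := (N ⊓ stabF f) ⊔ ⁅N, N⁆ with hMdef
  have hle : M ≤ N := sup_le inf_le_left
    (Subgroup.commutator_le.2 fun x hx y hy => commutator_mem hx hy)
  have hcomm : ∀ x ∈ N, ∀ y ∈ N, ⁅x, y⁆ ∈ M := fun x hx y hy =>
    Subgroup.mem_sup_right (Subgroup.commutator_mem_commutator hx hy)
  have hinv : ∀ m ∈ M, a * m * a⁻¹ ∈ M := by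
    have h : M.map (MulAut.conj a).toMonoidHom ≤ M := by
      rw [hMdef, Subgroup.map_sup, Subgroup.map_commutator]
      refine sup_le_sup ?_ (Subgroup.commutator_mono hNa hNa)
      rintro _ ⟨n, ⟨hn, hnf⟩, rfl⟩
      refine ⟨hN.inv n hn, ?_⟩
      show tr (a * n * a⁻¹) f = f
      have ha' : tr a⁻¹ f = f := by conv_lhs => rw [← ha, tr_tr, inv_mul_cancel, tr_one]
      rw [← tr_tr, ← tr_tr, ha', mem_stabF.1 hnf, ha]
    exact fun m hm => h ⟨m, hm, rfl⟩
  have hne : ∃ n ∈ N, n ∉ M := by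
    by_contra h
    push Not at h
    obtain ⟨n, hn, hnf⟩ := hns
    have htop : (N ⊓ stabF f).subgroupOf N ⊔ frattini N = ⊤ := by
      refine top_le_iff.1 fun x _ => ?_
      have hle' : M.subgroupOf N ≤ (N ⊓ stabF f).subgroupOf N ⊔ frattini N := by
        have hc : ⁅N, N⁆.subgroupOf N = commutator N := by
          rw [← Subgroup.map_subtype_commutator, Subgroup.subgroupOf,
            Subgroup.comap_map_eq_self_of_injective N.subtype_injective]
        rw [hMdef, Subgroup.subgroupOf_sup inf_le_left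
          (Subgroup.commutator_le.2 fun x hx y hy => commutator_mem hx hy), hc]
        exact sup_le_sup le_rfl (PGroup.commutator_le_frattini hN.pgroup)
      exact hle' (h x x.2)
    exact hnf (mem_stabF.1 (Subgroup.subgroupOf_eq_top.1 (frattini_nongenerating htop) hn).2)
  refine ⟨M, hle, fun n hn h => Subgroup.mem_sup_left ⟨hn, h⟩, hne, hcomm, hinv, ?_⟩
  -- the differences are onto modulo `M`
  let M' : Subgroup N := M.subgroupOf N
  have hM'n : M'.Normal := ⟨fun m hm g => by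
    show ((g * m * g⁻¹ : N) : Γ) ∈ M
    rw [show ((g * m * g⁻¹ : N) : Γ) = ⁅(g : Γ), (m : Γ)⁆ * m by
      simp only [commutatorElement_def, Subgroup.coe_mul, Subgroup.coe_inv]; group]
    exact mul_mem (hcomm _ g.2 _ m.2) hm⟩
  have hab : ∀ x y : N ⧸ M', x * y = y * x := by
    intro x y
    induction x using QuotientGroup.induction_on with | _ x => ?_
    induction y using QuotientGroup.induction_on with | _ y => ?_
    rw [← QuotientGroup.mk_mul, ← QuotientGroup.mk_mul, QuotientGroup.eq]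
    show (((x * y)⁻¹ * (y * x) : N) : Γ) ∈ M
    rw [show (((x * y)⁻¹ * (y * x) : N) : Γ) = ⁅(y : Γ)⁻¹, (x : Γ)⁻¹⁆ by
      simp only [commutatorElement_def, Subgroup.coe_mul, Subgroup.coe_inv]; group]
    exact hcomm _ (inv_mem y.2) _ (inv_mem x.2)
  let d : N → N := fun n => ⟨dif a n, mul_mem (inv_mem n.2) (hN.inv n n.2)⟩
  let ψ : N →* N ⧸ M' := MonoidHom.mk' (fun n => (d n : N ⧸ M')) fun x y => by
    have e : d (x * y) = y⁻¹ * d x * y * d y := Subtype.ext (by
      simp only [d, dif, Subgroup.coe_mul, Subgroup.coe_inv]; group)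
    rw [e, QuotientGroup.mk_mul, QuotientGroup.mk_mul, QuotientGroup.mk_mul,
      hab (_ * _) (y : N ⧸ M'), ← mul_assoc (y : N ⧸ M'), ← QuotientGroup.mk_mul, mul_inv_cancel,
      QuotientGroup.mk_one, one_mul]
  have hker : M' ≤ ψ.ker := fun m hm => by
    rw [MonoidHom.mem_ker]
    refine (QuotientGroup.eq_one_iff _).2 ?_
    show dif a (m : Γ) ∈ M
    exact mul_mem (inv_mem hm) (hinv _ hm)
  have hsurj : Function.Surjective ψ := by
    let H : Subgroup Γ := (ψ.range.comap (QuotientGroup.mk' M')).map N.subtype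
    have hNH : N ≤ H := hN.gen H fun n hn => ⟨d ⟨n, hn⟩, ⟨⟨n, hn⟩, rfl⟩, rfl⟩
    intro x
    induction x using QuotientGroup.induction_on with | _ x => ?_
    obtain ⟨z, hz, he⟩ := hNH x.2
    rw [show z = x from Subtype.ext he] at hz
    exact hz
  have heq : ψ.ker = M' := by
    refine (Subgroup.eq_of_le_of_card_ge hker (le_of_eq ?_)).symm
    have h1 : Nat.card (N ⧸ ψ.ker) = Nat.card (N ⧸ M') :=
      Nat.card_congr (QuotientGroup.quotientKerEquivOfSurjective ψ hsurj).toEquiv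
    have h2 := ψ.ker.card_eq_card_quotient_mul_card_subgroup
    have h3 := M'.card_eq_card_quotient_mul_card_subgroup
    rw [h1, h3] at h2
    exact (Nat.eq_of_mul_eq_mul_left Nat.card_pos h2).symm
  intro n hn h
  have : (⟨n, hn⟩ : N) ∈ ψ.ker := (QuotientGroup.eq_one_iff _).2 h
  rw [heq] at this
  exact this

include hl in
omit [IsAlgClosed k] [FiniteDimensional k E] in
/-- A non-trivial power of `a` moves every class outside `M`. -/
theorem StableSup.pow_not_mem {M : Subgroup Γ} {f : Γ → k} (hM : StableSup N a f M) {n : Γ}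
    (hn : n ∈ N) (hnM : n ∉ M) {i : ℕ} (h0 : 0 < i) (hi : i < r) :
    n⁻¹ * (a ^ i * n * (a ^ i)⁻¹) ∉ M := by
  intro h
  have key : ∀ t : ℕ, n⁻¹ * (a ^ (i * t) * n * (a ^ (i * t))⁻¹) ∈ M := by
    intro t
    induction t with
    | zero => simp
    | succ t ih =>
      rw [show i * (t + 1) = i + i * t by ring, pow_add,
        show n⁻¹ * (a ^ i * a ^ (i * t) * n * (a ^ i * a ^ (i * t))⁻¹) =
          n⁻¹ * (a ^ i * n * (a ^ i)⁻¹) *
            (a ^ i * (n⁻¹ * (a ^ (i * t) * n * (a ^ (i * t))⁻¹)) * (a ^ i)⁻¹) by group]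
      exact mul_mem h (hM.inv_pow i ih)
  obtain ⟨t, ht⟩ := Nat.exists_mul_mod_eq_one_of_coprime
    ((hl.act.hr.coprime_iff_not_dvd.2 fun hd => absurd (Nat.le_of_dvd h0 hd) (not_le.2 hi)).symm)
    hl.act.hr.one_lt
  have h1 := key t
  rw [pow_eq_pow_mod _ hl.act.a_pow, ht.2, pow_one] at h1
  exact hnM (hM.fpf n hn h1)

omit [IsAlgClosed k] [FiniteDimensional k E] in
/-- Translates outside `M` of a fixed weight are moved. -/
theorem StableSup.tr_ne {M : Subgroup Γ} {f : Γ → k} (hM : StableSup N a f M) (ha : tr a f = f)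
    (hinv : ∀ n ∈ N, a * n * a⁻¹ ∈ N) {g : Γ} (hg : g ∈ N) (hgM : g ∉ M) :
    tr a (tr g f) ≠ tr g f := by
  intro h
  refine hgM (hM.fpf g hg (hM.stab _ (mul_mem (inv_mem hg) (hinv g hg)) ?_))
  have ha' : tr a⁻¹ f = f := by conv_lhs => rw [← ha, tr_tr, inv_mul_cancel, tr_one]
  show tr (g⁻¹ * (a * g * a⁻¹)) f = f
  rw [← tr_tr, ← tr_tr, ← tr_tr, ha', h, tr_tr, inv_mul_cancel, tr_one]

section Kernel

variable {M : Subgroup Γ} {f : Γ → k} (hf : IsWt ρ P f) (ha : tr a f = f)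
  (hM : StableSup N a f M)

include hl hN hf ha hM

theorem sectAct_mem_kbar {h : Γ} (hh : h ∈ N) (hhM : h ∉ M) {w : Sect P Φ}
    (hw : w ∈ quietSub ρ P a Φ) : sectAct Φ h w ∈ kbar Φ hf := by
  have hne := hM.tr_ne ha hN.inv (inv_mem hh) fun h' => hhM (by simpa using inv_mem h')
  rw [← kbar_congr ((hf.translate h⁻¹).translate h) hf (by rw [tr_tr, mul_inv_cancel, tr_one])]
  exact (sectAct_mem_kbar_iff (hf.translate h⁻¹) h w).2 (hl.mem_kbar_of_tr_ne _ hne hw)

end Kernel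

variable (P Φ a r)

/-- The sum over the orbit of `a` on a translate. -/
def orbitSum (n : Γ) : AddMonoid.End (Sect P Φ) :=
  ∑ i ∈ range r, sectAct Φ (a ^ i * n * (a ^ i)⁻¹)

variable {P Φ a r}

omit [Finite Γ] in
theorem orbitSum_apply (n : Γ) (u : Sect P Φ) :
    orbitSum P Φ a r n u = ∑ i ∈ range r, sectAct Φ (a ^ i * n * (a ^ i)⁻¹) u :=
  end_sum_apply _ _ _

omit [Finite Γ] in
theorem sectAct_pow_fixed {u : Sect P Φ} (hu : sectAct Φ a u = u) :
    ∀ i : ℕ, sectAct Φ (a ^ i) u = u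
  | 0 => by rw [pow_zero, sectAct_one_apply]
  | i + 1 => by rw [pow_succ', sectAct_mul_apply, sectAct_pow_fixed hu i, hu]

omit [Finite Γ] in
/-- Orbit sums of fixed classes are fixed. -/
theorem sectAct_orbitSum (har : a ^ r = 1) (n : Γ) {u : Sect P Φ} (hu : sectAct Φ a u = u) :
    sectAct Φ a (orbitSum P Φ a r n u) = orbitSum P Φ a r n u := by
  have hterm : ∀ i, sectAct Φ (a ^ i * n * (a ^ i)⁻¹) u = sectAct Φ (a ^ i) (sectAct Φ n u) := by
    intro i
    rw [sectAct_mul_apply, sectAct_mul_apply]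
    congr 2
    conv_lhs => rw [← sectAct_pow_fixed hu i]
    rw [← sectAct_mul_apply, inv_mul_cancel, sectAct_one_apply]
  rw [orbitSum_apply, map_sum]
  simp only [hterm]
  have h : (∑ i ∈ range r, sectAct Φ a (sectAct Φ (a ^ i) (sectAct Φ n u))) +
      sectAct Φ (a ^ 0) (sectAct Φ n u) =
      (∑ i ∈ range r, sectAct Φ (a ^ i) (sectAct Φ n u)) + sectAct Φ (a ^ r) (sectAct Φ n u) := by
    rw [← sum_range_succ (fun i => sectAct Φ (a ^ i) (sectAct Φ n u)) r,
      sum_range_succ' (fun i => sectAct Φ (a ^ i) (sectAct Φ n u)) r]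
    simp only [← sectAct_mul_apply, ← mul_assoc, ← pow_succ']
  rwa [har, pow_zero, add_left_inj] at h

include hl hN

/-- The orbit lemma. -/
theorem mem_kbar_of_orbitSum {M : Subgroup Γ} {f : Γ → k} (hf : IsWt ρ P f) (ha : tr a f = f)
    (hM : StableSup N a f M) {n n' : Γ} (hn : n ∈ N) (hnM : n ∉ M) (hn' : n' ∈ N)
    {w w' : Sect P Φ} (hw : w ∈ quietSub ρ P a Φ) (hw' : w' ∈ quietSub ρ P a Φ)
    (hsec : w' = 0 ∨ ∀ i < r, n⁻¹ * (a ^ i * n' * (a ^ i)⁻¹) ∉ M)
    (hT : orbitSum P Φ a r n w + orbitSum P Φ a r n' w' ∈ quietSub ρ P a Φ) : w ∈ kbar Φ hf := by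
  have hninv : n⁻¹ ∉ M := fun h => hnM (by simpa using inv_mem h)
  have h1 := sectAct_mem_kbar hl hN hf ha hM (inv_mem hn) hninv hT
  rw [map_add, orbitSum_apply, orbitSum_apply, map_sum, map_sum,
    ← add_sum_erase _ _ (mem_range.2 hl.act.hr.pos), add_assoc] at h1
  simp only [← sectAct_mul_apply] at h1
  rw [pow_zero, one_mul, inv_one, mul_one, inv_mul_cancel, sectAct_one_apply] at h1
  refine (AddSubgroup.add_mem_cancel_right _ ?_).1 h1
  refine add_mem (AddSubgroup.sum_mem _ fun i hi => ?_) (AddSubgroup.sum_mem _ fun i hi => ?_)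
  · obtain ⟨hi0, hir⟩ := mem_erase.1 hi
    exact sectAct_mem_kbar hl hN hf ha hM (mul_mem (inv_mem hn) (conj_pow_mem hN.inv i hn))
      (hM.pow_not_mem hl hn hnM (Nat.pos_of_ne_zero hi0) (mem_range.1 hir)) hw
  · rcases hsec with rfl | hsec
    · rw [map_zero]; exact zero_mem _
    · exact sectAct_mem_kbar hl hN hf ha hM (mul_mem (inv_mem hn) (conj_pow_mem hN.inv i hn'))
        (hsec i (mem_range.1 hi)) hw'

/-- A quiet class in all kernels of fixed weights not stabilised by `N` is fixed by `N`. -/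
theorem fixed_by {u : Sect P Φ} (hu : u ∈ quietSub ρ P a Φ)
    (h : ∀ f (hf : IsWt ρ P f), tr a f = f → (∃ n ∈ N, tr n f ≠ f) → u ∈ kbar Φ hf) {n : Γ}
    (hn : n ∈ N) : sectAct Φ n u = u := by
  rw [← sub_eq_zero]
  refine hl.eq_zero_of_forall_kbar fun f hf => ?_
  have key : ∀ f (hf : IsWt ρ P f), ¬ (tr a f = f ∧ ∀ m ∈ N, tr m f = f) → u ∈ kbar Φ hf := by
    intro f hf hnot
    by_cases ha : tr a f = f
    · refine h f hf ha ?_
      by_contra hcon
      push Not at hcon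
      exact hnot ⟨ha, hcon⟩
    · exact hl.mem_kbar_of_tr_ne hf ha hu
  by_cases hst : tr a f = f ∧ ∀ m ∈ N, tr m f = f
  · exact stable_diff hl hN hf hst.1 hst.2 hu hn
  · refine sub_mem ?_ (key f hf hst)
    rw [← kbar_congr ((hf.translate n⁻¹).translate n) hf (by rw [tr_tr, mul_inv_cancel, tr_one])]
    refine (sectAct_mem_kbar_iff (hf.translate n⁻¹) n u).2 (key _ _ fun h' => hst ?_)
    have e : f = tr n⁻¹ f := by
      conv_lhs => rw [← tr_one f, ← mul_inv_cancel n, ← tr_tr, h'.2 n hn]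
    rw [e]
    exact h'

/-- An operator commuting with `N` mapping fixed classes to quiet ones. -/
theorem step_comm (V : AddSubgroup (Sect P Φ))
    (hVN : ∀ n ∈ N, ∀ u ∈ V, sectAct Φ n u ∈ V)
    (θ : Sect P Φ →+ Sect P Φ)
    (hθ : ∀ n ∈ N, ∀ u ∈ V, θ (sectAct Φ n u) = sectAct Φ n (θ u))
    (hq : ∀ u ∈ V, sectAct Φ a u = u → θ u ∈ quietSub ρ P a Φ) {c : Sect P Φ} (hc : c ∈ V)
    (hca : sectAct Φ a c = c) {n : Γ} (hn : n ∈ N) : sectAct Φ n (θ c) = θ c := by
  refine fixed_by hl hN (hq c hc hca) (fun f hf ha hns => ?_) hn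
  obtain ⟨M, hM⟩ := exists_stableSup hN ha hns
  obtain ⟨m, hm, hmM⟩ := hM.ne
  refine mem_kbar_of_orbitSum hl hN hf ha hM hm hmM hm (hq c hc hca) (zero_mem _) (Or.inl rfl) ?_
  rw [map_zero, add_zero]
  have hV : orbitSum P Φ a r m c ∈ V := by
    rw [orbitSum_apply]
    exact AddSubgroup.sum_mem _ fun i _ => hVN _ (conj_pow_mem hN.inv i hm) c hc
  have e : θ (orbitSum P Φ a r m c) = orbitSum P Φ a r m (θ c) := by
    rw [orbitSum_apply, orbitSum_apply, map_sum]
    exact sum_congr rfl fun i _ => hθ _ (conj_pow_mem hN.inv i hm) c hc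
  rw [← e]
  exact hq _ hV (sectAct_orbitSum hl.act.a_pow m hca)

omit hl hN [Finite Γ] in
theorem sectAct_quietSub {y : Γ} (hya : Commute y a) {u : Sect P Φ}
    (hu : u ∈ quietSub ρ P a Φ) : sectAct Φ y u ∈ quietSub ρ P a Φ := by
  obtain ⟨x, hxa, hx, rfl⟩ := hu
  refine ⟨MulAut.conjNormal y x, ?_, fun v hv hav => ?_, (sectAct_sect Φ y x).symm⟩
  · rw [MulAut.conjNormal_apply]
    exact (hya.mul_left hxa).mul_left hya.inv_left
  · rw [MulAut.conjNormal_apply, rho_mul_apply, rho_mul_apply]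
    have hv' : ρ y⁻¹ v ∈ movedSpace ρ P a := by
      unfold movedSpace at hv ⊢
      refine Submodule.iSup_induction _ (motive := fun v => ρ y⁻¹ v ∈ movedSpace ρ P a) hv
        (fun f w hw => ?_) (by rw [map_zero]; exact zero_mem _)
        (fun w w' h h' => by rw [map_add]; exact add_mem h h')
      refine Submodule.iSup_induction _ (motive := fun v => ρ y⁻¹ v ∈ movedSpace ρ P a) hw
        (fun hfm w hw => ?_) (by rw [map_zero]; exact zero_mem _)
        (fun w w' h h' => by rw [map_add]; exact add_mem h h')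
      obtain ⟨hf, g, hg, hgne⟩ := hfm
      refine wsp_le_movedSpace (hf.translate y⁻¹) ⟨y⁻¹ * g * y, ?_, ?_⟩ (rho_mem_wsp_tr hw y⁻¹)
      · simpa using ‹P.Normal›.conj_mem g hg y⁻¹
      · show f (y⁻¹⁻¹ * dif a (y⁻¹ * g * y) * y⁻¹) ≠ 1
        rwa [show y⁻¹⁻¹ * dif a (y⁻¹ * g * y) * y⁻¹ = dif a g by
          have h1 : a * y⁻¹ = y⁻¹ * a := hya.inv_left.eq.symm
          have h2 : y * a⁻¹ = a⁻¹ * y := hya.inv_right.eq
          simp only [dif]
          rw [show a * (y⁻¹ * g * y) * a⁻¹ = (a * y⁻¹) * g * (y * a⁻¹) by group, h1, h2]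
          group]
    have hav' : ρ a (ρ y⁻¹ v) = ρ y⁻¹ v := by
      rw [← rho_mul_apply, ← hya.inv_left.eq, rho_mul_apply, hav]
    rw [hx _ hv' hav', rho_apply_inv]

/-- An element fixed by `a` normalising `N`. -/
theorem step_y {y : Γ} (hya : Commute y a) (hyN : ∀ n ∈ N, y * n * y⁻¹ ∈ N) {s e : ℕ}
    (hs : s.Prime) (hsr : s ≠ r) (hsq : s ≠ q) (hye : y ^ (s ^ e) = 1)
    (hq : ∀ u, sectAct Φ a u = u → sectAct Φ y u - u ∈ quietSub ρ P a Φ) {c : Sect P Φ}
    (hca : sectAct Φ a c = c) {n : Γ} (hn : n ∈ N) :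
    sectAct Φ n (sectAct Φ y c - c) = sectAct Φ y c - c := by
  refine fixed_by hl hN (hq c hca) (fun f hf ha hns => ?_) hn
  obtain ⟨M, hM⟩ := exists_stableSup hN ha hns
  have hypow : ∀ i, Commute y (a ^ i) := fun i => hya.pow_right i
  have hconj : ∀ i m, y * (a ^ i * m * (a ^ i)⁻¹) * y⁻¹ =
      a ^ i * (y * m * y⁻¹) * (a ^ i)⁻¹ := fun i m => by
    rw [show y * (a ^ i * m * (a ^ i)⁻¹) * y⁻¹ = y * a ^ i * m * (y * a ^ i)⁻¹ by group,
      (hypow i).eq]
    group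
  have hfix : ∀ g, Commute g a → ∀ u, sectAct Φ a u = u →
      sectAct (P := P) Φ a (sectAct (P := P) Φ g u) = sectAct (P := P) Φ g u := fun g hg u hu => by
    rw [← sectAct_mul_apply, ← hg.eq, sectAct_mul_apply, hu]
  -- the image of an orbit sum
  have himg : ∀ (m : Γ) (u : Sect P Φ), sectAct Φ y (orbitSum P Φ a r m u) =
      orbitSum P Φ a r (y * m * y⁻¹) (sectAct Φ y u) := fun m u => by
    rw [orbitSum_apply, orbitSum_apply, map_sum]
    refine sum_congr rfl fun i _ => ?_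
    rw [← hconj, ← sectAct_mul_apply, ← sectAct_mul_apply, inv_mul_cancel_right]
  by_cases hMy : ∀ m ∈ M, y * m * y⁻¹ ∈ M
  swap
  · push Not at hMy
    obtain ⟨m, hm, hm'⟩ := hMy
    set c₀ := sectAct Φ y⁻¹ c with hc₀
    have hc₀a : sectAct Φ a c₀ = c₀ := hfix _ hya.inv_left c hca
    set w := sectAct Φ y c₀ - c₀ with hw
    have hwq := hq c₀ hc₀a
    have hyw : sectAct Φ y w = sectAct Φ y c - c := by
      rw [hw, map_sub, hc₀, ← sectAct_mul_apply (P := P) Φ y y⁻¹, mul_inv_cancel, sectAct_one_apply]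
    rw [← hyw]
    refine mem_kbar_of_orbitSum hl hN hf ha hM (hyN m (hM.le hm)) hm' (hM.le hm)
      (sectAct_quietSub hya hwq) (neg_mem hwq)
      (Or.inr fun i _ h => hm' ?_) ?_
    · have h1 := mul_mem (hM.inv_pow i hm) (inv_mem h)
      rwa [mul_inv_rev, inv_inv, mul_inv_cancel_left] at h1
    · rw [map_neg, ← sub_eq_add_neg, ← himg]
      exact hq _ (sectAct_orbitSum hl.act.a_pow m (sectAct_mem_quietSub hl hwq))
  by_cases hgood : ∃ m ∈ N, m ∉ M ∧ ∀ i < r, m⁻¹ * (a ^ i * (y * m * y⁻¹) * (a ^ i)⁻¹) ∉ M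
  · obtain ⟨m, hm, hmM, hi⟩ := hgood
    have hwq := hq c hca
    rw [← neg_mem_iff]
    refine mem_kbar_of_orbitSum hl hN hf ha hM hm hmM (hyN m hm) (neg_mem hwq)
      (sectAct_quietSub hya hwq) (Or.inr hi) ?_
    rw [map_neg, neg_add_eq_sub, ← himg]
    exact hq _ (sectAct_orbitSum hl.act.a_pow m (sectAct_mem_quietSub hl hwq))
  push Not at hgood
  -- `y` is trivial modulo `M`
  have htriv : ∀ m ∈ N, m⁻¹ * (y * m * y⁻¹) ∈ M := by
    intro m hm
    by_cases hmM : m ∈ M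
    · exact mul_mem (inv_mem hmM) (hMy m hmM)
    obtain ⟨i, hi, hmem⟩ := hgood m hm hmM
    set j := r - i with hj
    have hmj : (a ^ j * m * (a ^ j)⁻¹)⁻¹ * (y * m * y⁻¹) ∈ M := by
      have h1 := hM.inv_pow j hmem
      have e : a ^ j * a ^ i = 1 := by
        rw [← pow_add, hj, Nat.sub_add_cancel hi.le, hl.act.a_pow]
      rwa [show a ^ j * (m⁻¹ * (a ^ i * (y * m * y⁻¹) * (a ^ i)⁻¹)) * (a ^ j)⁻¹ =
        (a ^ j * m * (a ^ j)⁻¹)⁻¹ * ((a ^ j * a ^ i) * (y * m * y⁻¹) * (a ^ j * a ^ i)⁻¹) by group,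
        e, one_mul, inv_one, mul_one] at h1
    have key : ∀ t : ℕ, (a ^ (j * t) * m * (a ^ (j * t))⁻¹)⁻¹ * (y ^ t * m * (y ^ t)⁻¹) ∈ M := by
      intro t
      induction t with
      | zero => simp
      | succ t ih =>
        have h1 := hMy _ ih
        have h2 := hM.inv_pow (j * t) hmj
        have h3 := mul_mem h2 h1
        convert h3 using 1
        rw [show y * ((a ^ (j * t) * m * (a ^ (j * t))⁻¹)⁻¹ * (y ^ t * m * (y ^ t)⁻¹)) * y⁻¹ =
          (y * (a ^ (j * t) * m * (a ^ (j * t))⁻¹) * y⁻¹)⁻¹ *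
            (y ^ (t + 1) * m * (y ^ (t + 1))⁻¹) by rw [pow_succ']; group, hconj,
          show j * (t + 1) = j * t + j by ring, pow_add]
        group
    have hyr : m⁻¹ * (y ^ r * m * (y ^ r)⁻¹) ∈ M := by
      have := key r
      rwa [mul_comm j r, pow_mul, hl.act.a_pow, one_pow, one_mul, inv_one, mul_one] at this
    rcases Nat.eq_zero_or_pos e with rfl | he
    · rw [pow_zero, pow_one] at hye
      simp [hye]
    obtain ⟨u, hu⟩ := Nat.exists_mul_mod_eq_one_of_coprime (n := r) (k := s ^ e)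
      (((Nat.coprime_primes hs hl.act.hr).2 hsr).symm.pow_right e)
      (Nat.one_lt_pow he.ne' hs.one_lt)
    have key2 : ∀ t : ℕ, m⁻¹ * ((y ^ r) ^ t * m * ((y ^ r) ^ t)⁻¹) ∈ M := by
      have hMyi : ∀ (i : ℕ) z, z ∈ M → y ^ i * z * (y ^ i)⁻¹ ∈ M := by
        intro i
        induction i with
        | zero => intro z hz; simpa using hz
        | succ i ih =>
          intro z hz
          rw [show y ^ (i + 1) * z * (y ^ (i + 1))⁻¹ = y * (y ^ i * z * (y ^ i)⁻¹) * y⁻¹ by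
            rw [pow_succ']; group]
          exact hMy _ (ih z hz)
      intro t
      induction t with
      | zero => simp
      | succ t ih =>
        rw [pow_succ', show m⁻¹ * (y ^ r * (y ^ r) ^ t * m * (y ^ r * (y ^ r) ^ t)⁻¹) =
          m⁻¹ * (y ^ r * m * (y ^ r)⁻¹) *
            (y ^ r * (m⁻¹ * ((y ^ r) ^ t * m * ((y ^ r) ^ t)⁻¹)) * (y ^ r)⁻¹) by group]
        exact mul_mem hyr (hMyi r _ ih)
    have := key2 u
    rwa [← pow_mul, pow_eq_pow_mod _ hye, hu.2, pow_one] at this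
  obtain ⟨n₀, hn₀, hn₀M⟩ := hM.ne
  have := Fact.mk hN.hq
  obtain ⟨m, hm, hmy⟩ := exists_commute_mem_coset hs hye hMy (htriv n₀ hn₀) (fun hd => by
    obtain ⟨b, hb⟩ := IsPGroup.iff_card.1 (hN.pgroup.to_le hM.le)
    rw [hb] at hd
    exact hsq ((Nat.prime_dvd_prime_iff_eq hs hN.hq).1 (hs.dvd_of_dvd_pow hd)))
  have hmN : m ∈ N := by simpa using mul_mem hn₀ (hM.le hm)
  have hmM : m ∉ M := fun h => hn₀M (by simpa using mul_mem h (inv_mem hm))
  refine mem_kbar_of_orbitSum hl hN hf ha hM hmN hmM hmN (hq c hca) (zero_mem _) (Or.inl rfl) ?_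
  rw [map_zero, add_zero, map_sub]
  have hfixm : y * m * y⁻¹ = m := by rw [← hmy.eq, mul_inv_cancel_right]
  conv => arg 2; arg 1; arg 1; rw [← hfixm]
  rw [← himg]
  exact hq _ (sectAct_orbitSum hl.act.a_pow m hca)

end Cfsg.Agent.TurullHeight
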