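import Cfsg.Agent.Lib.TurullHeight.Step
import Cfsg.Agent.Lib.TurullHeight.Cover

/-!
# A layer without fixed classes

On `U_{j+1}` the fixed classes are moved by the lower groups fixed by `a`, or some weight is moved
by a lower element fixed by `a`, which gives a non-quiet commutator inside the layer.
-/

set_option autoImplicit false

namespace Cfsg.Agent.TurullHeight

open Subgroup
open scoped commutatorElement

variable {S : Type*} [Group S] [Finite S]

/-- No fixed class. -/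
def Fpf (P Φ : ℕ → Subgroup S) (a : S) (i : ℕ) : Prop :=
  ∀ u : USect P Φ i, op P Φ i a u = u → u = 0

variable {P Φ : ℕ → Subgroup S} {G : Subgroup S} {a : S} {T : ℕ} {R : ℕ → Subgroup S} {p : ℕ → ℕ}
  {r : ℕ} (tw : Tower G a T P Φ R p) (hA : Ambient G a r)

include tw

theorem Tower.opSum_eq_zero {i : ℕ} (hi : i < T) (u : USect P Φ (i + 1)) :
    opSum P Φ (i + 1) (P i) u = 0 := by
  classical
  let _ := Fintype.ofFinite S
  have hM : P i ≤ Mid P Φ (i + 1) := fun g hg => tw.mem_Mid (by omega) hi hg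
  have hkill : ∀ g ∈ P i, ∀ w, opSum P Φ (i + 1) (P i) (op P Φ (i + 1) g w) =
      opSum P Φ (i + 1) (P i) w := fun g hg w => by
    rw [← op_opSum_comm hM (hM hg) (le_normalizer hg)]
    exact op_opSum_apply hM hg w
  let K : Subgroup S :=
    { carrier := {c | c ∈ P (i + 1) ∧ opSum P Φ (i + 1) (P i) (cl P Φ (i + 1) c) = 0}
      one_mem' := ⟨one_mem _, by
        rw [(tw.cl_eq_zero (i := i + 1) hi (one_mem _)).2 (one_mem _), map_zero]⟩
      mul_mem' := fun {c d} ⟨hc, hc'⟩ ⟨hd, hd'⟩ => ⟨mul_mem hc hd, by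
        rw [tw.cl_mul (i := i + 1) hi hc hd, map_add, hc', hd', add_zero]⟩
      inv_mem' := fun {c} ⟨hc, hc'⟩ => ⟨inv_mem hc, by
        rw [tw.cl_inv (i := i + 1) hi hc, map_neg, hc', neg_zero]⟩ }
  have hle : P (i + 1) ≤ K := by
    conv_lhs => rw [← tw.perfect i hi]
    refine commutator_le.2 fun y hy x hx => ?_
    rw [← commutatorElement_inv]
    have hc : ⁅x, y⁆ ∈ P (i + 1) :=
      mul_mem ((mem_normalizer_iff.1 (hM hx).1 y).1 hy) (inv_mem hy)
    refine inv_mem ⟨hc, ?_⟩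
    rw [← tw.op_sub (i := i + 1) hi (hM hx) hy, map_sub, hkill x hx, sub_self]
  obtain ⟨c, hc, rfl⟩ := tw.cl_surjective (i := i + 1) hi u
  exact (hle hc).2

theorem Tower.eq_zero_of_fixed_all {i : ℕ} (hi : i < T) {u : USect P Φ (i + 1)}
    (h : ∀ x ∈ P i, op P Φ (i + 1) x u = u) : u = 0 :=
  tw.nsmul_eq_zero (i := i + 1) hi (tw.not_dvd_card hi le_rfl)
    (by rw [← opSum_of_fixed (P := P) (Φ := Φ) (P i) h, tw.opSum_eq_zero hi])

include hA

/-- Without fixed classes the group is `[P_i, a] R_i`. -/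
theorem Tower.cover {i : ℕ} (hi : i ≤ T) (h : Fpf P Φ a i) : P i ≤ difSub (P i) a ⊔ R i := by
  have hPa : ∀ x ∈ P i, a * x * a⁻¹ ∈ P i := fun x hx => (mem_normalizer_iff.1 (tw.inv i hi) x).1 hx
  refine tw.gen i hi _ (sup_le (difSub_le hPa) ((tw.R_le i hi).trans (tw.Φ_le i hi))) le_sup_right ?_
  exact le_of_difSub_le hA.hr hA.a_pow (tw.prime i hi) (tw.rp (hA := hA) hi) (tw.pgroup i hi) hPa _
    (le_sup_left.trans le_sup_left) fun x hx hxa =>
      mem_sup_right ((tw.cl_eq_zero hi hx).1 (h _ (tw.op_a_cl hi hx hxa)))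

theorem Tower.eq_zero_of_fixed_difSub {i : ℕ} (hi : i < T) (h : Fpf P Φ a i)
    {u : USect P Φ (i + 1)} (hu : ∀ n ∈ difSub (P i) a, op P Φ (i + 1) n u = u) : u = 0 := by
  refine tw.eq_zero_of_fixed_all hi fun x hx => ?_
  suffices hle : difSub (P i) a ⊔ R i ≤ stabU P Φ (i + 1) u from (hle (tw.cover hA hi.le h hx)).2
  refine sup_le (fun n hn => ⟨tw.mem_Mid (by omega) hi (tw.difSub_le' hi.le hn), hu n hn⟩)
    fun n hn => ⟨tw.mem_Mid (by omega) hi (tw.Φ_le i hi.le (tw.R_le i hi.le hn)), ?_⟩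
  rw [tw.central_op hi hn]
  rfl

section Rep

variable {j : ℕ} (hj : j < T) (hfpf : Fpf P Φ a j) {k : Type*} [Field k] [IsAlgClosed k] {E : Type*}
  [AddCommGroup E] [Module k E] [FiniteDimensional k E]
  {Lm : AddMonoid.End (USect P Φ (j + 1)) →+* Module.End k E} (hLm : Function.Injective Lm)
  (hk : ∀ n : ℕ, ¬ p (j + 1) ∣ n → (n : k) ≠ 0)

include hj hfpf hLm hk

theorem Tower.moved {f : ↥(Lev P Φ j) → k}
    (hf : IsWt (repOf P Φ j Lm) ((P j).subgroupOf (Lev P Φ j)) f) :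
    Moved ((P j).subgroupOf (Lev P Φ j)) (toLev P Φ j (tw.a_mem_Lev hj)) f := by
  classical
  let _ := Fintype.ofFinite S
  by_contra hm
  unfold Moved at hm
  push Not at hm
  obtain ⟨v, hv, hv0⟩ := (Submodule.ne_bot_iff _).1 hf.wsp_ne_bot
  let H : Subgroup ↥(Lev P Φ j) :=
    { carrier := {g | repOf P Φ j Lm g v = v}
      one_mem' := by show repOf P Φ j Lm 1 v = v; rw [map_one, Module.End.one_apply]
      mul_mem' := fun {g h} hg hh => by
        show repOf P Φ j Lm (g * h) v = v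
        rw [rho_mul_apply, show repOf P Φ j Lm h v = v from hh, hg]
      inv_mem' := fun {g} hg => by
        show repOf P Φ j Lm g⁻¹ v = v
        conv_lhs => rw [← show repOf P Φ j Lm g v = v from hg, rho_inv_apply] }
  have hle : P j ≤ H.map (Lev P Φ j).subtype := by
    refine (tw.cover hA hj.le hfpf).trans (sup_le ((closure_le _).2 ?_) fun x hx => ?_)
    · rintro _ ⟨g, hg, rfl⟩
      refine ⟨dif (toLev P Φ j (tw.a_mem_Lev hj)) (toLev P Φ j (tw.mem_Lev le_rfl hj hg)), ?_, rfl⟩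
      have h1 := hm (toLev P Φ j (tw.mem_Lev le_rfl hj hg)) hg
      show repOf P Φ j Lm _ v = v
      rw [hv _ (by rw [h1]; exact one_ne_zero), h1, one_smul]
    · have hxP := tw.Φ_le j hj.le (tw.R_le j hj.le hx)
      refine ⟨toLev P Φ j (tw.mem_Lev le_rfl hj hxP), ?_, rfl⟩
      show repOf P Φ j Lm _ v = v
      rw [(tw.rep_eq_one_iff hA hj hLm (x := toLev P Φ j (tw.mem_Lev le_rfl hj hxP)) hxP).2 hx]
      rfl
  have h0 : Lm (opSum P Φ (j + 1) (P j)) v = 0 := by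
    rw [show opSum P Φ (j + 1) (P j) = 0 from AddMonoidHom.ext (tw.opSum_eq_zero hj), map_zero]
    rfl
  rw [opSum, map_sum, LinearMap.sum_apply, Finset.sum_congr rfl (fun n hn => show
    Lm (op P Φ (j + 1) n) v = v by
      obtain ⟨g, hg, rfl⟩ := hle (Finset.mem_filter.1 hn).2
      exact hg), Finset.sum_const, ← Nat.cast_smul_eq_nsmul k, smul_eq_zero] at h0
  refine hv0 (h0.resolve_left ?_)
  have := tw.natCast_card_ne hA hj hk (X := P j) le_rfl
  rwa [Nat.card_eq_fintype_card, Fintype.card_subtype] at this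

theorem Tower.le_orth {f : ↥(Lev P Φ j) → k}
    (hf : IsWt (repOf P Φ j Lm) ((P j).subgroupOf (Lev P Φ j)) f)
    (ha : tr (toLev P Φ j (tw.a_mem_Lev hj)) f = f) :
    (P j).subgroupOf (Lev P Φ j) ≤ orth (tw.layerData hA hj hLm hk).act hf := by
  have hl := tw.layerData hA hj hLm hk
  intro x hx
  have hle : P j ≤ (orth hl.act hf).map (Lev P Φ j).subtype := by
    refine (tw.cover hA hj.le hfpf).trans (sup_le ((closure_le _).2 ?_) fun y hy => ?_)
    · rintro _ ⟨g, hg, rfl⟩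
      exact ⟨dif (toLev P Φ j (tw.a_mem_Lev hj)) (toLev P Φ j (tw.mem_Lev le_rfl hj hg)),
        dif_mem_orth hl.act hf ha (g := toLev P Φ j (tw.mem_Lev le_rfl hj hg)) hg, rfl⟩
    · have hyP := tw.Φ_le j hj.le (tw.R_le j hj.le hy)
      exact ⟨toLev P Φ j (tw.mem_Lev le_rfl hj hyP),
        mem_orth_of_ne_zero hl.act hf ha (hl.ne_zero_of_mem hf (tw.R_le j hj.le hy)), rfl⟩
  obtain ⟨y, hy, he⟩ := hle hx
  exact (Subtype.ext he : y = x) ▸ hy

omit hfpf in
theorem Tower.exists_wt :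
    ∃ f, IsWt (repOf P Φ j Lm) ((P j).subgroupOf (Lev P Φ j)) f := by
  have hl := tw.layerData hA hj hLm hk
  by_contra h
  push Not at h
  obtain ⟨x, hx, hne⟩ := hl.faithful
  exact hne (rho_eq_one hl.act.classTwo (natCard_P_ne_zero hl.act) fun f hf => absurd hf (h f))

/-- A fixed weight is determined by the fixed elements of the Frattini part. -/
theorem Tower.exists_fixed_ne {f f' : ↥(Lev P Φ j) → k}
    (hf : IsWt (repOf P Φ j Lm) ((P j).subgroupOf (Lev P Φ j)) f)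
    (hf' : IsWt (repOf P Φ j Lm) ((P j).subgroupOf (Lev P Φ j)) f')
    (ha : tr (toLev P Φ j (tw.a_mem_Lev hj)) f = f)
    (ha' : tr (toLev P Φ j (tw.a_mem_Lev hj)) f' = f') (hne : f ≠ f') :
    ∃ z : ↥(Lev P Φ j), (z : S) ∈ Φ j ∧ Commute (z : S) a ∧ f z ≠ f' z := by
  have hl := tw.layerData hA hj hLm hk
  set a' := toLev P Φ j (tw.a_mem_Lev hj) with ha''
  by_contra hcon
  push Not at hcon
  refine hne ?_
  set Φ' := (Φ j).subgroupOf (Lev P Φ j)
  set P' := (P j).subgroupOf (Lev P Φ j)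
  have hr := hl.act.hr
  have hap := hl.act.a_pow
  -- agreement on the differences
  have hdif : ∀ (h : ↥(Lev P Φ j) → k), IsWt (repOf P Φ j Lm) P' h → tr a' h = h →
      ∀ g ∈ P', h (dif a' g) ≠ 0 → h (dif a' g) = 1 :=
    fun h hh hha g hg h0 => map_dif_eq_one hl.act hh hha hg h0
  -- agreement on `Φ`
  have hΦ : ∀ x ∈ Φ', f x = f' x := by
    let H : Subgroup ↥(Lev P Φ j) :=
      { carrier := {x | x ∈ Φ' ∧ f x = f' x}
        one_mem' := ⟨one_mem _, by rw [hf.map_one, hf'.map_one]⟩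
        mul_mem' := fun {x y} ⟨hx, hx'⟩ ⟨hy, hy'⟩ => ⟨mul_mem hx hy, by
          rw [hf.map_mul (hl.ne_zero_of_mem hf hx), hf'.map_mul (hl.ne_zero_of_mem hf' hx), hx', hy']⟩
        inv_mem' := fun {x} ⟨hx, hx'⟩ => ⟨inv_mem hx, by
          rw [hf.map_inv (hl.ne_zero_of_mem hf hx), hf'.map_inv (hl.ne_zero_of_mem hf' hx), hx']⟩ }
    have hΦa : ∀ x ∈ Φ', a' * x * a'⁻¹ ∈ Φ' := fun x hx =>
      Subgroup.Normal.conj_mem inferInstance x hx a'
    have hle : Φ' ≤ H := le_of_difSub_le hr hap hl.act.hp hl.act.rp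
      (hl.act.pgroup.to_le hl.le) hΦa H ((closure_le _).2 (by
        rintro _ ⟨g, hg, rfl⟩
        have hd : dif a' g ∈ Φ' := mul_mem (inv_mem hg) (hΦa g hg)
        exact ⟨hd, by rw [hdif f hf ha g (hl.le hg) (hl.ne_zero_of_mem hf hd),
          hdif f' hf' ha' g (hl.le hg) (hl.ne_zero_of_mem hf' hd)]⟩))
      fun x hx hxa => ⟨hx, hcon x hx (congrArg Subtype.val hxa.eq)⟩
    exact fun x hx => (hle hx).2
  -- the centres agree
  have hZ : ∀ x, f x ≠ 0 ↔ f' x ≠ 0 := fun x => by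
    rw [hf.ne_zero_iff, hf'.ne_zero_iff]
    refine and_congr_right fun hx => forall₂_congr fun y hy => ?_
    rw [hΦ ⁅x, y⁆ (hl.comm_mem x hx y hy)]
  have hza : ∀ x ∈ zSub hf, a' * x * a'⁻¹ ∈ zSub hf := fun x hx => by
    show f (a' * x * a'⁻¹) ≠ 0
    rw [map_conj_a hl.act hf ha]
    exact hx
  let H : Subgroup ↥(Lev P Φ j) :=
    { carrier := {x | f x ≠ 0 ∧ f x = f' x}
      one_mem' := ⟨by rw [hf.map_one]; exact one_ne_zero, by rw [hf.map_one, hf'.map_one]⟩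
      mul_mem' := fun {x y} ⟨hx, hx'⟩ ⟨hy, hy'⟩ => ⟨by
        rw [hf.map_mul hx]; exact mul_ne_zero hx hy, by
        rw [hf.map_mul hx, hf'.map_mul ((hZ x).1 hx), hx', hy']⟩
      inv_mem' := fun {x} ⟨hx, hx'⟩ => ⟨by rw [hf.map_inv hx]; exact inv_ne_zero hx, by
        rw [hf.map_inv hx, hf'.map_inv ((hZ x).1 hx), hx']⟩ }
  have hle : zSub hf ≤ H := by
    refine le_of_difSub_le hr hap hl.act.hp hl.act.rp (hl.act.pgroup.to_le fun x hx =>
      hf.mem_of_ne_zero hx) hza H ((closure_le _).2 ?_) fun x hx hxa => ?_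
    · rintro _ ⟨g, hg, rfl⟩
      have hd : dif a' g ∈ zSub hf := mul_mem (inv_mem hg) (hza g hg)
      refine ⟨hd, ?_⟩
      rw [hdif f hf ha g (hf.mem_of_ne_zero hg) hd,
        hdif f' hf' ha' g (hf.mem_of_ne_zero hg) ((hZ _).1 hd)]
    · have hxP : x ∈ P' := hf.mem_of_ne_zero hx
      have hxΦ : (x : S) ∈ Φ j :=
        (tw.cl_eq_zero hj.le hxP).1 (hfpf _ (tw.op_a_cl hj.le hxP (congrArg Subtype.val hxa.eq)))
      exact ⟨hx, hΦ x hxΦ⟩
  funext x
  by_cases hx : f x = 0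
  · rw [hx, eq_comm]
    by_contra h
    exact (hZ x).2 h hx
  · exact (hle hx).2

/-- A weight moved by a lower fixed element gives an element of the layer. -/
theorem Tower.exists_comm_ne_one {f : ↥(Lev P Φ j) → k}
    (hf : IsWt (repOf P Φ j Lm) ((P j).subgroupOf (Lev P Φ j)) f)
    (ha : tr (toLev P Φ j (tw.a_mem_Lev hj)) f = f) {t : ↥(Lev P Φ j)} (hta : Commute (t : S) a)
    (hne : tr t f ≠ f) :
    ∃ z : ↥(Lev P Φ j), (z : S) ∈ Φ j ∧ Commute (z : S) a ∧ f ⁅z, t⁻¹⁆ ≠ 1 := by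
  have hl := tw.layerData hA hj hLm hk
  have hta' : Commute t (toLev P Φ j (tw.a_mem_Lev hj)) := Subtype.ext hta.eq
  have ha' : tr (toLev P Φ j (tw.a_mem_Lev hj)) (tr t f) = tr t f := by
    rw [tr_tr, ← hta'.eq, ← tr_tr, ha]
  obtain ⟨z, hz, hza, hzne⟩ := tw.exists_fixed_ne hA hj hfpf hLm hk hf (hf.translate t) ha ha'
    (Ne.symm hne)
  refine ⟨z⁻¹, inv_mem hz, hza.inv_left, fun h => hzne ?_⟩
  have hz0 := hl.ne_zero_of_mem hf (z := z) hz
  rw [show ⁅z⁻¹, t⁻¹⁆ = z⁻¹ * (t⁻¹ * z * t) by simp only [commutatorElement_def]; group,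
    hf.map_mul (by rw [hf.map_inv hz0]; exact inv_ne_zero hz0), hf.map_inv hz0] at h
  exact (eq_of_inv_mul_eq_one h : _)

omit hfpf in
/-- An element with a scalar different from one on a fixed vector is not quiet. -/
theorem Tower.not_quiet_of_wt {f : ↥(Lev P Φ j) → k}
    (hf : IsWt (repOf P Φ j Lm) ((P j).subgroupOf (Lev P Φ j)) f)
    (hm : Moved ((P j).subgroupOf (Lev P Φ j)) (toLev P Φ j (tw.a_mem_Lev hj)) f)
    {v : E} (hv : v ∈ wsp (repOf P Φ j Lm) f)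
    (hav : repOf P Φ j Lm (toLev P Φ j (tw.a_mem_Lev hj)) v = v) (hv0 : v ≠ 0) {x : ↥(Lev P Φ j)}
    (hx0 : f x ≠ 0) (hx1 : f x ≠ 1) : ¬ QuietEl P Φ a j (x : S) := by
  intro hq
  have h := tw.quiet_of_quietEl hA hj hLm hk hq v (wsp_le_movedSpace hf hm hv) hav
  rw [hv x hx0] at h
  exact hx1 (smul_left_injective k hv0 (h.trans (one_smul k v).symm))

end Rep

end Cfsg.Agent.TurullHeight
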