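import Cfsg.Agent.Lib.TurullHeight.Pivot

/-!
# The pivot

If a group `Y` below a layer without fixed classes fixes all fixed classes of the next section, then
either it is trivial on the layer, or it inverts some weight, which is then moved by the group below
`Y`, and this gives a non-quiet commutator in the layer.
-/

set_option autoImplicit false

namespace Cfsg.Agent.TurullHeight

open Subgroup
open scoped commutatorElement

variable {S : Type*} [Group S] [Finite S] {P Φ : ℕ → Subgroup S} {G : Subgroup S} {a : S} {T : ℕ}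
  {R : ℕ → Subgroup S} {p : ℕ → ℕ} {r : ℕ} (tw : Tower G a T P Φ R p) (hA : Ambient G a r)

include tw hA

/-- Two consecutive layers without fixed classes. -/
theorem Tower.pTwo {j : ℕ} (hj : j < T) (h0 : Fpf P Φ a j) (h1 : Fpf P Φ a (j + 1)) : p j = 2 := by
  obtain ⟨d, hfact, Lm, hLm, hk⟩ := tw.exists_rep hA hj
  have hl := tw.layerData hA hj hLm hk
  obtain ⟨f, hf⟩ := tw.exists_wt hA hj hLm hk
  have hnf := fun v hv => tw.rep_no_fixed hA hj hk (Lm := Lm) h1 (v := v) hv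
  have ha : tr (toLev P Φ j (tw.a_mem_Lev hj)) f = f := by
    by_contra hne
    obtain ⟨v, hv, hv0⟩ := exists_fixed_of_tr_ne hl hf hne
    exact hv0 (by rw [hnf v hv, map_zero])
  exact (no_fixed hl.act hf ha (tw.moved hA hj h0 hLm hk hf) fun v _ hv => hnf v hv).1

/-- Without fixed classes on both sides, the group below gives a non-trivial element of the
layer. -/
theorem Tower.exists_outside {m : ℕ} (hj : m + 1 < T) (h0 : Fpf P Φ a (m + 1))
    (h1 : Fpf P Φ a (m + 1 + 1)) (hlow : ∀ i < m + 1, ∀ x ∈ P i, Commute x a) :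
    ∃ z ∈ Φ (m + 1), Commute z a ∧ ∃ t ∈ P m, ⁅z, t⁆ ∉ R (m + 1) := by
  obtain ⟨d, hfact, Lm, hLm, hk⟩ := tw.exists_rep hA (j := m + 1) hj
  have hl := tw.layerData hA hj hLm hk
  set a' := toLev P Φ (m + 1) (tw.a_mem_Lev hj) with ha'
  set P' := (P (m + 1)).subgroupOf (Lev P Φ (m + 1))
  set Φ' := (Φ (m + 1)).subgroupOf (Lev P Φ (m + 1))
  have hmv : ∀ f, IsWt (repOf P Φ (m + 1) Lm) P' f → Moved P' a' f :=
    fun f hf => tw.moved hA hj h0 hLm hk hf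
  have hor := fun f (hf : IsWt (repOf P Φ (m + 1) Lm) P' f) (ha : tr a' f = f) =>
    tw.le_orth hA hj h0 hLm hk hf ha
  have hnf := fun v hv => tw.rep_no_fixed hA hj hk (Lm := Lm) h1 (v := v) hv
  have hfix : ∀ f, IsWt (repOf P Φ (m + 1) Lm) P' f → tr a' f = f := fun f hf => by
    by_contra hne
    obtain ⟨v, hv, hv0⟩ := exists_fixed_of_tr_ne hl hf hne
    exact hv0 (by rw [hnf v hv, map_zero])
  have hLe : ∀ x ∈ P m, x ∈ Lev P Φ (m + 1) := fun x hx => tw.mem_Lev (by omega) hj hx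
  by_contra hcon
  push Not at hcon
  -- all weights are fixed by the group below
  have hst : ∀ f, IsWt (repOf P Φ (m + 1) Lm) P' f → ∀ t : ↥(Lev P Φ (m + 1)), (t : S) ∈ P m →
      tr t f = f := by
    intro f hf t ht
    by_contra hne
    have hta := hlow m (by omega) _ ht
    obtain ⟨z, hz, hza, h⟩ := tw.exists_comm_ne_one hA hj h0 hLm hk hf (hfix f hf) hta hne
    have hR : ((⁅z, t⁻¹⁆ : ↥(Lev P Φ (m + 1))) : S) ∈ R (m + 1) := hcon _ hz hza _ (inv_mem ht)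
    have hRP := tw.Φ_le _ hj.le (tw.R_le _ hj.le hR)
    exact h (eq_one_of_rho_eq_one hl.act hf (x := ⁅z, t⁻¹⁆) hRP
      ((tw.rep_eq_one_iff hA hj hLm (x := ⁅z, t⁻¹⁆) hRP).2 hR))
  refine tw.Φ_ne (m + 1) hj.le ?_
  conv_lhs => rw [← tw.perfect m (by omega)]
  refine commutator_le.2 fun g hg t ht => ?_
  rw [← commutatorElement_inv]
  refine inv_mem ?_
  set t' := toLev P Φ (m + 1) (hLe t ht)
  set g' := toLev P Φ (m + 1) (tw.mem_Lev le_rfl hj hg)
  have hgP : g' ∈ P' := hg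
  have hc : ⁅t', g'⁆ ∈ P' := tw.commutator_mem_P (by omega) hj.le ht hg
  have htr : ¬ r ∣ orderOf t' := by
    intro hd
    obtain ⟨e, he⟩ := tw.pgroup m (by omega) ⟨t, ht⟩
    have h1 : r ∣ p m ^ e := hd.trans (orderOf_dvd_of_pow_eq_one
      (Subtype.ext (show t ^ (p m ^ e) = 1 by simpa using congrArg Subtype.val he)))
    exact tw.rp (hA := hA) (i := m) (by omega)
      ((Nat.prime_dvd_prime_iff_eq hA.hr (tw.prime m (by omega))).1 (hA.hr.dvd_of_dvd_pow h1))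
  refine mem_of_forall_wts hl hmv (fun x hx y hy => hl.comm_mem x hx y hy) hc fun f hf =>
    ⟨fun _ => ?_, fun hne => absurd (hfix f hf) hne⟩
  have h := (trivial_of_no_fixed' hl hmv hor hnf (y := t') (Subtype.ext (hlow m (by omega) t ht).eq)
    htr hf (hst f hf t' ht) hgP).2
  rw [show ⁅t', g'⁆ = g' * (g'⁻¹ * (t' * g' * t'⁻¹)) * g'⁻¹ by
    simp only [commutatorElement_def]; group, hf.map_conj hgP]
  exact h

section Rep

variable {j : ℕ} (hj : j < T) (hfpf : Fpf P Φ a j) {k : Type*} [Field k] [IsAlgClosed k] {E : Type*}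
  [AddCommGroup E] [Module k E] [FiniteDimensional k E]
  {Lm : AddMonoid.End (USect P Φ (j + 1)) →+* Module.End k E} (hLm : Function.Injective Lm)
  (hk : ∀ n : ℕ, ¬ p (j + 1) ∣ n → (n : k) ≠ 0)

include hj hfpf hLm hk

/-- An inverted weight is moved by the group below. -/
theorem Tower.not_quiet_of_bad {m l : ℕ} (hm : m ≤ j) (hl' : l ≤ j) (hpm : p m ≠ p j)
    {Y T0 : Subgroup S} (hY : Y ≤ P m) (hYa : ∀ y ∈ Y, Commute y a) (hT : T0 ≤ P l)
    (hTa : ∀ t ∈ T0, Commute t a) (hTY : T0 ≤ normalizer (Y : Set S)) (hYc : Y ≤ ⁅Y, T0⁆)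
    (hq : ∀ y ∈ Y, ∀ u, op P Φ (j + 1) a u = u → op P Φ (j + 1) y u = u)
    {f : ↥(Lev P Φ j) → k} (hf : IsWt (repOf P Φ j Lm) ((P j).subgroupOf (Lev P Φ j)) f)
    (ha : tr (toLev P Φ j (tw.a_mem_Lev hj)) f = f) {v₀ : E}
    (hv₀ : v₀ ∈ wsp (repOf P Φ j Lm) f)
    (hav₀ : repOf P Φ j Lm (toLev P Φ j (tw.a_mem_Lev hj)) v₀ = v₀) (hv₀0 : v₀ ≠ 0)
    {y₀ : ↥(Lev P Φ j)} (hy₀ : (y₀ : S) ∈ Y) {x₀ : ↥(Lev P Φ j)} (hx₀ : (x₀ : S) ∈ P j)
    (hbad : f (x₀⁻¹ * (y₀ * x₀ * y₀⁻¹)) = 0) :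
    ∃ z ∈ Φ j, Commute z a ∧ ∃ t ∈ T0, ¬ QuietEl P Φ a j ⁅z, t⁆ := by
  have hl := tw.layerData hA hj hLm hk
  set a' := toLev P Φ j (tw.a_mem_Lev hj) with ha'
  set P' := (P j).subgroupOf (Lev P Φ j) with hP'
  have hn : P'.Normal := inferInstance
  have hmv : ∀ f, IsWt (repOf P Φ j Lm) P' f → Moved P' a' f :=
    fun f hf => tw.moved hA hj hfpf hLm hk hf
  have hor := fun f (hf : IsWt (repOf P Φ j Lm) P' f) (ha : tr a' f = f) =>
    tw.le_orth hA hj hfpf hLm hk hf ha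
  by_contra hcon
  push Not at hcon
  -- the group below fixes the weight
  have hst : ∀ t : ↥(Lev P Φ j), (t : S) ∈ T0 → tr t f = f := by
    intro t ht
    by_contra hne
    obtain ⟨z, hz, hza, h⟩ := tw.exists_comm_ne_one hA hj hfpf hLm hk hf ha (hTa _ ht) hne
    have hc : ⁅z, t⁻¹⁆ ∈ (Φ j).subgroupOf (Lev P Φ j) := by
      rw [show ⁅z, t⁻¹⁆ = z * (t⁻¹ * z⁻¹ * t⁻¹⁻¹) by simp only [commutatorElement_def]; group]
      exact mul_mem hz ((inferInstance : ((Φ j).subgroupOf (Lev P Φ j)).Normal).conj_mem _ (inv_mem hz) _)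
    exact tw.not_quiet_of_wt hA hj hLm hk hf (hmv f hf) hv₀ hav₀ hv₀0 (hl.ne_zero_of_mem hf hc) h
      (hcon _ hz hza _ (inv_mem ht))
  have hYL : ∀ y ∈ Y, y ∈ Lev P Φ j := fun y hy => tw.mem_Lev hm hj (hY hy)
  have hTL : ∀ t ∈ T0, t ∈ Lev P Φ j := fun t ht => tw.mem_Lev hl' hj (hT ht)
  let Tr1 : ↥(Lev P Φ j) → Prop := fun y => ∀ x ∈ P', f (x⁻¹ * (y * x * y⁻¹)) ≠ 0
  let Inv1 : ↥(Lev P Φ j) → Prop := fun y => ∀ x ∈ P', f (x * (y * x * y⁻¹)) ≠ 0
  have hzmul : ∀ {u v}, f u ≠ 0 → f v ≠ 0 → f (u * v) ≠ 0 := fun {u v} hu hv => by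
    rw [hf.map_mul hu]; exact mul_ne_zero hu hv
  have hzinv : ∀ {u}, f u ≠ 0 → f u⁻¹ ≠ 0 := fun {u} hu => by
    rw [hf.map_inv hu]; exact inv_ne_zero hu
  have hzconj : ∀ {g u}, g ∈ P' → f u ≠ 0 → f (g * u * g⁻¹) ≠ 0 := fun {g u} hg hu => by
    rwa [hf.map_conj hg]
  have hdich : ∀ y : ↥(Lev P Φ j), (y : S) ∈ Y → tr y f = f ∧ (Tr1 y ∨ Inv1 y) := by
    intro y hy
    obtain ⟨e, he⟩ := tw.pgroup m (hm.trans hj.le) ⟨y, hY hy⟩
    obtain ⟨h1, h2⟩ := trivial_or_inv_of_quiet hl hmv hor (y := y) (Subtype.ext (hYa _ hy).eq)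
      (fun v hv => tw.rep_fixes hA hj hk (fun u hu => hq _ hy u hu) hv) (tw.prime m (hm.trans hj.le))
      (tw.rp (hA := hA) (i := m) (hm.trans hj.le)).symm hpm (e := e)
      (Subtype.ext (by simpa using congrArg Subtype.val he)) hf ha hv₀ hav₀ hv₀0
    exact ⟨h1, h2.imp id fun h => h.2⟩
  have hyinv : ∀ y, Tr1 y ∨ Inv1 y → (Tr1 y → Tr1 y⁻¹) ∧ (Inv1 y → Inv1 y⁻¹) := by
    intro y _
    refine ⟨fun h x hx => ?_, fun h x hx => ?_⟩
    · have hx1 : y⁻¹ * x * y ∈ P' := by simpa using hn.conj_mem x hx y⁻¹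
      have h1 := hzinv (h _ hx1)
      convert h1 using 2
      group
    · have hx1 : y⁻¹ * x * y ∈ P' := by simpa using hn.conj_mem x hx y⁻¹
      have h1 := hzconj hx (h _ hx1)
      convert h1 using 2
      group
  have hconjT : ∀ (t y : ↥(Lev P Φ j)), (t : S) ∈ T0 →
      (Tr1 y → Tr1 (t * y * t⁻¹)) ∧ (Inv1 y → Inv1 (t * y * t⁻¹)) := by
    intro t y ht
    refine ⟨fun h x hx => ?_, fun h x hx => ?_⟩ <;>
    · have hx1 : t⁻¹ * x * t ∈ P' := by simpa using hn.conj_mem x hx t⁻¹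
      have h1 := h _ hx1
      rw [← congrFun (hst t ht)]
      show f (t⁻¹ * _ * t) ≠ 0
      convert h1 using 2
      group
  have hcomm : ∀ y t : ↥(Lev P Φ j), (y : S) ∈ Y → (t : S) ∈ T0 → Tr1 ⁅y, t⁆ := by
    intro y t hy ht x hx
    rw [show ⁅y, t⁆ = y * (t * y⁻¹ * t⁻¹) by simp only [commutatorElement_def]; group]
    set y1 := t * y⁻¹ * t⁻¹ with hy1
    have hw : y1 * x * y1⁻¹ ∈ P' := hn.conj_mem x hx y1
    rcases (hdich y hy).2 with h | h
    · have h1 := (hconjT t _ ht).1 ((hyinv y (Or.inl h)).1 h) x hx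
      have h2 := h _ hw
      convert hzmul h1 h2 using 2
      simp only [hy1]
      group
    · have h1 := (hconjT t _ ht).2 ((hyinv y (Or.inr h)).2 h) x hx
      have h2 := h _ hw
      have h3 := hzinv (hzconj (inv_mem hx) h1)
      convert hzmul h3 h2 using 2
      simp only [hy1]
      group
  let H : Subgroup S :=
    { carrier := {g | ∃ hg : g ∈ Lev P Φ j, Tr1 (toLev P Φ j hg)}
      one_mem' := ⟨one_mem _, fun x _ => by
        rw [show toLev P Φ j (one_mem (Lev P Φ j)) = 1 from rfl, one_mul, inv_one, mul_one,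
          inv_mul_cancel, hf.map_one]
        exact one_ne_zero⟩
      mul_mem' := fun {g h} ⟨hg, hg'⟩ ⟨hh, hh'⟩ => ⟨mul_mem hg hh, fun x hx => by
        have hw : toLev P Φ j hh * x * (toLev P Φ j hh)⁻¹ ∈ P' := hn.conj_mem x hx _
        rw [show toLev P Φ j (mul_mem hg hh) = toLev P Φ j hg * toLev P Φ j hh from rfl]
        convert hzmul (hh' x hx) (hg' _ hw) using 2
        group⟩
      inv_mem' := fun {g} ⟨hg, hg'⟩ => ⟨inv_mem hg, (hyinv _ (Or.inl hg')).1 hg'⟩ }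
  have hle : Y ≤ H := hYc.trans (commutator_le.2 fun y hy t ht =>
    ⟨mul_mem (mul_mem (mul_mem (hYL y hy) (hTL t ht)) (inv_mem (hYL y hy))) (inv_mem (hTL t ht)),
      hcomm (toLev P Φ j (hYL y hy)) (toLev P Φ j (hTL t ht)) hy ht⟩)
  exact (hle hy₀).2 x₀ hx₀ hbad

end Rep

/-- The pivot on the first moved layer. -/
theorem Tower.pivot_low {m : ℕ} (hj : m + 2 < T) (h0 : Fpf P Φ a (m + 2))
    (hlow : ∀ i < m + 2, ∀ x ∈ P i, Commute x a) {u₀ : USect P Φ (m + 2 + 1)}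
    (hu₀ : op P Φ (m + 2 + 1) a u₀ = u₀) (hu₀0 : u₀ ≠ 0)
    (hq : ∀ y ∈ P (m + 1), ∀ u, op P Φ (m + 2 + 1) a u = u → op P Φ (m + 2 + 1) y u = u) :
    ∃ z ∈ Φ (m + 2), Commute z a ∧ ∃ t ∈ P m, ¬ QuietEl P Φ a (m + 2) ⁅z, t⁆ := by
  obtain ⟨d, hfact, Lm, hLm, hk⟩ := tw.exists_rep hA (j := m + 2) hj
  have hl := tw.layerData hA hj hLm hk
  set a' := toLev P Φ (m + 2) (tw.a_mem_Lev hj) with ha'
  set P' := (P (m + 2)).subgroupOf (Lev P Φ (m + 2))
  set Φ' := (Φ (m + 2)).subgroupOf (Lev P Φ (m + 2))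
  set ρ := repOf P Φ (m + 2) Lm with hρ
  have hmv : ∀ f, IsWt ρ P' f → Moved P' a' f := fun f hf => tw.moved hA hj h0 hLm hk hf
  by_contra hcon
  let Ω : (↥(Lev P Φ (m + 2)) → AlgebraicClosure (ZMod (p (m + 2 + 1)))) → Prop :=
    fun f => ∃ v, ρ a' v = v ∧ proj ρ f v ≠ 0
  set M := interW ρ P' Φ' a' Ω with hM
  have hMle : M ≤ P' := inf_le_left
  have hΩ : ∀ g : ↥(Lev P Φ (m + 2)), Commute g a' → ∀ f, IsWt ρ P' f → Ω f → Ω (tr g f) := by
    rintro g hg f - ⟨v, hv, hv0⟩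
    refine ⟨ρ g v, by rw [← rho_mul_apply, ← hg.eq, rho_mul_apply, hv], fun h => hv0 ?_⟩
    rw [← rho_proj] at h
    rw [← rho_inv_apply ρ g (proj ρ f v), h, map_zero]
  have hnor : ∀ g : ↥(Lev P Φ (m + 2)), Commute g a' →
      (g : S) ∈ normalizer ((M.map (Lev P Φ (m + 2)).subtype : Subgroup S) : Set S) := fun g hg =>
    mem_normalizer_fintype fun x ⟨y, hy, he⟩ => by
      subst he
      exact ⟨g * y * g⁻¹, conj_mem_interW hg (fun f hf h => hΩ g⁻¹ hg.inv_left f hf h) hy, rfl⟩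
  have hirr := tw.irr (m + 2) hj.le (M.map (Lev P Φ (m + 2)).subtype)
    (by rintro _ ⟨y, hy, rfl⟩; exact hMle hy)
    (fun x hx => ⟨toLev P Φ (m + 2) (tw.mem_Lev le_rfl hj (tw.Φ_le _ hj.le hx)),
      le_interW hl Ω hx, rfl⟩)
    (hnor a' (Commute.refl a'))
    (fun i hi g hg => hnor (toLev P Φ (m + 2) (tw.mem_Lev hi.le hj hg)) (Subtype.ext (hlow i hi g hg).eq))
  have hne : ¬ P' ≤ M := by
    intro h
    obtain ⟨v, hv, hv0⟩ := tw.exists_rep_fixed hA hj hLm hk hu₀ hu₀0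
    refine hv0 ?_
    rw [← sum_proj hl.act.classTwo (natCard_P_ne_zero hl.act) v]
    refine Finset.sum_eq_zero fun f hf => ?_
    by_contra h'
    exact not_mem_of_interW_eq hl hmv h (mem_wts.1 hf) ⟨v, hv, h'⟩
  rcases hirr with e | e
  swap
  · refine hne fun x hx => ?_
    obtain ⟨y, hy, he⟩ := (e.ge hx : (x : S) ∈ M.map (Lev P Φ (m + 2)).subtype)
    exact (Subtype.ext he : y = x) ▸ hy
  refine tw.Φ_ne (m + 2) hj.le ?_
  conv_lhs => rw [← tw.perfect (m + 1) (by omega)]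
  refine commutator_le.2 fun g hg y hy => ?_
  rw [← commutatorElement_inv]
  refine inv_mem (e.le ?_)
  set y' := toLev P Φ (m + 2) (tw.mem_Lev (j := m + 1) (by omega) hj hy)
  set g' := toLev P Φ (m + 2) (tw.mem_Lev le_rfl hj hg)
  have hgP : g' ∈ P' := hg
  have hya : Commute y a := hlow (m + 1) (by omega) y hy
  have hc : ⁅y', g'⁆ ∈ P' := tw.commutator_mem_P (i := m + 1) (by omega) hj.le hy hg
  refine ⟨⁅y', g'⁆, mem_interW.2 ⟨hc, fun f hf ⟨v, hv, hvf⟩ => ?_⟩, rfl⟩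
  have hfixy : ∀ w, ρ a' w = w → ρ y' w = w := fun w hw =>
    tw.rep_fixes hA hj hk (fun u hu => hq y hy u hu) hw
  obtain ⟨ee, he⟩ := tw.pgroup (m + 1) (by omega) ⟨y, hy⟩
  have hye : y' ^ (p (m + 1) ^ ee) = 1 := Subtype.ext (by simpa using congrArg Subtype.val he)
  unfold wtSub
  split_ifs with hfa
  · by_contra hzero
    apply hcon
    have hv0 : proj ρ f v ∈ wsp ρ f := proj_mem hf v
    have hav0 : ρ a' (proj ρ f v) = proj ρ f v := by rw [rho_proj, hfa, hv]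
    refine tw.not_quiet_of_bad hA hj h0 hLm hk (m := m + 1) (l := m) (by omega) (by omega)
      (tw.pne (m + 1) (by omega)) le_rfl (fun z hz => hlow (m + 1) (by omega) z hz) le_rfl
      (fun z hz => hlow m (by omega) z hz) (tw.norm (m + 1) m (by omega) (by omega))
      (tw.perfect m (by omega)).ge hq hf hfa hv0 hav0 hvf (y₀ := y') hy (x₀ := g') hg ?_
    by_contra hne0
    refine hzero ?_
    show f ⁅y', g'⁆ ≠ 0
    rw [show ⁅y', g'⁆ = g' * (g'⁻¹ * (y' * g' * y'⁻¹)) * g'⁻¹ by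
      simp only [commutatorElement_def]; group, hf.map_conj hgP]
    exact hne0
  · exact mem_sup_left (map_commutator_eq_one hl hf (fun w hw => fixes_wsp hl (Subtype.ext hya.eq)
      hfixy (tw.prime (m + 1) (by omega)) (tw.rp (hA := hA) (i := m + 1) (by omega)).symm hye hf hfa hw)
      hgP)

/-- The pivot on the layer above. -/
theorem Tower.pivot_high {m l : ℕ} {j : ℕ} (hm : m + 1 = j) (hl' : l ≤ j) (hj : j < T)
    (h0 : Fpf P Φ a j) (h2 : p j ≠ 2) {Y T0 : Subgroup S} (hY : Y ≤ P m)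
    (hYa : ∀ y ∈ Y, Commute y a) (hT : T0 ≤ P l) (hTa : ∀ t ∈ T0, Commute t a)
    (hTY : T0 ≤ normalizer (Y : Set S)) (hYc : Y ≤ ⁅Y, T0⁆) {y₁ : S} (hy₁ : y₁ ∈ Y) {g₁ : S}
    (hg₁ : g₁ ∈ P j) (hne : ⁅y₁, g₁⁆ ∉ Φ j)
    (hq : ∀ y ∈ Y, ∀ u, op P Φ (j + 1) a u = u → op P Φ (j + 1) y u = u) :
    ∃ z ∈ Φ j, Commute z a ∧ ∃ t ∈ T0, ¬ QuietEl P Φ a j ⁅z, t⁆ := by
  obtain ⟨d, hfact, Lm, hLm, hk⟩ := tw.exists_rep hA hj
  have hl := tw.layerData hA hj hLm hk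
  set a' := toLev P Φ j (tw.a_mem_Lev hj) with ha'
  set P' := (P j).subgroupOf (Lev P Φ j)
  set ρ := repOf P Φ j Lm with hρ
  have hmv : ∀ f, IsWt ρ P' f → Moved P' a' f := fun f hf => tw.moved hA hj h0 hLm hk hf
  by_contra hcon
  apply hne
  set y' := toLev P Φ j (tw.mem_Lev (j := m) (by omega) hj (hY hy₁))
  set g' := toLev P Φ j (tw.mem_Lev le_rfl hj hg₁)
  have hgP : g' ∈ P' := hg₁
  have hc : ⁅y', g'⁆ ∈ P' := tw.commutator_mem_P (i := m) (by omega) hj.le (hY hy₁) hg₁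
  refine mem_of_forall_wts hl hmv (fun x hx z hz => hl.comm_mem x hx z hz) hc
    fun f hf => ⟨fun hfa => ?_, fun hfa => ?_⟩
  · obtain ⟨v, hv, hav, hv0⟩ : ∃ v ∈ wsp ρ f, ρ a' v = v ∧ v ≠ 0 := by
      by_contra h
      push Not at h
      exact h2 (no_fixed hl.act hf hfa (hmv f hf) fun v hv hav => h v hv hav).1
    by_contra hzero
    apply hcon
    refine tw.not_quiet_of_bad hA hj h0 hLm hk (m := m) (l := l) (by omega) hl'
      (hm ▸ tw.pne m (by omega)) hY hYa hT hTa hTY hYc hq hf hfa hv hav hv0 (y₀ := y') hy₁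
      (x₀ := g') hg₁ ?_
    by_contra hne0
    apply absurd hzero
    rw [show ⁅y', g'⁆ = g' * (g'⁻¹ * (y' * g' * y'⁻¹)) * g'⁻¹ by
      simp only [commutatorElement_def]; group, hf.map_conj hgP]
    exact hne0
  · obtain ⟨ee, he⟩ := tw.pgroup m (by omega) ⟨y₁, hY hy₁⟩
    exact map_commutator_eq_one hl hf (fun w hw => fixes_wsp hl (y := y')
      (Subtype.ext (hYa _ hy₁).eq)
      (fun x hx => tw.rep_fixes hA hj hk (fun u hu => hq y₁ hy₁ u hu) hx)
      (tw.prime m (by omega)) (tw.rp (hA := hA) (i := m) (by omega)).symm (e := ee)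
      (Subtype.ext (by simpa using congrArg Subtype.val he)) hf hfa hw) hgP

end Cfsg.Agent.TurullHeight
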