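import Cfsg.Agent.Lib.Coprime.Commutator
import Mathlib.GroupTheory.Nilpotent

/-!
# Iterated nilpotent residuals of a subgroup
-/

set_option autoImplicit false

namespace Cfsg.Agent.TurullHeight

open Subgroup
open scoped commutatorElement

variable {S : Type*} [Group S] {T : Type*} [Group T]

/-- The last term of the lower central series. -/
def nilRes (H : Subgroup S) : Subgroup S := ⨅ k, H.lowerCentralSeries k

/-- The iterated nilpotent residual. -/
def resid (H : Subgroup S) : ℕ → Subgroup S
  | 0 => H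
  | j + 1 => nilRes (resid H j)

theorem resid_zero (H : Subgroup S) : resid H 0 = H := rfl

theorem resid_succ (H : Subgroup S) (j : ℕ) : resid H (j + 1) = nilRes (resid H j) := rfl

theorem lcs_mono {X Y : Subgroup S} (h : X ≤ Y) :
    ∀ k, X.lowerCentralSeries k ≤ Y.lowerCentralSeries k
  | 0 => h
  | k + 1 => commutator_mono (lcs_mono h k) h

theorem nilRes_le (H : Subgroup S) : nilRes H ≤ H := iInf_le (fun k => H.lowerCentralSeries k) 0

theorem nilRes_mono {X Y : Subgroup S} (h : X ≤ Y) : nilRes X ≤ nilRes Y :=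
  iInf_mono (lcs_mono h)

theorem resid_mono {X Y : Subgroup S} (h : X ≤ Y) : ∀ j, resid X j ≤ resid Y j
  | 0 => h
  | j + 1 => nilRes_mono (resid_mono h j)

theorem resid_antitone (H : Subgroup S) : Antitone (resid H) :=
  antitone_nat_of_succ_le fun j => nilRes_le _

theorem resid_le (H : Subgroup S) (j : ℕ) : resid H j ≤ H := resid_antitone H (Nat.zero_le j)

variable [Finite S]

theorem exists_nilRes_eq (H : Subgroup S) :
    ∃ k, nilRes H = H.lowerCentralSeries k ∧
      H.lowerCentralSeries (k + 1) = H.lowerCentralSeries k := by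
  classical
  have hex : ∃ c k, Nat.card (H.lowerCentralSeries k) = c := ⟨_, 0, rfl⟩
  obtain ⟨k, hk⟩ := Nat.find_spec hex
  have hmin : ∀ m, H.lowerCentralSeries k ≤ H.lowerCentralSeries m := by
    intro m
    rcases le_total m k with h | h
    · exact H.lowerCentralSeries_antitone h
    · refine (eq_of_le_of_card_ge (H.lowerCentralSeries_antitone h) ?_).ge
      rw [hk]
      exact Nat.find_le ⟨m, rfl⟩
  exact ⟨k, le_antisymm (iInf_le _ k) (le_iInf hmin),
    le_antisymm (H.lowerCentralSeries_antitone k.le_succ) (hmin _)⟩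

theorem commutator_nilRes (H : Subgroup S) : ⁅nilRes H, H⁆ = nilRes H := by
  obtain ⟨k, hk, hk'⟩ := exists_nilRes_eq H
  rw [hk, ← Subgroup.lowerCentralSeries_succ, hk']

theorem resid_commutator (H : Subgroup S) (j : ℕ) :
    ⁅resid H (j + 1), resid H j⁆ = resid H (j + 1) := commutator_nilRes _

/-- A subgroup of `resid H j` reproduced by commutators with it lies one step lower. -/
theorem le_resid_succ {H E : Subgroup S} {j : ℕ} (hE : E ≤ resid H j)
    (h : E ≤ ⁅E, resid H j⁆) : E ≤ resid H (j + 1) := by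
  refine le_iInf fun k => ?_
  induction k with
  | zero => exact hE
  | succ k ih => exact h.trans (commutator_mono ih le_rfl)

theorem map_nilRes (f : S →* T) (H : Subgroup S) : (nilRes H).map f = nilRes (H.map f) := by
  obtain ⟨k, hk, hk'⟩ := exists_nilRes_eq H
  refine le_antisymm (le_iInf fun m => ?_) ?_
  · rw [← map_lowerCentralSeries]
    exact map_mono (iInf_le _ m)
  · refine (iInf_le _ k).trans (le_of_eq ?_)
    rw [hk, map_lowerCentralSeries]

theorem map_resid (f : S →* T) (H : Subgroup S) :
    ∀ j, (resid H j).map f = resid (H.map f) j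
  | 0 => rfl
  | j + 1 => by rw [resid_succ, resid_succ, map_nilRes, map_resid f H j]

theorem conj_mem_resid {H : Subgroup S} {g : S} (hg : ∀ x ∈ H, g * x * g⁻¹ ∈ H) (j : ℕ) {x : S}
    (hx : x ∈ resid H j) : g * x * g⁻¹ ∈ resid H j := by
  have h : H.map (MulAut.conj g).toMonoidHom ≤ H := by
    rintro _ ⟨y, hy, rfl⟩
    exact hg y hy
  refine resid_mono h j ?_
  rw [← map_resid]
  exact ⟨x, hx, rfl⟩

/-- The residual is normal in `H`. -/
theorem le_normalizer_resid (H : Subgroup S) (j : ℕ) :
    H ≤ normalizer (resid H j : Set S) := fun g hg =>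
  mem_normalizer_fintype fun x hx =>
    conj_mem_resid (fun y hy => mul_mem (mul_mem hg hy) (inv_mem hg)) j hx

theorem commutator_mem_resid {H : Subgroup S} {j : ℕ} {c x : S} (hc : c ∈ H) (hx : x ∈ resid H j) :
    ⁅c, x⁆ ∈ resid H j ∧ ⁅x, c⁆ ∈ resid H j := by
  have h : ⁅c, x⁆ ∈ resid H j := by
    rw [commutatorElement_def]
    exact mul_mem ((mem_normalizer_iff.1 (le_normalizer_resid H j hc) x).1 hx) (inv_mem hx)
  exact ⟨h, by rw [← commutatorElement_inv]; exact inv_mem h⟩

/-- Coprime commutators with `resid H j` lie one step lower. -/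
theorem commutator_le_resid_succ {H Q X : Subgroup S} {j : ℕ} (hQ : Q ≤ H) (hX : X ≤ resid H j)
    (hn : X ≤ normalizer (Q : Set S)) (hcop : (Nat.card X).Coprime (Nat.card Q))
    (hs : Group.IsSolvable X ∨ Group.IsSolvable Q) : ⁅Q, X⁆ ≤ resid H (j + 1) := by
  refine le_resid_succ (commutator_le.2 fun c hc x hx => (commutator_mem_resid (hQ hc) (hX hx)).1) ?_
  conv_lhs => rw [← Coprime.commutator_commutator_eq hn hcop hs]
  exact commutator_mono le_rfl hX

/-- A series with nilpotent factors bounds the residuals. -/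
theorem resid_le_series {H : Subgroup S} {n : ℕ} {F : ℕ → Subgroup S} (hn : H ≤ F n)
    (hF : ∀ i < n, ∃ k, (F (i + 1)).lowerCentralSeries k ≤ F i) :
    ∀ j ≤ n, resid H j ≤ F (n - j) := by
  intro j hj
  induction j with
  | zero => exact hn
  | succ j ih =>
    obtain ⟨k, hk⟩ := hF (n - (j + 1)) (by omega)
    rw [show n - (j + 1) + 1 = n - j by omega] at hk
    exact (iInf_le _ k).trans ((lcs_mono (ih (by omega)) k).trans hk)

end Cfsg.Agent.TurullHeight
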