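import Cfsg.Agent.Lib.TurullHeight.Tower

/-!
# The sections of a tower

`U_i = P_i/Φ_i` with the operators `op i g` (trivial unless `g` normalises `P_i` and `Φ_i`), the sums
of operators over subgroups and over the powers of `a`.
-/

set_option autoImplicit false

namespace Cfsg.Agent.TurullHeight

open Subgroup Finset
open scoped commutatorElement

variable {S : Type*} [Group S]

/-- The elements normalising both. -/
def pairNorm (X Y : Subgroup S) : Subgroup S :=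
  normalizer (X : Set S) ⊓ normalizer (Y : Set S)

instance (X Y Z : Subgroup S) : (X.subgroupOf (pairNorm X Y ⊓ Z)).Normal :=
  ⟨fun n hn g => (mem_normalizer_iff.1 g.2.1.1 (n : S)).1 hn⟩

instance (X Y Z : Subgroup S) : (Y.subgroupOf (pairNorm X Y ⊓ Z)).Normal :=
  ⟨fun n hn g => (mem_normalizer_iff.1 g.2.1.2 (n : S)).1 hn⟩

instance (X Y : Subgroup S) : (X.subgroupOf (pairNorm X Y)).Normal :=
  ⟨fun n hn g => (mem_normalizer_iff.1 g.2.1 (n : S)).1 hn⟩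

instance (X Y : Subgroup S) : (Y.subgroupOf (pairNorm X Y)).Normal :=
  ⟨fun n hn g => (mem_normalizer_iff.1 g.2.2 (n : S)).1 hn⟩

variable (P Φ : ℕ → Subgroup S)

/-- The normaliser of a layer. -/
abbrev Mid (i : ℕ) : Subgroup S := pairNorm (P i) (Φ i)

/-- The normaliser of two consecutive layers. -/
abbrev Lev (j : ℕ) : Subgroup S := pairNorm (P j) (Φ j) ⊓ pairNorm (P (j + 1)) (Φ (j + 1))

/-- The section of a layer. -/
abbrev USect (i : ℕ) : Type _ :=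
  Sect ((P i).subgroupOf (Mid P Φ i)) ((Φ i).subgroupOf (Mid P Φ i))

open scoped Classical in
/-- The operator of an element on a section. -/
noncomputable def op (i : ℕ) (g : S) : AddMonoid.End (USect P Φ i) :=
  if h : g ∈ Mid P Φ i then
    sectAct ((Φ i).subgroupOf (Mid P Φ i)) (⟨g, h⟩ : Mid P Φ i) else 1

open scoped Classical in
/-- The sum of the operators of a subgroup. -/
noncomputable def opSum [Finite S] (i : ℕ) (X : Subgroup S) : AddMonoid.End (USect P Φ i) :=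
  letI := Fintype.ofFinite S
  ∑ n ∈ Finset.univ.filter fun n => n ∈ X, op P Φ i n

/-- The sum of the operators of the powers of `a`. -/
noncomputable def opOrb (i : ℕ) (a : S) (r : ℕ) : AddMonoid.End (USect P Φ i) :=
  ∑ t ∈ Finset.range r, op P Φ i (a ^ t)

open scoped Classical in
/-- The class of an element. -/
noncomputable def cl (i : ℕ) (x : S) : USect P Φ i :=
  if h : x ∈ Mid P Φ i ∧ x ∈ P i then
    sect ((Φ i).subgroupOf (Mid P Φ i)) (⟨⟨x, h.1⟩, h.2⟩ : (P i).subgroupOf (Mid P Φ i)) else 0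

variable {P Φ}

theorem op_mem {i : ℕ} {g : S} (h : g ∈ Mid P Φ i) :
    op P Φ i g = sectAct ((Φ i).subgroupOf (Mid P Φ i)) (⟨g, h⟩ : Mid P Φ i) := by
  rw [op, dif_pos h]

theorem op_mul {i : ℕ} {g h : S} (hg : g ∈ Mid P Φ i) (hh : h ∈ Mid P Φ i) :
    op P Φ i (g * h) = op P Φ i g * op P Φ i h := by
  rw [op_mem hg, op_mem hh, op_mem (mul_mem hg hh), ← map_mul]
  rfl

theorem op_one (i : ℕ) : op P Φ i (1 : S) = 1 := by
  rw [op_mem (one_mem _)]
  exact map_one _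

theorem op_pow {i : ℕ} {g : S} (hg : g ∈ Mid P Φ i) : ∀ n : ℕ, op P Φ i (g ^ n) = op P Φ i g ^ n
  | 0 => by rw [pow_zero, pow_zero, op_one]
  | n + 1 => by rw [pow_succ, op_mul (pow_mem hg n) hg, op_pow hg n, pow_succ]

theorem op_mul_apply {i : ℕ} {g h : S} (hg : g ∈ Mid P Φ i) (hh : h ∈ Mid P Φ i)
    (u : USect P Φ i) : op P Φ i (g * h) u = op P Φ i g (op P Φ i h u) := by
  rw [op_mul hg hh]; rfl

theorem op_inv_apply {i : ℕ} {g : S} (hg : g ∈ Mid P Φ i) (u : USect P Φ i) :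
    op P Φ i g⁻¹ (op P Φ i g u) = u := by
  rw [← op_mul_apply (inv_mem hg) hg, inv_mul_cancel, op_one]; rfl

variable {G : Subgroup S} {a : S} {T : ℕ} {R : ℕ → Subgroup S} {p : ℕ → ℕ} {r : ℕ}
  (tw : Tower G a T P Φ R p)

include tw

theorem Tower.mem_Mid {i j : ℕ} (hj : j ≤ i) (hi : i ≤ T) {g : S} (hg : g ∈ P j) :
    g ∈ Mid P Φ i := ⟨tw.norm i j hj hi hg, tw.Φ_norm i j hj hi hg⟩

theorem Tower.a_mem_Mid {i : ℕ} (hi : i ≤ T) : a ∈ Mid P Φ i := ⟨tw.inv i hi, tw.Φ_inv i hi⟩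

theorem Tower.mem_Lev {i j : ℕ} (hj : j ≤ i) (hi : i < T) {g : S} (hg : g ∈ P j) :
    g ∈ Lev P Φ i := ⟨tw.mem_Mid hj hi.le hg, tw.mem_Mid (by omega) hi hg⟩

theorem Tower.a_mem_Lev {i : ℕ} (hi : i < T) : a ∈ Lev P Φ i :=
  ⟨tw.a_mem_Mid hi.le, tw.a_mem_Mid hi⟩

theorem Tower.cl_eq {i : ℕ} (hi : i ≤ T) {x : S} (hx : x ∈ P i) :
    cl P Φ i x = sect ((Φ i).subgroupOf (Mid P Φ i))
      (⟨⟨x, tw.mem_Mid le_rfl hi hx⟩, hx⟩ : (P i).subgroupOf (Mid P Φ i)) := by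
  rw [cl, dif_pos ⟨tw.mem_Mid le_rfl hi hx, hx⟩]

theorem Tower.comm_mem' {i : ℕ} (hi : i ≤ T) :
    ∀ x ∈ (P i).subgroupOf (Mid P Φ i), ∀ y ∈ (P i).subgroupOf (Mid P Φ i),
      x * y * x⁻¹ * y⁻¹ ∈ (Φ i).subgroupOf (Mid P Φ i) := fun x hx y hy =>
  tw.comm_mem i hi (x : S) hx (y : S) hy

theorem Tower.cl_surjective {i : ℕ} (hi : i ≤ T) (u : USect P Φ i) :
    ∃ x ∈ P i, cl P Φ i x = u := by
  obtain ⟨⟨⟨x, hM⟩, hx⟩, rfl⟩ := sect_surjective _ u
  exact ⟨x, hx, tw.cl_eq hi hx⟩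

theorem Tower.cl_mul {i : ℕ} (hi : i ≤ T) {x y : S} (hx : x ∈ P i) (hy : y ∈ P i) :
    cl P Φ i (x * y) = cl P Φ i x + cl P Φ i y := by
  rw [tw.cl_eq hi hx, tw.cl_eq hi hy, tw.cl_eq hi (mul_mem hx hy), ← sect_mul]
  rfl

theorem Tower.cl_inv {i : ℕ} (hi : i ≤ T) {x : S} (hx : x ∈ P i) :
    cl P Φ i x⁻¹ = -cl P Φ i x := by
  rw [tw.cl_eq hi hx, tw.cl_eq hi (inv_mem hx), ← sect_inv]
  rfl

theorem Tower.cl_eq_zero {i : ℕ} (hi : i ≤ T) {x : S} (hx : x ∈ P i) :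
    cl P Φ i x = 0 ↔ x ∈ Φ i := by
  rw [tw.cl_eq hi hx, sect_eq_zero _ (tw.comm_mem' hi)]
  rfl

theorem Tower.op_cl {i : ℕ} (hi : i ≤ T) {g x : S} (hg : g ∈ Mid P Φ i) (hx : x ∈ P i) :
    op P Φ i g (cl P Φ i x) = cl P Φ i (g * x * g⁻¹) := by
  rw [op_mem hg, tw.cl_eq hi hx, tw.cl_eq hi ((mem_normalizer_iff.1 hg.1 x).1 hx)]
  exact sectAct_coe _ _ _

theorem Tower.op_sub {i : ℕ} (hi : i ≤ T) {g x : S} (hg : g ∈ Mid P Φ i) (hx : x ∈ P i) :
    op P Φ i g (cl P Φ i x) - cl P Φ i x = cl P Φ i ⁅g, x⁆ := by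
  have hc := (mem_normalizer_iff.1 hg.1 x).1 hx
  rw [tw.op_cl hi hg hx, sub_eq_add_neg, ← tw.cl_inv hi hx, ← tw.cl_mul hi hc (inv_mem hx)]
  rfl

theorem Tower.op_cl_eq_iff {i : ℕ} (hi : i ≤ T) {g x : S} (hg : g ∈ Mid P Φ i) (hx : x ∈ P i) :
    op P Φ i g (cl P Φ i x) = cl P Φ i x ↔ ⁅g, x⁆ ∈ Φ i := by
  rw [← sub_eq_zero, tw.op_sub hi hg hx, tw.cl_eq_zero hi]
  exact mul_mem ((mem_normalizer_iff.1 hg.1 x).1 hx) (inv_mem hx)

/-- An operator is trivial when the commutators lie in the Frattini part. -/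
theorem Tower.op_eq_one_iff {i : ℕ} (hi : i ≤ T) {g : S} (hg : g ∈ Mid P Φ i) :
    op P Φ i g = 1 ↔ ∀ x ∈ P i, ⁅g, x⁆ ∈ Φ i := by
  refine ⟨fun h x hx => (tw.op_cl_eq_iff hi hg hx).1 (by rw [h]; rfl), fun h => ?_⟩
  refine AddMonoidHom.ext fun u => ?_
  obtain ⟨x, hx, rfl⟩ := tw.cl_surjective hi u
  exact (tw.op_cl_eq_iff hi hg hx).2 (h x hx)

theorem Tower.exp {i : ℕ} (hi : i ≤ T) (u : USect P Φ i) : p i • u = 0 := by
  obtain ⟨⟨⟨x, hM⟩, hx⟩, rfl⟩ := sect_surjective _ u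
  rw [← sect_pow, sect_eq_zero _ (tw.comm_mem' hi)]
  exact tw.pow_mem i hi x hx

variable [Finite S]

omit tw in
instance instFiniteUSect {P Φ : ℕ → Subgroup S} (i : ℕ) : Finite (USect P Φ i) :=
  Finite.of_surjective (sect _) (sect_surjective _)

omit [Finite S] in
theorem Tower.rp {hA : Ambient G a r} [Finite S] {i : ℕ} (hi : i ≤ T) : r ≠ p i := by
  intro h
  have := Fact.mk (tw.prime i hi)
  obtain ⟨e, he⟩ := IsPGroup.iff_card.1 (tw.pgroup i hi)
  refine hA.cop (dvd_trans ?_ (card_dvd_of_le (tw.le i hi)))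
  rw [he, h]
  refine dvd_pow_self _ fun he0 => tw.Φ_ne i hi ?_
  rw [he0, pow_zero] at he
  rw [Subgroup.card_eq_one.1 he]
  exact bot_le

omit [Finite S] in
theorem Tower.nsmul_eq_zero {i : ℕ} (hi : i ≤ T) {m : ℕ} (hm : ¬ p i ∣ m) {u : USect P Φ i}
    (h : m • u = 0) : u = 0 := by
  have h1 : addOrderOf u ∣ Nat.gcd m (p i) :=
    Nat.dvd_gcd (addOrderOf_dvd_of_nsmul_eq_zero h) (addOrderOf_dvd_of_nsmul_eq_zero (tw.exp hi u))
  rw [Nat.coprime_comm.1 ((tw.prime i hi).coprime_iff_not_dvd.2 hm), Nat.dvd_one,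
    AddMonoid.addOrderOf_eq_one_iff] at h1
  exact h1

omit tw in
theorem opSum_apply {i : ℕ} (X : Subgroup S) [Fintype S] [DecidablePred fun n => n ∈ X]
    (u : USect P Φ i) :
    opSum P Φ i X u = ∑ n ∈ Finset.univ.filter (fun n => n ∈ X), op P Φ i n u := by
  rw [opSum, end_sum_apply]
  convert rfl

omit tw in
theorem op_opSum_apply {i : ℕ} {X : Subgroup S} (hX : X ≤ Mid P Φ i) {g : S} (hg : g ∈ X)
    (u : USect P Φ i) : op P Φ i g (opSum P Φ i X u) = opSum P Φ i X u := by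
  classical
  let _ := Fintype.ofFinite S
  rw [opSum_apply, map_sum]
  refine Finset.sum_equiv (Equiv.mulLeft g) (fun n => ?_) fun n hn => ?_
  · simp only [mem_filter, mem_univ, true_and, Equiv.coe_mulLeft]
    exact ⟨fun h => mul_mem hg h, fun h => by simpa using mul_mem (inv_mem hg) h⟩
  · exact (op_mul_apply (hX hg) (hX (mem_filter.1 hn).2) u).symm

omit tw in
theorem opSum_of_fixed {i : ℕ} (X : Subgroup S) {u : USect P Φ i}
    (hu : ∀ n ∈ X, op P Φ i n u = u) : opSum P Φ i X u = Nat.card X • u := by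
  classical
  let _ := Fintype.ofFinite S
  rw [opSum_apply, Finset.sum_congr rfl (fun n hn => hu n (mem_filter.1 hn).2), sum_const,
    Nat.card_eq_fintype_card, Fintype.card_subtype]

omit tw in
/-- A normalising operator commutes with the sum. -/
theorem op_opSum_comm {i : ℕ} {X : Subgroup S} (hX : X ≤ Mid P Φ i) {g : S} (hg : g ∈ Mid P Φ i)
    (hn : g ∈ normalizer (X : Set S)) (u : USect P Φ i) :
    op P Φ i g (opSum P Φ i X u) = opSum P Φ i X (op P Φ i g u) := by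
  classical
  let _ := Fintype.ofFinite S
  rw [opSum_apply, opSum_apply, map_sum]
  refine Finset.sum_equiv (MulAut.conj g).toEquiv (fun n => ?_) fun n hn' => ?_
  · simp only [mem_filter, mem_univ, true_and]
    exact mem_normalizer_iff.1 hn n
  · have hn'' := hX (mem_filter.1 hn').2
    show op P Φ i g (op P Φ i n u) = op P Φ i (g * n * g⁻¹) (op P Φ i g u)
    rw [← op_mul_apply hg hn'', ← op_mul_apply (mul_mem (mul_mem hg hn'') (inv_mem hg)) hg,
      inv_mul_cancel_right]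

omit [Finite S] in
theorem Tower.opOrb_apply {i : ℕ} (u : USect P Φ i) :
    opOrb P Φ i a r u = ∑ t ∈ Finset.range r, op P Φ i (a ^ t) u := end_sum_apply _ _ _

omit [Finite S] in
theorem Tower.op_opOrb (hA : Ambient G a r) {i : ℕ} (hi : i ≤ T) (u : USect P Φ i) :
    op P Φ i a (opOrb P Φ i a r u) = opOrb P Φ i a r u := by
  have ha := tw.a_mem_Mid hi
  rw [tw.opOrb_apply, map_sum]
  have h : (∑ t ∈ range r, op P Φ i a (op P Φ i (a ^ t) u)) + op P Φ i (a ^ 0) u =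
      (∑ t ∈ range r, op P Φ i (a ^ t) u) + op P Φ i (a ^ r) u := by
    rw [← sum_range_succ (fun t => op P Φ i (a ^ t) u) r,
      sum_range_succ' (fun t => op P Φ i (a ^ t) u) r]
    congr 1
    exact sum_congr rfl fun t _ => by rw [pow_succ', op_mul_apply ha (_root_.pow_mem ha t)]
  rwa [hA.a_pow, pow_zero, add_left_inj] at h

omit [Finite S] in
theorem Tower.opOrb_of_fixed {i : ℕ} (hi : i ≤ T) {u : USect P Φ i} (hu : op P Φ i a u = u) :
    opOrb P Φ i a r u = r • u := by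
  have key : ∀ t : ℕ, op P Φ i (a ^ t) u = u := by
    intro t
    induction t with
    | zero => rw [pow_zero, op_one]; rfl
    | succ t ih =>
      rw [pow_succ', op_mul_apply (tw.a_mem_Mid hi) (_root_.pow_mem (tw.a_mem_Mid hi) t), ih, hu]
  rw [tw.opOrb_apply, Finset.sum_congr rfl (fun t _ => key t), sum_const, card_range]

/-- A fixed class has a fixed representative. -/
theorem Tower.exists_fixed_rep (hA : Ambient G a r) {i : ℕ} (hi : i ≤ T) {u : USect P Φ i}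
    (hu : op P Φ i a u = u) : ∃ c ∈ P i, Commute c a ∧ cl P Φ i c = u := by
  obtain ⟨x, hx, rfl⟩ := tw.cl_surjective hi u
  have hd : dif a x ∈ Φ i := by
    have hax := (mem_normalizer_iff.1 (tw.inv i hi) x).1 hx
    rw [tw.op_cl hi (tw.a_mem_Mid hi) hx] at hu
    show x⁻¹ * (a * x * a⁻¹) ∈ Φ i
    rw [← tw.cl_eq_zero hi (mul_mem (inv_mem hx) hax), tw.cl_mul hi (inv_mem hx) hax,
      tw.cl_inv hi hx, hu, neg_add_cancel]
  obtain ⟨c, hc, hca⟩ := exists_fix_coset hA.hr hA.a_pow (tw.prime i hi) (tw.rp (hA := hA) hi)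
    ((tw.pgroup i hi).to_le (tw.Φ_le i hi))
    (fun m hm => (mem_normalizer_iff.1 (tw.Φ_inv i hi) m).1 hm) hd
  have hcP : c ∈ P i := by simpa using mul_mem hx (tw.Φ_le i hi hc)
  refine ⟨c, hcP, hca, ?_⟩
  have h := (tw.cl_eq_zero hi (mul_mem (inv_mem hx) hcP)).2 hc
  rw [tw.cl_mul hi (inv_mem hx) hcP, tw.cl_inv hi hx, neg_add_eq_zero] at h
  exact h.symm

end Cfsg.Agent.TurullHeight
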