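import Cfsg.Agent.Lib.TurullHeight.LayerData
import Cfsg.Agent.Lib.TurullHeight.Exceptional

/-!
# A fixed weight stabilised by the operator group

`stable_diff`: if `N = [N, a]` stabilises a fixed weight, then on a quiet class `u` the difference
`n u - u` lies in the image of the kernel.
-/

set_option autoImplicit false

namespace Cfsg.Agent.TurullHeight

open Finset
open scoped commutatorElement

variable {Γ : Type*} [Group Γ] [Finite Γ] {k : Type*} [Field k] {E : Type*} [AddCommGroup E]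
  [Module k E]

/-- The operator group on the layer `P/Φ`. -/
structure OpData (P Φ : Subgroup Γ) [P.Normal] [Φ.Normal] (N : Subgroup Γ) (a : Γ) (r q p : ℕ) :
    Prop where
  inv : ∀ n ∈ N, a * n * a⁻¹ ∈ N
  hq : q.Prime
  pgroup : IsPGroup q N
  qp : q ≠ p
  rq : r ≠ q
  gen : ∀ H : Subgroup Γ, (∀ n ∈ N, dif a n ∈ H) → N ≤ H
  comm_central : ∀ x ∈ N, ∀ y ∈ N, ∀ z ∈ N,
    Commute (sectAct (P := P) Φ ⁅x, y⁆) (sectAct (P := P) Φ z)
  pow_central : ∀ x ∈ N, ∀ y ∈ N, Commute (sectAct (P := P) Φ (x ^ q)) (sectAct (P := P) Φ y)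

/-- The elements fixing a function under translation. -/
def stabF (f : Γ → k) : Subgroup Γ where
  carrier := {g | tr g f = f}
  one_mem' := tr_one f
  mul_mem' := fun {g h} hg hh => by
    show tr (g * h) f = f
    rw [← tr_tr, hh, hg]
  inv_mem' := fun {g} hg => by
    show tr g⁻¹ f = f
    conv_lhs => rw [← show tr g f = f from hg, tr_tr, inv_mul_cancel, tr_one]

theorem mem_stabF {f : Γ → k} {g : Γ} : g ∈ stabF f ↔ tr g f = f := Iff.rfl

variable {ρ : Γ →* Module.End k E} {P Φ N : Subgroup Γ} [P.Normal] [Φ.Normal] {a : Γ} {r p q : ℕ}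
  [IsAlgClosed k] [FiniteDimensional k E] (hl : LayerData ρ P Φ a r p)
  (hN : OpData P Φ N a r q p)

include hl hN

theorem stable_map_eq {f : Γ → k} (hf : IsWt ρ P f) (ha : tr a f = f)
    (hst : ∀ n ∈ N, tr n f = f) {x : Γ} (hx : x ∈ P) (hxa : Commute x a)
    (hq : Quiet ρ P a x) {n : Γ} (hn : n ∈ N) : f (x⁻¹ * (n * x * n⁻¹)) ≠ 0 := by
  classical
  by_cases hx0 : f x ≠ 0
  · have hnx : f (n * x * n⁻¹) = f x := by
      have h := congrFun (hst n⁻¹ (inv_mem hn)) x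
      show f (n * x * n⁻¹) = f x
      rw [← h]
      show _ = f (n⁻¹⁻¹ * x * n⁻¹)
      rw [inv_inv]
    have h1 : f x⁻¹ ≠ 0 := by rw [hf.map_inv hx0]; exact inv_ne_zero hx0
    rw [hf.map_mul h1, hnx]
    exact mul_ne_zero h1 hx0
  rw [not_not] at hx0
  by_cases hm : Moved P a f
  swap
  · -- `a` is trivial modulo the kernel
    unfold Moved at hm
    push Not at hm
    let H : Subgroup Γ :=
      { carrier := {g | tr g f = f ∧ f (x⁻¹ * (g * x * g⁻¹)) = 1}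
        one_mem' := ⟨tr_one f, by rw [one_mul, inv_one, mul_one, inv_mul_cancel, hf.map_one]⟩
        mul_mem' := fun {g h} ⟨hg, hgx⟩ ⟨hh, hhx⟩ => ⟨by rw [← tr_tr, hh, hg], by
          rw [show x⁻¹ * (g * h * x * (g * h)⁻¹) =
            (x⁻¹ * (g * x * g⁻¹)) * (g * (x⁻¹ * (h * x * h⁻¹)) * g⁻¹) by group,
            hf.map_mul (by rw [hgx]; exact one_ne_zero), hgx, one_mul]
          have h' := congrFun hg (g * (x⁻¹ * (h * x * h⁻¹)) * g⁻¹)
          rw [← h']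
          show f (g⁻¹ * (g * (x⁻¹ * (h * x * h⁻¹)) * g⁻¹) * g) = 1
          rw [show g⁻¹ * (g * (x⁻¹ * (h * x * h⁻¹)) * g⁻¹) * g = x⁻¹ * (h * x * h⁻¹) by group]
          exact hhx⟩
        inv_mem' := fun {g} ⟨hg, hgx⟩ => by
          have hg' : tr g⁻¹ f = f := by
            conv_lhs => rw [← hg, tr_tr, inv_mul_cancel, tr_one]
          refine ⟨hg', ?_⟩
          have h' := congrFun hg (x⁻¹ * (g * x * g⁻¹))
          have h'' : f (g⁻¹ * (x⁻¹ * (g * x * g⁻¹)) * g) = 1 := by rw [← hgx, ← h']; rfl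
          rw [show x⁻¹ * (g⁻¹ * x * g⁻¹⁻¹) = (g⁻¹ * (x⁻¹ * (g * x * g⁻¹)) * g)⁻¹ by group,
            hf.map_inv (by rw [h'']; exact one_ne_zero), h'', inv_one] }
    have hle : N ≤ H := hN.gen H fun m hm' => by
      refine ⟨?_, ?_⟩
      · show tr (m⁻¹ * (a * m * a⁻¹)) f = f
        have ha' : tr a⁻¹ f = f := by conv_lhs => rw [← ha, tr_tr, inv_mul_cancel, tr_one]
        rw [← tr_tr, ← tr_tr, ← tr_tr, ha', hst m hm', ha, hst _ (inv_mem hm')]
      · have hy : m * x * m⁻¹ ∈ P := ‹P.Normal›.conj_mem x hx m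
        have hd := hm _ hy
        have hax : a * x * a⁻¹ = x := by rw [← hxa.eq, mul_inv_cancel_right]
        have hax' : a⁻¹ * x * a = x := by rw [mul_assoc, hxa.eq, inv_mul_cancel_left]
        have e : x⁻¹ * (dif a m * x * (dif a m)⁻¹) = m⁻¹ * dif a (m * x * m⁻¹) * m := by
          have h1 : dif a m * x * (dif a m)⁻¹ = m⁻¹ * (a * (m * x * m⁻¹) * a⁻¹) * m := by
            conv_lhs => rw [← hax]
            simp only [dif]
            group
          rw [h1]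
          simp only [dif, mul_inv_rev, inv_inv]
          group
        rw [e]
        have h' := congrFun (hst m hm') (dif a (m * x * m⁻¹))
        rw [← hd, ← h']
        rfl
    rw [(hle hn).2]
    exact one_ne_zero
  -- a moved weight: no fixed vectors
  have hnf : ∀ v ∈ wsp ρ f, ρ a v = v → v = 0 := by
    intro v hv hav
    by_contra hv0
    obtain ⟨w, hw, haw, hxw⟩ := exists_moved hl.act hf ha hx hxa hx0 hv hav hv0
    exact hxw (hq w (wsp_le_movedSpace hf hm hw) haw)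
  obtain ⟨hp2, hidx⟩ := no_fixed hl.act hf ha hm hnf
  subst hp2
  -- the quotient by the centre of the weight
  let Zb : AddSubgroup (Sect P Φ) :=
    { carrier := {u | ∃ z : P, f z ≠ 0 ∧ sect Φ z = u}
      add_mem' := fun {u v} ⟨z, hz, hu⟩ ⟨z', hz', hv⟩ => ⟨z * z', by
        show f ((z : Γ) * z') ≠ 0
        rw [hf.map_mul hz]; exact mul_ne_zero hz hz', by rw [sect_mul, hu, hv]⟩
      zero_mem' := ⟨1, by show f 1 ≠ 0; rw [hf.map_one]; exact one_ne_zero, sect_one Φ⟩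
      neg_mem' := fun {u} ⟨z, hz, hu⟩ => ⟨z⁻¹, by
        show f ((z : Γ)⁻¹) ≠ 0
        rw [hf.map_inv hz]; exact inv_ne_zero hz, by rw [sect_inv, hu]⟩ }
  let cls : P → Sect P Φ ⧸ Zb := fun z => QuotientAddGroup.mk (sect Φ z)
  have hcls : ∀ y y' : P, cls y = cls y' ↔ f ((y : Γ)⁻¹ * y') ≠ 0 := by
    intro y y'
    show (QuotientAddGroup.mk (sect Φ y) = QuotientAddGroup.mk (sect Φ y')) ↔ _
    rw [QuotientAddGroup.eq, ← sect_inv, ← sect_mul]
    constructor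
    · rintro ⟨z, hz, he⟩
      rw [sect_eq_iff Φ hl.comm_mem] at he
      have := hf.map_mul hz ((z : Γ)⁻¹ * ((y⁻¹ * y' : P) : Γ))
      rw [mul_inv_cancel_left] at this
      rw [show (y : Γ)⁻¹ * y' = ((y⁻¹ * y' : P) : Γ) from rfl, this]
      exact mul_ne_zero hz (hl.ne_zero_of_mem hf he)
    · exact fun h => ⟨y⁻¹ * y', h, rfl⟩
  have hsurj : Function.Surjective cls := fun w => by
    induction w using QuotientAddGroup.induction_on with | _ u => ?_
    obtain ⟨y, rfl⟩ := sect_surjective Φ u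
    exact ⟨y, rfl⟩
  have hclsadd : ∀ y y', cls (y * y') = cls y + cls y' := fun y y' => by
    show (QuotientAddGroup.mk (sect Φ (y * y')) : Sect P Φ ⧸ Zb) = _
    rw [sect_mul]; rfl
  let Δ : Subgroup Γ := stabF f ⊓ Subgroup.normalizer (N : Set Γ)
  have hΔ : ∀ g : Δ, Zb ≤ Zb.comap (sectAct (P := P) Φ (g : Γ)) := fun g u ⟨z, hz, hu⟩ => by
    refine ⟨MulAut.conjNormal (g : Γ) z, ?_, by rw [← sectAct_sect, hu]; rfl⟩
    rw [MulAut.conjNormal_apply]
    have h := congrFun (mem_stabF.1 g.2.1) ((g : Γ) * z * (g : Γ)⁻¹)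
    rw [← h]
    show f ((g : Γ)⁻¹ * ((g : Γ) * z * (g : Γ)⁻¹) * g) ≠ 0
    rw [show (g : Γ)⁻¹ * ((g : Γ) * z * (g : Γ)⁻¹) * g = z by group]
    exact hz
  let ν : Δ →* AddMonoid.End (Sect P Φ ⧸ Zb) :=
    { toFun := fun g => QuotientAddGroup.map Zb Zb (sectAct (P := P) Φ (g : Γ)) (hΔ g)
      map_one' := AddMonoidHom.ext fun w => by
        obtain ⟨y, rfl⟩ := hsurj w
        show QuotientAddGroup.mk (sectAct (P := P) Φ 1 (sect Φ y)) = QuotientAddGroup.mk (sect Φ y)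
        rw [map_one]; rfl
      map_mul' := fun g h => AddMonoidHom.ext fun w => by
        obtain ⟨y, rfl⟩ := hsurj w
        show QuotientAddGroup.mk (sectAct (P := P) Φ ((g : Γ) * h) (sect Φ y)) =
          QuotientAddGroup.mk (sectAct (P := P) Φ g (sectAct (P := P) Φ h (sect Φ y)))
        rw [map_mul]; rfl }
  have hν : ∀ (g : Δ) (y : P), ν g (cls y) = cls (MulAut.conjNormal (g : Γ) y) := fun g y => rfl
  have haΔ : a ∈ Δ := by
    refine ⟨mem_stabF.2 ha, Subgroup.mem_normalizer_fintype fun m hm' => hN.inv m hm'⟩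
  have hnΔ : N ≤ Δ := fun m hm' => ⟨hst m hm', Subgroup.le_normalizer hm'⟩
  let N' : Subgroup Δ := N.subgroupOf Δ
  have hN'n : N'.Normal := ⟨fun m hm' g => (Subgroup.mem_normalizer_iff.1 g.2.2 (m : Γ)).1 hm'⟩
  have hr2 : r ≠ 2 := hl.act.rp
  let β : Sect P Φ ⧸ Zb → Sect P Φ ⧸ Zb → kˣ := fun u v =>
    Units.mk0 (f ⁅((Function.surjInv hsurj u : P) : Γ), ((Function.surjInv hsurj v : P) : Γ)⁆)
      (hf.comm_ne_zero hl.act.classTwo (Subtype.coe_prop _) (Subtype.coe_prop _))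
  have hrep : ∀ y, ∃ z, f z ≠ 0 ∧ ((Function.surjInv hsurj (cls y) : P) : Γ) = (y : Γ) * z := by
    intro y
    refine ⟨(y : Γ)⁻¹ * (Function.surjInv hsurj (cls y) : P), ?_, (mul_inv_cancel_left _ _).symm⟩
    exact (hcls y _).1 (Function.surjInv_eq hsurj (cls y)).symm
  have hβ : ∀ y y' : P, (β (cls y) (cls y') : k) = f ⁅(y : Γ), (y' : Γ)⁆ := by
    intro y y'
    obtain ⟨z, hz, e⟩ := hrep y
    obtain ⟨z', hz', e'⟩ := hrep y'
    show f ⁅((Function.surjInv hsurj (cls y) : P) : Γ), ((Function.surjInv hsurj (cls y') : P) : Γ)⁆ = _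
    have hzP := hf.mem_of_ne_zero hz
    have hz'P := hf.mem_of_ne_zero hz'
    rw [e, e', pair_mul_left hl.act hf y.2 hzP (mul_mem y'.2 hz'P),
      pair_eq_one_of_ne_zero hl.act hf hz (mul_mem y'.2 hz'P), mul_one,
      pair_mul_right hl.act hf y.2 y'.2 hz'P, pair_symm hl.act hf hz'P y.2,
      pair_eq_one_of_ne_zero hl.act hf hz' y.2, inv_one, mul_one]
  have hc1' : ∀ u ∈ N', ∀ v ∈ N', ∀ w ∈ N', Commute (ν ⁅u, v⁆) (ν w) :=
    fun u hu v hv w hw => AddMonoidHom.ext fun z => by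
      obtain ⟨y, rfl⟩ := hsurj z
      exact congrArg QuotientAddGroup.mk
        (DFunLike.congr_fun (hN.comm_central (u : Γ) hu (v : Γ) hv (w : Γ) hw).eq (sect Φ y))
  have hc2' : ∀ u ∈ N', ∀ v ∈ N', Commute (ν (u ^ q)) (ν v) :=
    fun u hu v hv => AddMonoidHom.ext fun z => by
      obtain ⟨y, rfl⟩ := hsurj z
      exact congrArg QuotientAddGroup.mk
        (DFunLike.congr_fun (hN.pow_central (u : Γ) hu (v : Γ) hv).eq (sect Φ y))
  have : Finite (Sect P Φ) := Finite.of_surjective (sect Φ) (sect_surjective Φ)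
  have : Finite (Sect P Φ ⧸ Zb) := Finite.of_surjective cls hsurj
  have key := fixes_of_exceptional (M := kˣ)
    (W := Sect P Φ ⧸ Zb) (h2W := fun w => by
      obtain ⟨y, rfl⟩ := hsurj w
      show 2 • (QuotientAddGroup.mk (sect Φ y) : Sect P Φ ⧸ Zb) = 0
      rw [← QuotientAddGroup.mk_nsmul, hl.exp_two]
      rfl)
    ν N' (⟨a, haΔ⟩ : Δ) hl.act.hr hr2 hN.hq hN.qp hN.rq (hN.pgroup.comap_subtype)
    (Subtype.ext hl.act.a_pow)
    (fun H hH m hm' => by
      have hle : N ≤ (H.map Δ.subtype) := hN.gen _ fun z hz =>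
        ⟨dif ⟨a, haΔ⟩ ⟨z, hnΔ hz⟩, hH ⟨z, hnΔ hz⟩ hz, rfl⟩
      obtain ⟨z, hz, he⟩ := hle hm'
      exact Subtype.ext he ▸ hz)
    hc1' hc2'
    β
    (fun u v w => by
      obtain ⟨y, rfl⟩ := hsurj u; obtain ⟨y', rfl⟩ := hsurj v; obtain ⟨z, rfl⟩ := hsurj w
      refine Units.ext ?_
      rw [← hclsadd, Units.val_mul, hβ, hβ, hβ, Subgroup.coe_mul,
        pair_mul_left hl.act hf y.2 y'.2 z.2])
    (fun u v w => by
      obtain ⟨y, rfl⟩ := hsurj u; obtain ⟨y', rfl⟩ := hsurj v; obtain ⟨z, rfl⟩ := hsurj w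
      refine Units.ext ?_
      rw [← hclsadd, Units.val_mul, hβ, hβ, hβ, Subgroup.coe_mul,
        pair_mul_right hl.act hf y.2 y'.2 z.2])
    (fun u => by
      obtain ⟨y, rfl⟩ := hsurj u
      refine Units.ext ?_
      rw [hβ, commutatorElement_self, hf.map_one, Units.val_one])
    (fun g hg u v => by
      obtain ⟨y, rfl⟩ := hsurj u; obtain ⟨y', rfl⟩ := hsurj v
      refine Units.ext ?_
      rw [hν, hν, hβ, hβ, MulAut.conjNormal_apply, MulAut.conjNormal_apply]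
      have h := congrFun (mem_stabF.1 g.2.1) ⁅(g : Γ) * y * (g : Γ)⁻¹, (g : Γ) * y' * (g : Γ)⁻¹⁆
      rw [← h]
      show f ((g : Γ)⁻¹ * _ * g) = _
      congr 1
      simp only [commutatorElement_def]
      group)
    (fun u hu => by
      obtain ⟨y, rfl⟩ := hsurj u
      rw [← show cls 1 = 0 by
        show (QuotientAddGroup.mk (sect Φ (1 : P)) : Sect P Φ ⧸ Zb) = 0
        rw [sect_one]; rfl, hcls]
      rw [Subgroup.coe_one, mul_one]
      have h0 : f y ≠ 0 := (hf.ne_zero_iff).2 ⟨y.2, fun z hz => by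
        have := congrArg Units.val (hu (cls ⟨z, hz⟩))
        rwa [hβ, Units.val_one] at this⟩
      rw [hf.map_inv h0]; exact inv_ne_zero h0)
    (by
      have hsub : ∀ w : Sect P Φ ⧸ Zb,
          ∃ y : orth hl.act hf, cls ⟨y, y.2.1⟩ = ν ⟨a, haΔ⟩ w - w := by
        intro w
        obtain ⟨y, rfl⟩ := hsurj w
        refine ⟨⟨dif a y, dif_mem_orth hl.act hf ha y.2⟩, ?_⟩
        rw [hν, eq_sub_iff_add_eq, ← hclsadd]
        rw [hcls]
        simp only [Subgroup.coe_mul, MulAut.conjNormal_apply, dif]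
        have e : ((y : Γ)⁻¹ * (a * y * a⁻¹) * y)⁻¹ * (a * y * a⁻¹) = ⁅(y : Γ)⁻¹, (a * y * a⁻¹)⁻¹⁆ := by
          simp only [commutatorElement_def]; group
        rw [e]
        exact hf.comm_ne_zero hl.act.classTwo (inv_mem y.2) (inv_mem (‹P.Normal›.conj_mem _ y.2 a))
      choose g hg using hsub
      refine (Nat.card_le_card_of_injective
        (fun w => ((g w.2.choose : orth hl.act hf) :
          orth hl.act hf ⧸ (zSub hf).subgroupOf (orth hl.act hf))) fun w w' h => ?_).trans_eq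
        (Subgroup.index_eq_card _ |>.symm.trans hidx)
      rw [QuotientGroup.eq, Subgroup.mem_subgroupOf] at h
      have h' : cls ⟨g w.2.choose, (g w.2.choose).2.1⟩ = cls ⟨g w'.2.choose, (g w'.2.choose).2.1⟩ :=
        (hcls _ _).2 h
      rw [hg, hg] at h'
      apply Subtype.ext
      rw [← w.2.choose_spec, ← w'.2.choose_spec]
      exact h')
    (u := cls ⟨x, hx⟩) (by
      rw [hν]
      congr 1
      exact Subtype.ext (by rw [MulAut.conjNormal_apply, ← hxa.eq, mul_inv_cancel_right]))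
    (n := ⟨n, hnΔ hn⟩) hn
  rw [hν, eq_comm, hcls, MulAut.conjNormal_apply] at key
  exact key

/-- The difference of a quiet class and its translate lies in the image of the kernel. -/
theorem stable_diff {f : Γ → k} (hf : IsWt ρ P f) (ha : tr a f = f) (hst : ∀ n ∈ N, tr n f = f)
    {u : Sect P Φ} (hu : u ∈ quietSub ρ P a Φ) {n : Γ} (hn : n ∈ N) :
    sectAct Φ n u - u ∈ kbar Φ hf := by
  obtain ⟨x, hxa, hq, rfl⟩ := hu
  have hne : ∀ m ∈ N, f ((x : Γ)⁻¹ * (m * x * m⁻¹)) ≠ 0 := fun m hm =>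
    stable_map_eq hl hN hf ha hst x.2 hxa hq hm
  let H : Subgroup Γ :=
    { carrier := {g | g ∈ N ∧ f ((x : Γ)⁻¹ * (g * x * g⁻¹)) = 1}
      one_mem' := ⟨one_mem N, by rw [one_mul, inv_one, mul_one, inv_mul_cancel, hf.map_one]⟩
      mul_mem' := fun {g h} ⟨hg, hgx⟩ ⟨hh, hhx⟩ => ⟨mul_mem hg hh, by
        rw [show (x : Γ)⁻¹ * (g * h * x * (g * h)⁻¹) =
          ((x : Γ)⁻¹ * (g * x * g⁻¹)) * (g * ((x : Γ)⁻¹ * (h * x * h⁻¹)) * g⁻¹) by group,
          hf.map_mul (hne g hg), hgx, one_mul]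
        rw [← congrFun (hst g hg) _]
        show f (g⁻¹ * (g * ((x : Γ)⁻¹ * (h * x * h⁻¹)) * g⁻¹) * g) = 1
        rw [show g⁻¹ * (g * ((x : Γ)⁻¹ * (h * x * h⁻¹)) * g⁻¹) * g = (x : Γ)⁻¹ * (h * x * h⁻¹) by group]
        exact hhx⟩
      inv_mem' := fun {g} ⟨hg, hgx⟩ => ⟨inv_mem hg, by
        have h'' : f (g⁻¹ * ((x : Γ)⁻¹ * (g * x * g⁻¹)) * g) = 1 := by
          rw [← hgx, ← congrFun (hst g hg) ((x : Γ)⁻¹ * (g * x * g⁻¹))]; rfl
        rw [show (x : Γ)⁻¹ * (g⁻¹ * x * g⁻¹⁻¹) = (g⁻¹ * ((x : Γ)⁻¹ * (g * x * g⁻¹)) * g)⁻¹ by group,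
          hf.map_inv (by rw [h'']; exact one_ne_zero), h'', inv_one]⟩ }
  have hle : N ≤ H := hN.gen H fun m hm => by
    have hanm := hN.inv m hm
    refine ⟨mul_mem (inv_mem hm) hanm, ?_⟩
    have hax : a * (x : Γ) * a⁻¹ = x := by rw [← hxa.eq, mul_inv_cancel_right]
    have h1 : f ((x : Γ)⁻¹ * (a * m * a⁻¹ * x * (a * m * a⁻¹)⁻¹)) =
        f ((x : Γ)⁻¹ * (m * x * m⁻¹)) := by
      rw [← congrFun ha ((x : Γ)⁻¹ * (a * m * a⁻¹ * x * (a * m * a⁻¹)⁻¹))]
      show f (a⁻¹ * _ * a) = _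
      congr 1
      have hax'' : a⁻¹ * (x : Γ) * a = x := by rw [mul_assoc, hxa.eq, inv_mul_cancel_left]
      rw [show a⁻¹ * ((x : Γ)⁻¹ * (a * m * a⁻¹ * x * (a * m * a⁻¹)⁻¹)) * a =
        (a⁻¹ * (x : Γ) * a)⁻¹ * (m * (a⁻¹ * (x : Γ) * a) * m⁻¹) by group, hax'']
    have hm' := hne m⁻¹ (inv_mem hm)
    rw [show (x : Γ)⁻¹ * (dif a m * x * (dif a m)⁻¹) =
      ((x : Γ)⁻¹ * (m⁻¹ * x * m⁻¹⁻¹)) *
        (m⁻¹ * ((x : Γ)⁻¹ * (a * m * a⁻¹ * x * (a * m * a⁻¹)⁻¹)) * m) by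
      simp only [dif]; group, hf.map_mul hm']
    have h2 : ∀ z, f (m⁻¹ * z * m) = f z := fun z => congrFun (hst m hm) z
    rw [h2, h1, ← h2 ((x : Γ)⁻¹ * (m * x * m⁻¹)), ← hf.map_mul hm']
    rw [show (x : Γ)⁻¹ * (m⁻¹ * x * m⁻¹⁻¹) * (m⁻¹ * ((x : Γ)⁻¹ * (m * x * m⁻¹)) * m) = 1 by group]
    exact hf.map_one
  refine ⟨x⁻¹ * MulAut.conjNormal n x, ?_, ?_⟩
  · rw [Subgroup.coe_mul, Subgroup.coe_inv, MulAut.conjNormal_apply]
    exact (hle hn).2
  · rw [sect_mul, sect_inv, sectAct_sect, neg_add_eq_sub]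

end Cfsg.Agent.TurullHeight
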