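import Cfsg.Agent.Lib.TurullHeight.Bridge

/-!
# Climbing one layer

An element of a layer fixed by `a` that is not quiet has a commutator with a fixed element of the
next layer which is not quiet there.
-/

set_option autoImplicit false

namespace Cfsg.Agent.TurullHeight

open Subgroup
open scoped commutatorElement

variable {S : Type*} [Group S] [Finite S] {P Φ : ℕ → Subgroup S} {G : Subgroup S} {a : S} {T : ℕ}
  {R : ℕ → Subgroup S} {p : ℕ → ℕ} {r : ℕ} (tw : Tower G a T P Φ R p) (hA : Ambient G a r)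

include tw

theorem Tower.not_dvd_card {i : ℕ} (hi : i < T) {X : Subgroup S} (hX : X ≤ P i) :
    ¬ p (i + 1) ∣ Nat.card X := by
  intro h
  have := Fact.mk (tw.prime i hi.le)
  obtain ⟨e, he⟩ := IsPGroup.iff_card.1 ((tw.pgroup i hi.le).to_le hX)
  rw [he] at h
  exact tw.pne i hi ((Nat.prime_dvd_prime_iff_eq (tw.prime _ hi) (tw.prime i hi.le)).1
    ((tw.prime _ hi).dvd_of_dvd_pow h)).symm

include hA

/-- A non-quiet element moves a fixed element. -/
theorem Tower.exists_moved_of_not_quiet {i : ℕ} (hi : i < T) {e : S} (he : e ∈ P i)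
    (hne : ¬ QuietEl P Φ a i e) :
    ∃ c ∈ P (i + 1), Commute c a ∧ ⁅e, c⁆ ∉ Φ (i + 1) := by
  unfold QuietEl at hne
  push Not at hne
  obtain ⟨u, hua, -, hu⟩ := hne
  obtain ⟨c, hc, hca, rfl⟩ := tw.exists_fixed_class hA (i := i + 1) hi hua
  exact ⟨c, hc, hca, fun h => hu ((tw.op_cl_eq_iff (i := i + 1) hi
    (tw.mem_Mid (by omega) hi he) hc).2 h)⟩

/-- The commutators of `e` with the group `[P_i, a]` lie in `[Φ_i, a]` up to the kernel. -/
theorem Tower.comm_mem_F {i : ℕ} (hi : i < T) {e : S} (he : e ∈ P i) (hea : Commute e a) {n : S}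
    (hn : n ∈ difSub (P i) a) : ⁅e, n⁆ ∈ difSub (Φ i) a ⊔ R i := by
  set F := difSub (Φ i) a ⊔ R i with hF
  have hFΦ : F ≤ Φ i := sup_le (difSub_le fun x hx => (mem_normalizer_iff.1 (tw.Φ_inv i hi.le) x).1 hx)
    (tw.R_le i hi.le)
  have hconj : ∀ g ∈ P i, ∀ z ∈ F, g * z * g⁻¹ ∈ F := fun g hg z hz => by
    rw [show g * z * g⁻¹ = ⁅z, g⁆⁻¹ * z by simp only [commutatorElement_def]; group]
    exact mul_mem (inv_mem (mem_sup_right (tw.central i hi.le z (hFΦ hz) g hg))) hz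
  let H : Subgroup S :=
    { carrier := {g | g ∈ P i ∧ ⁅e, g⁆ ∈ F}
      one_mem' := ⟨one_mem _, by rw [commutatorElement_one_right]; exact one_mem F⟩
      mul_mem' := fun {g h} ⟨hg, hg'⟩ ⟨hh, hh'⟩ => ⟨mul_mem hg hh, by
        rw [show ⁅e, g * h⁆ = ⁅e, g⁆ * (g * ⁅e, h⁆ * g⁻¹) by simp only [commutatorElement_def]; group]
        exact mul_mem hg' (hconj g hg _ hh')⟩
      inv_mem' := fun {g} ⟨hg, hg'⟩ => ⟨inv_mem hg, by
        rw [show ⁅e, g⁻¹⁆ = g⁻¹ * ⁅e, g⁆⁻¹ * g⁻¹⁻¹ by simp only [commutatorElement_def]; group]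
        exact hconj _ (inv_mem hg) _ (inv_mem hg')⟩ }
  refine ((closure_le H).2 ?_ hn).2
  rintro _ ⟨g, hg, rfl⟩
  refine ⟨mul_mem (inv_mem hg) ((mem_normalizer_iff.1 (tw.inv i hi.le) g).1 hg), ?_⟩
  have e1 : ⁅e, dif a g⁆ = g⁻¹ * dif a ⁅e, g⁆ * g⁻¹⁻¹ := by
    have h1 : a * e = e * a := hea.eq.symm
    have h2 : a⁻¹ * e⁻¹ = e⁻¹ * a⁻¹ := hea.inv_inv.eq.symm
    simp only [dif, commutatorElement_def]
    rw [show g⁻¹ * ((e * g * e⁻¹ * g⁻¹)⁻¹ * (a * (e * g * e⁻¹ * g⁻¹) * a⁻¹)) * g⁻¹⁻¹ =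
      e * g⁻¹ * e⁻¹ * ((a * e) * g * e⁻¹ * g⁻¹ * a⁻¹) * g by group, h1,
      show e * g⁻¹ * e⁻¹ * (e * a * g * e⁻¹ * g⁻¹ * a⁻¹) * g =
        e * g⁻¹ * a * g * (e⁻¹ * a⁻¹) * a * g⁻¹ * a⁻¹ * g by group, ← h2]
    group
  rw [e1]
  exact hconj _ (inv_mem hg) _
    (mem_sup_left (dif_mem_difSub (tw.comm_mem i hi.le _ he _ hg)))

/-- The step. -/
theorem Tower.step {i : ℕ} (hi : i + 1 < T) {e : S} (he : e ∈ P i) (hea : Commute e a)
    (hne : ¬ QuietEl P Φ a i e) :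
    ∃ c ∈ P (i + 1), Commute c a ∧ ¬ QuietEl P Φ a (i + 1) ⁅e, c⁆ := by
  classical
  by_contra hcon
  push Not at hcon
  refine hne fun u hua huX => ?_
  let _ := Fintype.ofFinite S
  have hi' : i < T := by omega
  have hM : ∀ g ∈ P i, g ∈ Mid P Φ (i + 1) := fun g hg => tw.mem_Mid (by omega) hi.le hg
  set X := difSub (P i) a with hX
  set F := difSub (Φ i) a ⊔ R i with hF
  have hPa : ∀ x ∈ P i, a * x * a⁻¹ ∈ P i := fun x hx =>
    (mem_normalizer_iff.1 (tw.inv i hi'.le) x).1 hx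
  have hΦa : ∀ x ∈ Φ i, a * x * a⁻¹ ∈ Φ i := fun x hx =>
    (mem_normalizer_iff.1 (tw.Φ_inv i hi'.le) x).1 hx
  have hXP : X ≤ P i := difSub_le hPa
  have hFΦ : F ≤ Φ i := sup_le (difSub_le hΦa) (tw.R_le i hi'.le)
  have hFP : F ≤ P i := hFΦ.trans (tw.Φ_le i hi'.le)
  have hFM : F ≤ Mid P Φ (i + 1) := fun g hg => hM g (hFP hg)
  have hXM : X ≤ Mid P Φ (i + 1) := fun g hg => hM g (hXP hg)
  have hFn : ∀ g ∈ P i, g ∈ normalizer (F : Set S) := fun g hg => mem_normalizer_fintype fun z hz => by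
    rw [show g * z * g⁻¹ = ⁅z, g⁆⁻¹ * z by simp only [commutatorElement_def]; group]
    exact mul_mem (inv_mem (mem_sup_right (tw.central i hi'.le z (hFΦ hz) g hg))) hz
  have heM : e ∈ Mid P Φ (i + 1) := hM e he
  have haM := tw.a_mem_Mid (i := i + 1) hi.le
  have haX : a ∈ normalizer (X : Set S) := mem_normalizer_fintype fun z hz => inv_mem_difSub hPa hz
  have haF : a ∈ normalizer (F : Set S) := mem_normalizer_sup
    (mem_normalizer_fintype fun z hz => inv_mem_difSub hΦa hz)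
    (mem_normalizer_fintype fun z hz => by
      have hzP := tw.Φ_le i hi'.le (tw.R_le i hi'.le hz)
      show a * z * a⁻¹ ∈ R i
      rw [← tw.op_eq_one_iff_mem hi' (hPa z hzP),
        op_mul (mul_mem haM (hM z hzP)) (inv_mem haM), op_mul haM (hM z hzP),
        tw.central_op hi' hz, mul_one, ← op_mul haM (inv_mem haM), mul_inv_cancel, op_one])
  let θ : USect P Φ (i + 1) →+ USect P Φ (i + 1) :=
    { toFun := fun w => op P Φ (i + 1) e w - w
      map_zero' := by simp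
      map_add' := fun w w' => by rw [map_add]; abel }
  -- the class of a commutator
  have hθcl : ∀ c ∈ P (i + 1), θ (cl P Φ (i + 1) c) = cl P Φ (i + 1) ⁅e, c⁆ := fun c hc =>
    tw.op_sub (i := i + 1) hi.le heM hc
  -- stage one
  have h1 : ∀ w, op P Φ (i + 1) a w = w → ∀ n ∈ F, op P Φ (i + 1) n (θ w) = θ w := by
    intro w hw n hn
    obtain ⟨c, hc, hca, rfl⟩ := tw.exists_fixed_class hA (i := i + 1) hi.le hw
    have hec := tw.commutator_mem_P (i := i) (j := i + 1) (by omega) hi.le he hc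
    rw [hθcl c hc]
    suffices hle : F ≤ stabU P Φ (i + 1) (cl P Φ (i + 1) ⁅e, c⁆) from (hle hn).2
    refine sup_le (fun z hz => ⟨hFM (mem_sup_left hz), ?_⟩) fun z hz => ⟨hFM (mem_sup_right hz), ?_⟩
    · rw [tw.op_cl_eq_iff (i := i + 1) hi.le (hFM (mem_sup_left hz)) hec]
      refine tw.fixed_of_comm hA hi (tw.Φ_le i hi'.le) hΦa bot_le
        (fun _ _ => by rw [normalizer_eq_top]; exact mem_top _) he hea (fun m hm x hx _ => ?_)
        (fun d hd hda _ => hcon d hd hda) hc hca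
        (fun y hy => by rw [mem_bot.1 hy, commutatorElement_one_left]; exact one_mem _) hz
      have hmΦ : m ∈ Φ i := difSub_le hΦa hm
      have hR : ⁅e⁻¹, m⁻¹⁆ ∈ R i := by
        rw [← commutatorElement_inv]
        exact inv_mem (tw.central i hi'.le _ (inv_mem hmΦ) _ (inv_mem he))
      exact (tw.op_eq_one_iff (i := i + 1) hi.le
        (hM _ (tw.Φ_le i hi'.le (tw.R_le i hi'.le hR)))).1 (tw.central_op hi' hR) x hx
    · rw [tw.central_op hi' hz]; rfl
  -- stage two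
  have h2 : ∀ w, op P Φ (i + 1) a w = w → (∀ n ∈ F, op P Φ (i + 1) n w = w) →
      ∀ n ∈ X, op P Φ (i + 1) n (θ w) = θ w := by
    intro w hw hwF n hn
    obtain ⟨c, hc, hca, rfl⟩ := tw.exists_fixed_class hA (i := i + 1) hi.le hw
    have hec := tw.commutator_mem_P (i := i) (j := i + 1) (by omega) hi.le he hc
    rw [hθcl c hc, tw.op_cl_eq_iff (i := i + 1) hi.le (hXM hn) hec]
    exact tw.fixed_of_comm hA hi le_rfl hPa hFP (fun m hm => hFn m (hXP hm)) he hea
      (fun m hm x hx hxF => hxF _ (tw.comm_mem_F hA hi' (inv_mem he) hea.inv_left (inv_mem hm)))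
      (fun d hd hda _ => hcon d hd hda) hc hca
      (fun z hz => (tw.op_cl_eq_iff (i := i + 1) hi.le (hFM hz) hc).1 (hwF z hz)) hn
  -- commutation
  have hθF : ∀ n ∈ F, ∀ w, θ (op P Φ (i + 1) n w) = op P Φ (i + 1) n (θ w) := by
    intro n hn w
    show op P Φ (i + 1) e (op P Φ (i + 1) n w) - op P Φ (i + 1) n w =
      op P Φ (i + 1) n (op P Φ (i + 1) e w - w)
    rw [map_sub, ← op_mul_apply heM (hFM hn), ← op_mul_apply (hFM hn) heM,
      tw.op_comm_of_Φ hi' (hFΦ hn) he]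
  have hθX : ∀ n ∈ X, ∀ w, (∀ m ∈ F, op P Φ (i + 1) m w = w) →
      θ (op P Φ (i + 1) n w) = op P Φ (i + 1) n (θ w) := by
    intro n hn w hw
    have hm := tw.comm_mem_F hA hi' (inv_mem he) hea.inv_left (inv_mem hn)
    show op P Φ (i + 1) e (op P Φ (i + 1) n w) - op P Φ (i + 1) n w =
      op P Φ (i + 1) n (op P Φ (i + 1) e w - w)
    rw [map_sub, sub_left_inj, ← op_mul_apply heM (hXM hn),
      show e * n = n * e * ⁅e⁻¹, n⁻¹⁆ by simp only [commutatorElement_def]; group,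
      op_mul_apply (mul_mem (hXM hn) heM) (hFM hm), hw _ hm, op_mul_apply (hXM hn) heM]
  -- the two averages
  set S1 := opSum P Φ (i + 1) F
  set w := S1 u with hw
  have hwa : op P Φ (i + 1) a w = w := by
    rw [hw, op_opSum_comm hFM haM haF, hua]
  have hwF : ∀ n ∈ F, op P Φ (i + 1) n w = w := fun n hn => op_opSum_apply hFM hn u
  have e1 : θ w = Nat.card F • θ u := by
    rw [← opSum_of_fixed (P := P) (Φ := Φ) F (h1 u hua), hw, opSum_apply, opSum_apply, map_sum]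
    exact Finset.sum_congr rfl fun n hn => hθF n (Finset.mem_filter.1 hn).2 u
  have e2 : θ (opSum P Φ (i + 1) X w) = Nat.card X • θ w := by
    rw [← opSum_of_fixed (P := P) (Φ := Φ) X (h2 w hwa hwF), opSum_apply, opSum_apply, map_sum]
    exact Finset.sum_congr rfl fun n hn => hθX n (Finset.mem_filter.1 hn).2 w hwF
  have e3 : opSum P Φ (i + 1) X w = 0 := by
    rw [hw, opSum_apply, Finset.sum_congr rfl (fun n hn => op_opSum_comm hFM
      (hXM (Finset.mem_filter.1 hn).2) (hFn n (hXP (Finset.mem_filter.1 hn).2)) u), ← map_sum,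
      ← opSum_apply, huX, map_zero]
  rw [e3, map_zero, e1] at e2
  have h := tw.nsmul_eq_zero (i := i + 1) hi.le (tw.not_dvd_card hi' hFP)
    (tw.nsmul_eq_zero (i := i + 1) hi.le (tw.not_dvd_card hi' hXP) e2.symm)
  exact sub_eq_zero.1 h

end Cfsg.Agent.TurullHeight
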