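import Cfsg.Agent.Lib.TurullHeight.Chain
import Cfsg.Agent.Lib.TurullHeight.DifSub
import Cfsg.Agent.Lib.Coprime.ThreeSubgroup
import Cfsg.Agent.Lib.Coprime.Commutator
import Cfsg.Agent.Lib.Components.Subnormal
import Cfsg.Agent.Lib.PGroup.Frattini

/-!
# Irreducible towers

Refining a chain from below gives `P_i` with `[P_{i+1}, P_i] = P_{i+1}`; `Φ_i = Φ(P_i) R_i`, `R_i` the
kernel on `P_{i+1}/Φ_{i+1}`, and `P_i/Φ_i` irreducible under `a` and the lower groups.
-/

set_option autoImplicit false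

namespace Cfsg.Agent.TurullHeight

open Subgroup
open scoped commutatorElement Pointwise

variable {S : Type*} [Group S]

/-- An irreducible tower. -/
structure Tower (G : Subgroup S) (a : S) (T : ℕ) (P Φ R : ℕ → Subgroup S) (p : ℕ → ℕ) : Prop where
  prime : ∀ i ≤ T, (p i).Prime
  pgroup : ∀ i ≤ T, IsPGroup (p i) (P i)
  le : ∀ i ≤ T, P i ≤ G
  inv : ∀ i ≤ T, a ∈ normalizer (P i : Set S)
  norm : ∀ i j, j ≤ i → i ≤ T → P j ≤ normalizer (P i : Set S)
  pne : ∀ i < T, p i ≠ p (i + 1)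
  perfect : ∀ i < T, ⁅P (i + 1), P i⁆ = P (i + 1)
  R_le : ∀ i ≤ T, R i ≤ Φ i
  Φ_le : ∀ i ≤ T, Φ i ≤ P i
  R_iff : ∀ i < T, ∀ x ∈ P i, (x ∈ R i ↔ ∀ y ∈ P (i + 1), ⁅y, x⁆ ∈ Φ (i + 1))
  Φ_inv : ∀ i ≤ T, a ∈ normalizer (Φ i : Set S)
  Φ_norm : ∀ i j, j ≤ i → i ≤ T → P j ≤ normalizer (Φ i : Set S)
  comm_mem : ∀ i ≤ T, ∀ x ∈ P i, ∀ y ∈ P i, ⁅x, y⁆ ∈ Φ i
  pow_mem : ∀ i ≤ T, ∀ x ∈ P i, x ^ p i ∈ Φ i
  gen : ∀ i ≤ T, ∀ H : Subgroup S, H ≤ P i → R i ≤ H → P i ≤ H ⊔ Φ i → P i ≤ H
  Φ_ne : ∀ i ≤ T, ¬ P i ≤ Φ i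
  central : ∀ i ≤ T, ∀ z ∈ Φ i, ∀ y ∈ P i, ⁅z, y⁆ ∈ R i
  irr : ∀ i ≤ T, ∀ M : Subgroup S, M ≤ P i → Φ i ≤ M → a ∈ normalizer (M : Set S) →
    (∀ j < i, P j ≤ normalizer (M : Set S)) → M = Φ i ∨ M = P i
  cfix : ∀ i ≤ T, (∀ j < i, ∀ x ∈ P j, Commute x a) → (∀ x ∈ P i, dif a x ∈ Φ i) →
    ∀ x ∈ P i, Commute x a

/-- Recursion downwards from `T`. -/
def downRec {α : Type*} (top : α) (step : ℕ → α → α) (T : ℕ) : ℕ → α := fun i =>
  Nat.rec top (fun d X => step (T - (d + 1)) X) (T - i)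

theorem downRec_top {α : Type*} (top : α) (step : ℕ → α → α) (T : ℕ) :
    downRec top step T T = top := by
  unfold downRec; rw [Nat.sub_self]; rfl

theorem downRec_lt {α : Type*} (top : α) (step : ℕ → α → α) {T i : ℕ} (h : i < T) :
    downRec top step T i = step i (downRec top step T (i + 1)) := by
  obtain ⟨d, hd⟩ : ∃ d, T - i = d + 1 := ⟨T - i - 1, by omega⟩
  unfold downRec
  rw [hd, show T - (i + 1) = d by omega]
  show step (T - (d + 1)) _ = _
  rw [show T - (d + 1) = i by omega]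

theorem down_induction {T : ℕ} {motive : ℕ → Prop} (top : motive T)
    (step : ∀ i < T, motive (i + 1) → motive i) : ∀ i ≤ T, motive i := by
  intro i hi
  induction d : T - i generalizing i with
  | zero => rwa [show i = T by omega]
  | succ d ih => exact step i (by omega) (ih (i + 1) (by omega) (by omega))

/-- The image of the Frattini subgroup. -/
def frat (X : Subgroup S) : Subgroup S := (frattini X).map X.subtype

theorem frat_le (X : Subgroup S) : frat X ≤ X := map_subtype_le _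

theorem mem_normalizer_commutator [Finite S] {X Y : Subgroup S} {g : S}
    (hX : g ∈ normalizer (X : Set S)) (hY : g ∈ normalizer (Y : Set S)) :
    g ∈ normalizer ((⁅X, Y⁆ : Subgroup S) : Set S) := by
  refine mem_normalizer_fintype fun x hx => ?_
  have h1 : X.map (MulAut.conj g).toMonoidHom ≤ X := by
    rintro _ ⟨y, hy, rfl⟩; exact (mem_normalizer_iff.1 hX y).1 hy
  have h2 : Y.map (MulAut.conj g).toMonoidHom ≤ Y := by
    rintro _ ⟨y, hy, rfl⟩; exact (mem_normalizer_iff.1 hY y).1 hy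
  refine commutator_mono h1 h2 ?_
  rw [← map_commutator]
  exact ⟨x, hx, rfl⟩

theorem le_of_le_sup_frat [Finite S] {X H : Subgroup S} (hH : H ≤ X) (h : X ≤ H ⊔ frat X) :
    X ≤ H := by
  have htop : H.subgroupOf X ⊔ frattini X = ⊤ := by
    refine map_injective X.subtype_injective ?_
    rw [Subgroup.map_sup, map_subgroupOf_eq_of_le hH, ← MonoidHom.range_eq_map, range_subtype]
    exact le_antisymm (sup_le hH (frat_le X)) h
  exact subgroupOf_eq_top.1 (frattini_nongenerating htop)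

/-- The properties of one refined group. -/
structure Refined (a : S) (P E P' : ℕ → Subgroup S) (i : ℕ) : Prop where
  le : P' i ≤ P i
  inv : a ∈ normalizer (P' i : Set S)
  norm : ∀ j < i, P' j ≤ normalizer (P' i : Set S)
  notE : ¬ P' i ≤ E i
  notAct : 0 < i → ¬ ⁅P' i, P' (i - 1)⁆ ≤ E i
  minimal : ∀ Q ≤ P' i, a ∈ normalizer (Q : Set S) → (∀ j < i, P' j ≤ normalizer (Q : Set S)) →
    Q ≠ P' i → (if i = 0 then Q else ⁅Q, P' (i - 1)⁆) ≤ E i

theorem Refined.congr {a : S} {P E P' P'' : ℕ → Subgroup S} {i : ℕ} (h : Refined a P E P' i)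
    (he : ∀ j ≤ i, P'' j = P' j) : Refined a P E P'' i := by
  have h0 := he i le_rfl
  have h1 := he (i - 1) (by omega)
  refine ⟨h0 ▸ h.le, h0 ▸ h.inv, fun j hj => ?_, h0 ▸ h.notE, fun hi => ?_, fun Q hQ ha hn hne => ?_⟩
  · rw [h0, he j hj.le]; exact h.norm j hj
  · rw [h0, h1]; exact h.notAct hi
  · rw [h1]
    exact h.minimal Q (h0 ▸ hQ) ha (fun j hj => he j hj.le ▸ hn j hj) (h0 ▸ hne)

variable [Finite S]

/-- The kernels of a chain. -/
theorem exists_kernels {G : Subgroup S} {a : S} {T : ℕ} {P K : ℕ → Subgroup S} {p : ℕ → ℕ}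
    (hc : Chain G a T P K p) : ∃ E : ℕ → Subgroup S, (∀ i ≤ T, E i ≤ K i ∧
      a ∈ normalizer (E i : Set S) ∧ ∀ j ≤ i, P j ≤ normalizer (E i : Set S)) ∧
      E T = P T ⊓ K T ∧ ∀ i < T, E i = P i ⊓ modCent (P (i + 1)) (E (i + 1)) := by
  set E := downRec (P T ⊓ K T) (fun i X => P i ⊓ modCent (P (i + 1)) X) T with hE
  refine ⟨E, down_induction ?_ ?_, downRec_top _ _ _, fun i hi => downRec_lt _ _ hi⟩
  · rw [hE, downRec_top]
    refine ⟨inf_le_right, inf_normalizer_le_normalizer_inf ⟨hc.inv T le_rfl, hc.top_inv⟩,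
      fun j hj g hg => inf_normalizer_le_normalizer_inf ⟨?_, hc.top_norm j hj hg⟩⟩
    rcases hj.eq_or_lt with rfl | hlt
    exacts [le_normalizer hg, hc.norm T j hlt le_rfl hg]
  · intro i hi ⟨hle, hinv, hnorm⟩
    rw [hE, downRec_lt _ _ hi, ← hE]
    refine ⟨fun x hx => hc.kle i hi x hx.1 fun y hy => hle (hx.2.2 y hy),
      inf_normalizer_le_normalizer_inf ⟨hc.inv i hi.le,
        mem_normalizer_modCent (hc.inv (i + 1) hi) hinv⟩, fun j hj g hg =>
      inf_normalizer_le_normalizer_inf ⟨?_,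
        mem_normalizer_modCent (hc.norm (i + 1) j (by omega) hi hg) (hnorm j (by omega) hg)⟩⟩
    rcases hj.eq_or_lt with rfl | hlt
    exacts [le_normalizer hg, hc.norm i j hlt hi.le hg]

/-- The refined groups. -/
theorem exists_refined {G : Subgroup S} {a : S} {T : ℕ} {P K : ℕ → Subgroup S} {p : ℕ → ℕ}
    (hc : Chain G a T P K p) {E : ℕ → Subgroup S} (hEle : ∀ i ≤ T, E i ≤ K i)
    (hE : ∀ i < T, E i = P i ⊓ modCent (P (i + 1)) (E (i + 1)))
    (hEn : ∀ i ≤ T, ∀ j ≤ i, P j ≤ normalizer (E i : Set S)) :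
    ∃ P' : ℕ → Subgroup S, ∀ i ≤ T, Refined a P E P' i := by
  suffices ∀ m ≤ T, ∃ P' : ℕ → Subgroup S, ∀ i ≤ m, Refined a P E P' i from this T le_rfl
  intro m hm
  induction m with
  | zero =>
    obtain ⟨Q, ⟨hQP, hQa, hQE⟩, hmin⟩ := (Set.toFinite {Q : Subgroup S | Q ≤ P 0 ∧
      a ∈ normalizer (Q : Set S) ∧ ¬ Q ≤ E 0}).exists_minimal
      ⟨P 0, le_rfl, hc.inv 0 hm, fun h => hc.notK 0 hm (h.trans (hEle 0 hm))⟩
    refine ⟨fun _ => Q, fun i hi => ?_⟩
    obtain rfl : i = 0 := by omega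
    refine ⟨hQP, hQa, fun j hj => by omega, hQE, fun h => by omega, fun X hX ha _ hne => ?_⟩
    rw [if_pos rfl]
    by_contra hXE
    exact hne (le_antisymm hX (hmin ⟨hX.trans hQP, ha, hXE⟩ hX))
  | succ m ih =>
    obtain ⟨P', hP'⟩ := ih (by omega)
    obtain ⟨Q, ⟨hQP, hQa, hQn, hQE⟩, hmin⟩ := (Set.toFinite {Q : Subgroup S | Q ≤ P (m + 1) ∧
      a ∈ normalizer (Q : Set S) ∧ (∀ j < m + 1, P' j ≤ normalizer (Q : Set S)) ∧
      ¬ ⁅Q, P' m⁆ ≤ E (m + 1)}).exists_minimal ⟨P (m + 1), le_rfl, hc.inv _ hm,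
        fun j hj => (hP' j (by omega)).le.trans (hc.norm _ j hj hm), fun h => by
        refine (hP' m le_rfl).notE fun x hx => ?_
        have hxP := (hP' m le_rfl).le hx
        rw [hE m (by omega)]
        exact ⟨hxP, hEn (m + 1) hm m (by omega) hxP,
          fun y hy => h (commutator_mem_commutator hy hx)⟩⟩
    refine ⟨fun i => if i ≤ m then P' i else Q, fun i hi => ?_⟩
    rcases Nat.lt_or_ge m i with hmi | hmi
    · obtain rfl : i = m + 1 := by omega
      have e0 : (if m + 1 ≤ m then P' (m + 1) else Q) = Q := if_neg (by omega)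
      have e1 : ∀ j < m + 1, (if j ≤ m then P' j else Q) = P' j := fun j hj => if_pos (by omega)
      refine ⟨e0.symm ▸ hQP, e0.symm ▸ hQa, fun j hj => ?_, fun h => hQE ?_, fun _ => ?_,
        fun X hX ha hn hne => ?_⟩
      · rw [e0, e1 j hj]; exact hQn j hj
      · rw [e0] at h
        exact ((commutator_le.2 fun x hx y hy => (le_normalizer_iff_commutator_le_left.1
          (hQn m (by omega))) (commutator_mem_commutator hx hy))).trans h
      · show ¬ ⁅(if m + 1 ≤ m then P' (m + 1) else Q),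
          (if m + 1 - 1 ≤ m then P' (m + 1 - 1) else Q)⁆ ≤ E (m + 1)
        rw [e0, show m + 1 - 1 = m by omega, e1 m (by omega)]
        exact hQE
      · rw [if_neg (by omega), show m + 1 - 1 = m by omega, e1 m (by omega)]
        rw [e0] at hX hne
        by_contra hXE
        exact hne (le_antisymm hX (hmin ⟨hX.trans hQP, ha,
          fun j hj => (e1 j hj) ▸ hn j hj, hXE⟩ hX))
    · exact (hP' i hmi).congr fun j hj => if_pos (by omega)

/-- Existence of irreducible towers. -/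
theorem exists_tower {G : Subgroup S} {a : S} {r : ℕ} (hA : Ambient G a r) {T : ℕ}
    (hT : resid G T ≠ ⊥) : ∃ P Φ R p, Tower G a T P Φ R p := by
  -- a prime for the top
  have hne : ¬ resid G T ≤ (⊥ : Subgroup S) ⊔ resid G (T + 1) := by
    rw [bot_sup_eq]
    exact fun h => nilRes_ne (Coprime.isSolvable_of_le (resid_le G T) hA.solv) hT
      (le_antisymm (nilRes_le _) h)
  obtain ⟨l, hl, P₀, hP₀, hP₀le, hP₀n⟩ := exists_pGroup_not_le hne
  obtain ⟨P, K, p, hc, -, -, -⟩ := exists_chain hA T G ⊥ 1 le_rfl hA.inv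
    (by rw [normalizer_eq_top]; exact le_top) (by rw [normalizer_eq_top]; exact mem_top a)
    ⟨l, hl, hl.ne_one, P₀, hP₀, hP₀le, hP₀n⟩
  obtain ⟨E, hEp, hET, hE⟩ := exists_kernels hc
  obtain ⟨P', hP'⟩ := exists_refined hc (fun i hi => (hEp i hi).1) hE fun i hi => (hEp i hi).2.2
  have hcop : ∀ i < T, (Nat.card (P' i)).Coprime (Nat.card (P' (i + 1))) := fun i hi => by
    have := Fact.mk (hc.prime i hi.le)
    have := Fact.mk (hc.prime (i + 1) hi)
    exact IsPGroup.coprime_card_of_ne _ _ (hc.pne i hi) _ _ ((hc.pgroup i hi.le).to_le (hP' i hi.le).le)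
      ((hc.pgroup (i + 1) hi).to_le (hP' (i + 1) hi).le)
  have hnorm : ∀ i j, j ≤ i → i ≤ T → P' j ≤ normalizer (P' i : Set S) := fun i j hj hi => by
    rcases hj.eq_or_lt with rfl | hlt
    exacts [le_normalizer, (hP' i hi).norm j hlt]
  have hsol : ∀ i ≤ T, Group.IsSolvable (P' i) := fun i hi =>
    Coprime.isSolvable_of_le ((hP' i hi).le.trans (hc.le i hi)) hA.solv
  have hperf : ∀ i < T, ⁅P' (i + 1), P' i⁆ = P' (i + 1) := by
    intro i hi
    by_contra hne'
    have hle := le_normalizer_iff_commutator_le_left.1 (hnorm (i + 1) i (by omega) hi)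
    have h := (hP' (i + 1) hi).minimal _ hle
      (mem_normalizer_commutator (hP' _ hi).inv (hP' i hi.le).inv)
      (fun j hj g hg => mem_normalizer_commutator (hnorm (i + 1) j hj.le hi hg)
        (hnorm i j (by omega) hi.le hg)) hne'
    rw [if_neg (by omega), show i + 1 - 1 = i by omega,
      Coprime.commutator_commutator_eq (hnorm (i + 1) i (by omega) hi) (hcop i hi)
        (Or.inl (hsol i hi.le))] at h
    exact (hP' (i + 1) hi).notAct (by omega) (by rwa [show i + 1 - 1 = i by omega])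
  -- the kernels
  set R := downRec (P' T ⊓ K T)
    (fun i X => P' i ⊓ modCent (P' (i + 1)) (frat (P' (i + 1)) ⊔ X)) T with hR
  set Φ := fun i => frat (P' i) ⊔ R i with hΦ
  have hfr : ∀ i (g : S), g ∈ normalizer (P' i : Set S) → g ∈ normalizer (frat (P' i) : Set S) :=
    fun i g hg => Components.normalizer_le_normalizer_map_of_characteristic _ _ hg
  have hRp : ∀ i ≤ T, R i ≤ P' i ∧ a ∈ normalizer (R i : Set S) ∧
      (∀ j ≤ i, P' j ≤ normalizer (R i : Set S)) ∧ P' i ⊓ E i ≤ R i := by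
    refine down_induction ?_ ?_
    · rw [hR, downRec_top]
      refine ⟨inf_le_left, inf_normalizer_le_normalizer_inf ⟨(hP' T le_rfl).inv, hc.top_inv⟩,
        fun j hj g hg => inf_normalizer_le_normalizer_inf
          ⟨hnorm T j hj le_rfl hg, hc.top_norm j hj ((hP' j hj).le hg)⟩,
        fun x hx => ⟨hx.1, (hET ▸ hx.2 : x ∈ P T ⊓ K T).2⟩⟩
    · intro i hi ⟨hle, hinv, hn, hER⟩
      rw [hR, downRec_lt _ _ hi, ← hR]
      have hΦn : ∀ g, g ∈ normalizer (P' (i + 1) : Set S) → g ∈ normalizer (R (i + 1) : Set S) →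
          g ∈ normalizer ((frat (P' (i + 1)) ⊔ R (i + 1) : Subgroup S) : Set S) := fun g h1 h2 =>
        mem_normalizer_sup (hfr _ g h1) h2
      refine ⟨inf_le_left, inf_normalizer_le_normalizer_inf ⟨(hP' i hi.le).inv,
        mem_normalizer_modCent (hP' _ hi).inv (hΦn a (hP' _ hi).inv hinv)⟩, fun j hj g hg =>
        inf_normalizer_le_normalizer_inf ⟨hnorm i j hj hi.le hg, mem_normalizer_modCent
          (hnorm _ j (by omega) hi hg) (hΦn g (hnorm _ j (by omega) hi hg) (hn j (by omega) hg))⟩,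
        fun x ⟨hx, hxE⟩ => ?_⟩
      rw [hE i hi] at hxE
      refine ⟨hx, hΦn x (hnorm _ i (by omega) hi hx) (hn i (by omega) hx), fun y hy =>
        mem_sup_right (hER ⟨?_, hxE.2.2 y ((hP' _ hi).le hy)⟩)⟩
      exact le_normalizer_iff_commutator_le_left.1 (hnorm _ i (by omega) hi)
        (commutator_mem_commutator hy hx)
  have hΦle : ∀ i ≤ T, Φ i ≤ P' i := fun i hi => sup_le (frat_le _) (hRp i hi).1
  have hΦn : ∀ i j, j ≤ i → i ≤ T → P' j ≤ normalizer (Φ i : Set S) := fun i j hj hi g hg =>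
    mem_normalizer_sup (hfr _ g (hnorm i j hj hi hg)) ((hRp i hi).2.2.1 j hj hg)
  have hgen : ∀ i ≤ T, ∀ H : Subgroup S, H ≤ P' i → R i ≤ H → P' i ≤ H ⊔ Φ i → P' i ≤ H :=
    fun i _ H hH hRH h => le_of_le_sup_frat hH (h.trans (sup_le le_sup_left
      (sup_le le_sup_right (hRH.trans le_sup_left))))
  have hΦne : ∀ i ≤ T, ¬ P' i ≤ Φ i := by
    refine down_induction (fun h => ?_) fun i hi ih h => ih ?_
    · have h1 := hgen T le_rfl (R T) (hRp T le_rfl).1 le_rfl (h.trans le_sup_right)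
      refine (hP' T le_rfl).notE fun x hx => ?_
      have h2 := h1 hx
      rw [hR, downRec_top] at h2
      rw [hET]
      exact ⟨(hP' T le_rfl).le hx, h2.2⟩
    · have h1 := hgen i hi.le (R i) (hRp i hi.le).1 le_rfl (h.trans le_sup_right)
      rw [← hperf i hi]
      refine commutator_le.2 fun y hy x hx => ?_
      have h2 := h1 hx
      rw [hR, downRec_lt _ _ hi] at h2
      exact h2.2.2 y hy
  have hΦa : ∀ i ≤ T, a ∈ normalizer (Φ i : Set S) := fun i hi =>
    mem_normalizer_sup (hfr _ a (hP' i hi).inv) (hRp i hi).2.1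
  -- proper invariant subgroups are centralised by the previous group
  have hproper : ∀ i ≤ T, ∀ Q ≤ P' i, a ∈ normalizer (Q : Set S) →
      (∀ j < i, P' j ≤ normalizer (Q : Set S)) → Q ≠ P' i →
      (if i = 0 then Q else ⁅Q, P' (i - 1)⁆) ≤ R i := by
    intro i hi Q hQ ha hn hne'
    refine le_trans (le_inf ?_ ((hP' i hi).minimal Q hQ ha hn hne')) (hRp i hi).2.2.2
    split_ifs with h
    · exact hQ
    · exact (le_normalizer_iff_commutator_le_left.1 (hn (i - 1) (by omega))).trans hQ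
  refine ⟨P', Φ, R, p, fun i hi => hc.prime i hi, fun i hi => (hc.pgroup i hi).to_le (hP' i hi).le,
    fun i hi => (hP' i hi).le.trans (hc.le i hi), fun i hi => (hP' i hi).inv, hnorm, hc.pne, hperf,
    fun i _ => le_sup_right, hΦle, fun i hi x hx => ?_, hΦa, hΦn,
    fun i hi x hx y hy => ?_, fun i hi x hx => ?_, hgen, hΦne, ?_, ?_, ?_⟩
  · rw [hR, downRec_lt _ _ hi]
    exact ⟨fun h => h.2.2, fun h => ⟨hx, hΦn (i + 1) i (by omega) hi hx, h⟩⟩
  · have := Fact.mk (hc.prime i hi)
    refine mem_sup_left ⟨⁅(⟨x, hx⟩ : P' i), ⟨y, hy⟩⁆, PGroup.commutator_le_frattini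
      ((hc.pgroup i hi).to_le (hP' i hi).le) (commutator_mem_commutator (mem_top _) (mem_top _)), ?_⟩
    rw [map_commutatorElement]; rfl
  · have := Fact.mk (hc.prime i hi)
    exact mem_sup_left ⟨(⟨x, hx⟩ : P' i) ^ p i,
      PGroup.pow_mem_frattini ((hc.pgroup i hi).to_le (hP' i hi).le) _, rfl⟩
  · -- central
    intro i hi
    have hd := hproper i hi (Φ i) (hΦle i hi) (hΦa i hi) (fun j hj => hΦn i j hj.le hi)
      (fun h => hΦne i hi h.ge)
    have hRn := (hRp i hi).2.2.1
    have key : ⁅Φ i, P' i⁆ ≤ R i := by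
      rcases Nat.eq_zero_or_pos i with rfl | hpos
      · rw [if_pos rfl] at hd
        exact (commutator_mono hd le_rfl).trans (le_normalizer_iff_commutator_le_left.1 (hRn 0 le_rfl))
      · rw [if_neg (by omega)] at hd
        have e : P' i = ⁅P' (i - 1), P' i⁆ := by
          rw [commutator_comm]
          have := hperf (i - 1) (by omega)
          rwa [show i - 1 + 1 = i by omega, eq_comm] at this
        rw [commutator_comm]
        conv_lhs => rw [e]
        refine Coprime.three_subgroup_le (hRn (i - 1) (by omega)) (hRn i le_rfl)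
          ((hΦle i hi).trans (hRn i le_rfl)) ?_ ?_
        · refine (commutator_mono ?_ le_rfl).trans hd
          rw [commutator_comm]
          exact le_normalizer_iff_commutator_le_left.1 (hΦn i i le_rfl hi)
        · exact (commutator_mono hd le_rfl).trans
            (le_normalizer_iff_commutator_le_left.1 (hRn i le_rfl))
    exact fun z hz y hy => key (commutator_mem_commutator hz hy)
  · -- irreducible
    intro i hi M hMP hΦM hMa hMn
    by_cases hMe : M = P' i
    · exact Or.inr hMe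
    refine Or.inl (le_antisymm ?_ hΦM)
    have hd := hproper i hi M hMP hMa hMn hMe
    rcases Nat.eq_zero_or_pos i with rfl | hpos
    · rw [if_pos rfl] at hd
      exact hd.trans le_sup_right
    rw [if_neg (by omega)] at hd
    set A := P' (i - 1) with hA'
    set W : Subgroup S := normalizer (Φ i : Set S) with hW
    have hn : ((Φ i).subgroupOf W).Normal := Coprime.normal_subgroupOf_of_le_normalizer le_rfl
    let f := QuotientGroup.mk' ((Φ i).subgroupOf W)
    have hPW : P' i ≤ W := hΦn i i le_rfl hi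
    have hAW : A ≤ W := hΦn i (i - 1) (by omega) hi
    have hfmem : ∀ x (hx : x ∈ Φ i), f ⟨x, le_normalizer hx⟩ = 1 := fun x hx =>
      (QuotientGroup.eq_one_iff _).2 hx
    set V := ((P' i).subgroupOf W).map f with hV
    have hVc : IsMulCommutative V := ⟨⟨by
      rintro ⟨_, x, hx, rfl⟩ ⟨_, y, hy, rfl⟩
      refine Subtype.ext ?_
      show f x * f y = f y * f x
      rw [← commutatorElement_eq_one_iff_mul_comm, ← map_commutatorElement]
      refine (QuotientGroup.eq_one_iff _).2 ?_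
      have := Fact.mk (hc.prime i hi)
      refine mem_sup_left ⟨⁅(⟨x, hx⟩ : P' i), ⟨y, hy⟩⁆, PGroup.commutator_le_frattini
        ((hc.pgroup i hi).to_le (hP' i hi).le) (commutator_mem_commutator (mem_top _) (mem_top _)),
        ?_⟩
      rw [map_commutatorElement]; rfl⟩⟩
    have hAV : (A.subgroupOf W).map f ≤ normalizer (V : Set (W ⧸ (Φ i).subgroupOf W)) := by
      rintro _ ⟨g, hg, rfl⟩
      refine mem_normalizer_fintype ?_
      rintro _ ⟨y, hy, rfl⟩
      exact ⟨g * y * g⁻¹, (mem_normalizer_iff.1 (hnorm i (i - 1) (by omega) hi hg) _).1 hy,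
        by rw [map_mul, map_mul, map_inv]⟩
    have hcop' : (Nat.card ((A.subgroupOf W).map f)).Coprime (Nat.card V) := by
      have := hcop (i - 1) (by omega)
      rw [show i - 1 + 1 = i by omega] at this
      refine (this.coprime_dvd_left ?_).coprime_dvd_right ?_
      · exact (card_map_dvd _ _).trans (Nat.card_congr (subgroupOfEquivOfLe hAW).toEquiv).dvd
      · exact (card_map_dvd _ _).trans (Nat.card_congr (subgroupOfEquivOfLe hPW).toEquiv).dvd
    have hbot := Coprime.inf_centralizer_inf_commutator_eq_bot hAV hcop'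
    intro x hx
    have hxV : f ⟨x, hPW (hMP hx)⟩ ∈ V := ⟨⟨x, hPW (hMP hx)⟩, hMP hx, rfl⟩
    have hmem : f ⟨x, hPW (hMP hx)⟩ ∈ (V ⊓ centralizer (((A.subgroupOf W).map f : Subgroup _) :
        Set (W ⧸ (Φ i).subgroupOf W))) ⊓ ⁅V, (A.subgroupOf W).map f⁆ := by
      refine ⟨⟨hxV, mem_centralizer_iff.2 ?_⟩, ?_⟩
      · rintro _ ⟨g, hg, rfl⟩
        rw [eq_comm, ← commutatorElement_eq_one_iff_mul_comm, ← map_commutatorElement]
        exact (QuotientGroup.eq_one_iff _).2 ((le_sup_right : R i ≤ Φ i)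
          (hd (commutator_mem_commutator hx hg)))
      · have e : ⁅V, (A.subgroupOf W).map f⁆ = V := by
          rw [hV, ← map_commutator]
          congr 1
          refine map_injective W.subtype_injective ?_
          rw [map_commutator, map_subgroupOf_eq_of_le hPW, map_subgroupOf_eq_of_le hAW, hA']
          have := hperf (i - 1) (by omega)
          rwa [show i - 1 + 1 = i by omega] at this
        rw [e]
        exact hxV
    rw [hbot, mem_bot] at hmem
    exact ((QuotientGroup.eq_one_iff _).1 hmem : _)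
  · -- fixed by `a`
    intro i hi hlow htriv x hx
    set C := P' i ⊓ centralizer ({a} : Set S) with hC
    suffices h : C = P' i by
      exact (mem_centralizer_singleton_iff.1 ((h.ge hx : x ∈ C).2) : _)
    by_contra hne'
    have hCn : ∀ g, g ∈ normalizer (P' i : Set S) → Commute g a → g ∈ normalizer (C : Set S) :=
      fun g hg hga => mem_normalizer_fintype fun z ⟨hz, hz'⟩ => ⟨(mem_normalizer_iff.1 hg z).1 hz,
        mem_centralizer_singleton_iff.2
          ((hga.mul_left (mem_centralizer_singleton_iff.1 hz' : Commute z a)).mul_left hga.inv_left).eq⟩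
    have hd := hproper i hi C inf_le_left (hCn a (hP' i hi).inv (Commute.refl a))
      (fun j hj g hg => hCn g (hnorm i j hj.le hi hg) (hlow j hj g hg)) hne'
    -- the fixed elements cover `P' i` modulo `R`
    have hle : P' i ≤ C ⊔ R i := by
      refine hgen i hi _ (sup_le inf_le_left (hRp i hi).1) le_sup_right fun g hg => ?_
      have hrp : r ≠ p i := fun h => hA.cop (by
        have := Fact.mk (hc.prime i hi)
        obtain ⟨e, he⟩ := IsPGroup.iff_card.1 ((hc.pgroup i hi).to_le (hP' i hi).le)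
        refine dvd_trans ?_ (card_dvd_of_le ((hP' i hi).le.trans (hc.le i hi)))
        rw [he, h]
        refine dvd_pow_self _ fun he0 => hΦne i hi ?_
        rw [he0, pow_zero] at he
        rw [Subgroup.card_eq_one.1 he]
        exact bot_le)
      obtain ⟨c, hc', hca⟩ := exists_fix_coset hA.hr hA.a_pow (hc.prime i hi) hrp
        (((hc.pgroup i hi).to_le (hP' i hi).le).to_le (hΦle i hi))
        (fun m hm => (mem_normalizer_iff.1 (hΦa i hi) m).1 hm) (htriv g hg)
      have hcP : c ∈ P' i := by simpa using mul_mem hg (hΦle i hi hc')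
      rw [show g = c * (g⁻¹ * c)⁻¹ by group]
      exact mul_mem (mem_sup_left (mem_sup_left ⟨hcP, mem_centralizer_singleton_iff.2 hca.eq⟩))
        (mem_sup_right (inv_mem hc'))
    rcases Nat.eq_zero_or_pos i with rfl | hpos
    · rw [if_pos rfl] at hd
      exact hΦne 0 hi (hle.trans (sup_le (hd.trans le_sup_right) le_sup_right))
    rw [if_neg (by omega)] at hd
    have hRn := (hRp i hi).2.2.1
    have hmod : C ⊔ R i ≤ modCent (P' (i - 1)) (R i) := sup_le (fun c hc' =>
      ⟨hRn i le_rfl hc'.1, fun y hy => by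
        rw [← commutatorElement_inv]
        exact inv_mem (hd (commutator_mem_commutator hc' hy))⟩) fun z hz =>
      ⟨le_normalizer hz, fun y hy => mul_mem
        ((mem_normalizer_iff.1 (hRn (i - 1) (by omega) hy) z).1 hz) (inv_mem hz)⟩
    have hperf' := hperf (i - 1) (by omega)
    rw [show i - 1 + 1 = i by omega] at hperf'
    refine hΦne i hi (le_trans ?_ le_sup_right)
    rw [← hperf']
    refine commutator_le.2 fun z hz y hy => ?_
    rw [← commutatorElement_inv]
    exact inv_mem ((hmod (hle hz)).2 y hy)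

end Cfsg.Agent.TurullHeight
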