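import Cfsg.Agent.Lib.TurullHeight.Config
import Mathlib.Algebra.CharP.Lemmas

/-!
# Operators commuting with `A`

An operator `B` commuting with `A` and inducing `β` on `Q` gives an automorphism `φ` of the matrix
algebra commuting with `ψ`. If `B` fixes the fixed vectors of `A`, then `φ` fixes `γ` and the blocks
meeting them.
-/

set_option autoImplicit false

namespace Cfsg.Agent.TurullHeight

open Finset Module
open FittingHeight (scalarSub)

variable {k W : Type*} [Field k] [AddCommGroup W] [Module k W] {Q : Type*} [Group Q]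
  {π : Q →* Module.End k W} {r : ℕ} {c : Setup π r}

namespace Intertwines

variable {B : (Module.End k W)ˣ} {β : MulAut Q}

theorem mk_iterate (hB : Intertwines π B β) {x : Q}
    (h : ((β x : Q) : Q ⧸ scalarSub π) = x) (n : ℕ) :
    (((β ^ n) x : Q) : Q ⧸ scalarSub π) = x := by
  induction n with
  | zero => rfl
  | succ n ih =>
    rw [pow_succ, MulAut.mul_apply]
    exact ((hB.pow n).congr h).trans ih

end Intertwines

/-- `B` with its automorphism of the matrix algebra. -/
structure Twist (S : Split c) (B : (Module.End k W)ˣ) (β : MulAut Q) where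
  intertwines : Intertwines π B β
  comm : B * c.A = c.A * B
  /-- the automorphism -/
  φ : Module.End k (Fin S.F.m → k) ≃ₐ[k] Module.End k (Fin S.F.m → k)
  φ_u : ∀ x, φ (S.F.u x) = S.F.u (β x)
  φ_ι : ∀ z, S.F.ι (φ z) = conjEnd B (S.F.ι z)

theorem exists_twist (S : Split c) {B : (Module.End k W)ˣ} {β : MulAut Q}
    (hB : Intertwines π B β) (hBA : B * c.A = c.A * B) : Nonempty (Twist S B β) := by
  obtain ⟨φ, h1, h2⟩ := S.F.exists_conj B β hB
  exact ⟨⟨hB, hBA, φ, h1, h2⟩⟩

namespace Twist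

variable {S : Split c} {B : (Module.End k W)ˣ} {β : MulAut Q} (T : Twist S B β)

theorem B_ι (z : Module.End k (Fin S.F.m → k)) :
    (B : Module.End k W) * S.F.ι z = S.F.ι (T.φ z) * B := by
  rw [T.φ_ι, conjEnd_apply, mul_assoc, Units.inv_mul, mul_one]

theorem φ_ψ (z : Module.End k (Fin S.F.m → k)) : T.φ (S.ψ z) = S.ψ (T.φ z) := by
  apply S.F.ι_inj
  rw [T.φ_ι, S.ψ_ι, S.ψ_ι, T.φ_ι, conjEnd_apply, conjEnd_apply, conjEnd_apply, conjEnd_apply]
  have e : (B : Module.End k W) * c.A = c.A * B := by rw [← Units.val_mul, T.comm, Units.val_mul]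
  have e2 : ((c.A⁻¹ : (Module.End k W)ˣ) : Module.End k W) * (B⁻¹ : (Module.End k W)ˣ) =
      (B⁻¹ : (Module.End k W)ˣ) * (c.A⁻¹ : (Module.End k W)ˣ) := by
    rw [← Units.val_mul, ← Units.val_mul, ← mul_inv_rev, ← mul_inv_rev, T.comm]
  simp only [mul_assoc, e2]
  rw [← mul_assoc (B : Module.End k W), e, mul_assoc]

theorem φ_pow_u (n : ℕ) (x : Q) :
    (T.φ.toLinearMap ^ n) (S.F.u x) = S.F.u ((β ^ n) x) := by
  induction n with
  | zero => rfl
  | succ n ih =>
    rw [pow_succ', Module.End.mul_apply, ih, pow_succ', MulAut.mul_apply]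
    exact T.φ_u _

theorem ψ_pow_u (n : ℕ) (x : Q) :
    (S.ψ.toLinearMap ^ n) (S.F.u x) = S.F.u ((c.α ^ n) x) := by
  induction n with
  | zero => rfl
  | succ n ih =>
    rw [pow_succ', Module.End.mul_apply, ih, pow_succ', MulAut.mul_apply]
    exact S.ψ_u _

/-- If `β ^ n` is the identity on the classes, `φ ^ n = 1`. -/
theorem φ_pow_eq_one [Finite Q] [Nontrivial W] {n : ℕ}
    (hn : ∀ x, (((β ^ n) x : Q) : Q ⧸ scalarSub π) = x) : T.φ.toLinearMap ^ n = 1 := by
  refine S.F.ext_u fun x => ?_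
  rw [T.φ_pow_u, Module.End.one_apply]
  apply S.F.ι_inj
  rw [S.F.ι_u, S.F.ι_u]
  refine c.apply_eq_of_mk_eq (T.intertwines.pow n) ?_ hn x
  exact (Commute.pow_left (show Commute B c.A from T.comm) n).eq

/-- `φ γ` is a scalar multiple of `γ`. -/
theorem exists_smul [Finite Q] [IsAlgClosed k] :
    ∃ a : k, a ^ r = 1 ∧ T.φ S.γ = a • S.γ := by
  have h : ∀ w, T.φ S.γ * w = S.ψ w * T.φ S.γ := by
    intro w
    obtain ⟨z, rfl⟩ := T.φ.surjective w
    rw [← map_mul, S.γ_ψ, map_mul, T.φ_ψ]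
  have h3 : S.γ ^ (r - 1) * T.φ S.γ ∈ Subalgebra.center k (Module.End k (Fin S.F.m → k)) := by
    rw [Subalgebra.mem_center_iff]
    intro w
    rw [mul_assoc, h, ← mul_assoc (S.γ ^ (r - 1)), S.γ'_ψ, mul_assoc]
  rw [Algebra.IsCentral.center_eq_bot, Algebra.mem_bot] at h3
  obtain ⟨a, ha⟩ := h3
  have hne : Nontrivial (Fin S.F.m → k) := by
    have : Nonempty (Fin S.F.m) := ⟨⟨0, S.F.m_pos⟩⟩
    infer_instance
  have he : T.φ S.γ = a • S.γ := by
    calc T.φ S.γ = S.γ * (S.γ ^ (r - 1) * T.φ S.γ) := by rw [← mul_assoc, S.mul_γ', one_mul]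
      _ = a • S.γ := by rw [← ha, Algebra.algebraMap_eq_smul_one, mul_smul_comm, mul_one]
  refine ⟨a, ?_, he⟩
  have h2 : T.φ (S.γ ^ r) = (a • S.γ) ^ r := by rw [map_pow, he]
  rw [smul_pow, S.γ_pow, map_one] at h2
  exact smul_left_injective k (one_ne_zero (α := Module.End k (Fin S.F.m → k)))
    ((h2.symm).trans (one_smul k _).symm)

variable (hfix : ∀ x, (c.A : Module.End k W) x = x → (B : Module.End k W) x = x)

include hfix

/-- `φ` fixes `γ`. -/
theorem φ_γ [Finite Q] [IsAlgClosed k] {j : Fin r} (hj : S.Supp j) : T.φ S.γ = S.γ := by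
  obtain ⟨a, -, ha⟩ := T.exists_smul
  obtain ⟨x, hx, hne⟩ := hj
  set y := S.F.ι (S.e j) x with hy
  have hAy : (c.A : Module.End k W) y = y := by
    rw [hy, ← Module.End.mul_apply, (S.A_commute_e j).eq, Module.End.mul_apply, hx]
  have hγy : S.F.ι S.γ y = S.ζ ^ (j : ℕ) • y := by
    rw [hy, ← Module.End.mul_apply, ← map_mul,
      show S.γ * S.e j = S.ζ ^ (j : ℕ) • S.e j from mul_eigenIdem S.γ_pow S.ζ_prim j, map_smul,
      LinearMap.smul_apply]
  have h1 := LinearMap.congr_fun (T.B_ι S.γ) y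
  rw [Module.End.mul_apply, Module.End.mul_apply, hγy, map_smul, hfix y hAy, ha, map_smul,
    LinearMap.smul_apply, hγy, smul_smul] at h1
  have h2 := smul_left_injective k hne h1
  have ha1 : a = 1 := by
    have h0 : S.ζ ^ (j : ℕ) ≠ 0 := pow_ne_zero _ (S.ζ_prim.ne_zero c.hr.ne_zero)
    exact mul_right_cancel₀ h0 (h2.symm.trans (one_mul _).symm)
  rw [ha, ha1, one_smul]

omit hfix in
theorem φ_e (h : T.φ S.γ = S.γ) (i : Fin r) : T.φ (S.e i) = S.e i := by
  simp only [Split.e, eigenIdem, map_smul, map_sum, map_pow, h]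

/-- `φ` fixes the blocks meeting the fixed vectors. -/
theorem φ_block [Finite Q] [IsAlgClosed k] {j : Fin r} (hj : S.Supp j)
    (z : Module.End k (Fin S.F.m → k)) :
    T.φ (S.e j * z * S.e j) = S.e j * z * S.e j := by
  have hγ := T.φ_γ hfix hj
  obtain ⟨i, hi, hone⟩ := S.exists_partner hj
  have he : ∀ w, T.φ (S.e j * w * S.e j) = S.e j * T.φ w * S.e j := fun w => by
    rw [map_mul, map_mul, T.φ_e hγ]
  rw [← sub_eq_zero]
  refine S.F.faithful (fun w => S.f_commute w i) hi (LinearMap.ext fun x => ?_)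
  set Z := S.e j * z * S.e j with hZ
  have hlam : ∀ w, w * S.e j = w → S.F.ι w (S.f i x) = S.F.ι w (S.F.ι (S.e j) (S.f i x)) :=
    fun w hw => by rw [← Module.End.mul_apply (S.F.ι w) (S.F.ι (S.e j)), ← map_mul, hw]
  have hZe : Z * S.e j = Z := by rw [hZ, mul_assoc, (S.he.idem j).eq]
  have hφZe : T.φ Z * S.e j = T.φ Z := by rw [hZ, he, mul_assoc, (S.he.idem j).eq]
  set y := S.F.ι (S.e j) (S.f i x) with hy
  have hAy : (c.A : Module.End k W) y = y := S.fixed_apply hone x
  have hw : S.F.ι Z y = S.F.ι (S.e j) (S.f i (S.F.ι (z * S.e j) x)) := by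
    have hZ' : Z * S.e j = S.e j * (z * S.e j) := by rw [hZe, hZ, mul_assoc]
    rw [← Module.End.mul_apply (S.f i), ← (S.f_commute (z * S.e j) i).eq, Module.End.mul_apply, hy,
      ← Module.End.mul_apply (S.F.ι Z) (S.F.ι (S.e j)), ← map_mul, hZ', map_mul,
      Module.End.mul_apply]
  have hAw : (c.A : Module.End k W) (S.F.ι Z y) = S.F.ι Z y := by
    rw [hw]; exact S.fixed_apply hone _
  have h1 := LinearMap.congr_fun (T.B_ι Z) y
  rw [Module.End.mul_apply, Module.End.mul_apply, hfix y hAy, hfix _ hAw] at h1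
  rw [Module.End.mul_apply, map_sub, LinearMap.sub_apply, hlam Z hZe, hlam _ hφZe, ← h1,
    sub_self, LinearMap.zero_apply]


end Twist

/-- An automorphism fixing the fixed points of `ψ` moves no class, if its period is prime to `r`. -/
theorem Twist.mk_eq_of_fixes [Finite Q] [Nontrivial W] {S : Split c} {B : (Module.End k W)ˣ}
    {β : MulAut Q} (T : Twist S B β) (hpow : S.ψ.toLinearMap ^ r = 1)
    (hfix : ∀ z, S.ψ z = z → T.φ z = z) {L : ℕ} (hL : ¬ r ∣ L)
    (hβL : ∀ x, (((β ^ L) x : Q) : Q ⧸ scalarSub π) = x) (x : Q) :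
    ((β x : Q) : Q ⧸ scalarSub π) = x := by
  classical
  by_cases hx : x ∈ scalarSub π
  · exact QuotientGroup.eq.2 (mul_mem (inv_mem ((T.intertwines.mem_scalarSub_iff x).2 hx)) hx)
  have hLI := S.F.linearIndependent_u c.comm c.cent
  let b := Basis.mk hLI S.F.span_out
  have hb : ∀ y : Q, ∃ a : k, a ≠ 0 ∧ S.F.u y = a • b (y : Q ⧸ scalarSub π) := fun y => by
    obtain ⟨a, ha⟩ := S.F.exists_smul_of_mk (x := y) (y := (y : Q ⧸ scalarSub π).out)
      (QuotientGroup.out_eq' _).symm
    refine ⟨a, fun h0 => ?_, by rw [ha]; exact congrArg (a • ·) (Basis.mk_apply hLI _ _).symm⟩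
    rw [h0, zero_smul] at ha
    exact FittingHeight.apply_ne_zero (π := π) y (by rw [← S.F.ι_u, ha, map_zero])
  set N := ∑ i ∈ range r, (S.ψ.toLinearMap ^ i) (S.F.u x) with hN
  have hψN : S.ψ N = N := by
    have := LinearMap.congr_fun (mul_normMap S.ψ.toLinearMap hpow) (S.F.u x)
    rw [Module.End.mul_apply, normMap, LinearMap.sum_apply] at this
    exact this
  have hNu : N = ∑ i ∈ range r, S.F.u ((c.α ^ i) x) := by
    rw [hN]; exact sum_congr rfl fun i _ => Twist.ψ_pow_u i x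
  have hfixN := hfix N hψN
  rw [hNu, map_sum] at hfixN
  simp only [T.φ_u] at hfixN
  choose a ha0 ha using hb
  by_contra hne
  -- `β x` is congruent to a translate of `x`
  obtain ⟨i, hi, hix⟩ : ∃ i, i < r ∧ ((β x : Q) : Q ⧸ scalarSub π) = ((c.α ^ i) x : Q) := by
    by_contra hno
    push Not at hno
    have h1 := congrArg (fun z => b.repr z ((β x : Q) : Q ⧸ scalarSub π)) hfixN
    simp only [ha, map_sum, map_smul, Basis.repr_self, Finsupp.finset_sum_apply,
      Finsupp.smul_apply, smul_eq_mul] at h1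
    rw [sum_eq_single 0, sum_eq_zero] at h1
    · rw [pow_zero, MulAut.one_apply, Finsupp.single_eq_same, mul_one] at h1
      exact ha0 _ h1
    · intro i hi
      rw [Finsupp.single_eq_of_ne (hno i (mem_range.1 hi)), mul_zero]
    · intro i hi hi0
      rw [Finsupp.single_eq_of_ne (fun h => ?_), mul_zero]
      have h' : ((x : Q) : Q ⧸ scalarSub π) = ((c.α ^ i) x : Q) := by
        have e : x⁻¹ * (c.α ^ i) x ∈ scalarSub π := by
          rw [← T.intertwines.mem_scalarSub_iff, map_mul, map_inv]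
          exact QuotientGroup.eq.1 h
        exact QuotientGroup.eq.2 e
      exact c.free hx (Nat.pos_of_ne_zero hi0) (mem_range.1 hi) (QuotientGroup.eq.1 h')
    · exact fun h => absurd (mem_range.2 c.hr.pos) h
  have hi0 : i ≠ 0 := fun h => hne (by rw [hix, h, pow_zero, MulAut.one_apply])
  have hiter : ∀ n, (((β ^ n) x : Q) : Q ⧸ scalarSub π) = ((c.α ^ (i * n)) x : Q) := by
    intro n
    induction n with
    | zero => rfl
    | succ n ih =>
      rw [pow_succ', MulAut.mul_apply]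
      refine (T.intertwines.congr ih).trans ?_
      refine (T.intertwines.mk_comm (c.intertwines.pow (i * n))
        (Commute.pow_right (show Commute B c.A from T.comm) _).eq x).trans ?_
      refine ((c.intertwines.pow (i * n)).congr hix).trans ?_
      rw [Nat.mul_succ, pow_add, MulAut.mul_apply]
  have h2 : (((c.α ^ (i * L)) x : Q) : Q ⧸ scalarSub π) = x := by rw [← hiter, hβL]
  rcases c.hr.dvd_mul.1 (c.dvd_of_mk_alpha_pow hx h2) with h | h
  · exact hi0 (Nat.eq_zero_of_dvd_of_lt h hi)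
  · exact hL h

end Cfsg.Agent.TurullHeight
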