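import Mathlib.FieldTheory.IsAlgClosed.Basic
import Mathlib.LinearAlgebra.Eigenspace.Triangularizable
import Mathlib.GroupTheory.Commutator.Basic
import Mathlib.Data.Fintype.Pi
import Mathlib.RingTheory.RootsOfUnity.Basic

/-!
# Weights of a group of nilpotency class two in coprime characteristic

`P` normal in `Γ`, `ρ` a representation of `Γ` in which the commutators of `P` are central in `P`.
The weight of an irreducible `P`-subspace is the function `Γ → k` giving the scalar by which an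
element of `P` acts on it, and `0` where there is none. Weight spaces of different weights are
independent and span; `Γ` permutes them.
-/

set_option autoImplicit false

namespace Cfsg.Agent.TurullHeight

open Finset
open scoped commutatorElement

variable {Γ : Type*} [Group Γ] {k : Type*} [Field k] {E : Type*} [AddCommGroup E] [Module k E]
  (ρ : Γ →* Module.End k E) (P : Subgroup Γ)

theorem rho_mul_apply (g h : Γ) (v : E) : ρ (g * h) v = ρ g (ρ h v) := by
  rw [map_mul, Module.End.mul_apply]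

theorem rho_inv_apply (g : Γ) (v : E) : ρ g⁻¹ (ρ g v) = v := by
  rw [← rho_mul_apply, inv_mul_cancel, map_one, Module.End.one_apply]

theorem rho_apply_inv (g : Γ) (v : E) : ρ g (ρ g⁻¹ v) = v := by
  rw [← rho_mul_apply, mul_inv_cancel, map_one, Module.End.one_apply]

/-- Invariance under `P`. -/
def PInv (S : Submodule k E) : Prop := ∀ x ∈ P, ∀ v ∈ S, ρ x v ∈ S

/-- An irreducible `P`-subspace. -/
def PIrr (S : Submodule k E) : Prop :=
  S ≠ ⊥ ∧ PInv ρ P S ∧ ∀ T ≤ S, PInv ρ P T → T ≠ ⊥ → T = S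

/-- The operator of `x` on `S` is the scalar `c`. -/
def ActsBy (S : Submodule k E) (x : Γ) (c : k) : Prop := ∀ v ∈ S, ρ x v = c • v

open scoped Classical in
/-- The scalars by which the elements of `P` act on `S`. -/
noncomputable def chOf (S : Submodule k E) (x : Γ) : k :=
  if h : x ∈ P ∧ ∃ c, ActsBy ρ S x c then h.2.choose else 0

/-- A weight. -/
def IsWt (f : Γ → k) : Prop := ∃ S, PIrr ρ P S ∧ chOf ρ P S = f

/-- The translate of a weight. -/
def tr (g : Γ) (f : Γ → k) : Γ → k := fun x => f (g⁻¹ * x * g)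

omit [Field k] in
theorem tr_tr (g h : Γ) (f : Γ → k) : tr g (tr h f) = tr (g * h) f :=
  funext fun x => congrArg f (by group)

omit [Field k] in
theorem tr_one (f : Γ → k) : tr (1 : Γ) f = f := funext fun x => congrArg f (by group)

/-- The weight space. -/
def wsp (f : Γ → k) : Submodule k E where
  carrier := {v | ∀ x, f x ≠ 0 → ρ x v = f x • v}
  add_mem' := fun {v w} hv hw x hx => by rw [map_add, hv x hx, hw x hx, smul_add]
  zero_mem' := fun x _ => by rw [map_zero, smul_zero]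
  smul_mem' := fun c v hv x hx => by rw [map_smul, hv x hx, smul_comm]

theorem mem_wsp {f : Γ → k} {v : E} : v ∈ wsp ρ f ↔ ∀ x, f x ≠ 0 → ρ x v = f x • v := Iff.rfl

variable {ρ P}

theorem rho_mem_wsp_tr {f : Γ → k} {v : E} (hv : v ∈ wsp ρ f) (g : Γ) :
    ρ g v ∈ wsp ρ (tr g f) := fun x hx => by
  have h := hv (g⁻¹ * x * g) hx
  rw [← rho_mul_apply, show x * g = g * (g⁻¹ * x * g) by group, rho_mul_apply, h, map_smul]
  rfl

theorem actsBy_unique {S : Submodule k E} (hS : S ≠ ⊥) {x : Γ} {a b : k} (ha : ActsBy ρ S x a)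
    (hb : ActsBy ρ S x b) : a = b := by
  obtain ⟨v, hv, hv0⟩ := (Submodule.ne_bot_iff S).1 hS
  exact smul_left_injective k hv0 ((ha v hv).symm.trans (hb v hv))

theorem chOf_eq {S : Submodule k E} (hS : S ≠ ⊥) {x : Γ} (hx : x ∈ P) {c : k}
    (h : ActsBy ρ S x c) : chOf ρ P S x = c := by
  have h' : x ∈ P ∧ ∃ c, ActsBy ρ S x c := ⟨hx, c, h⟩
  rw [chOf, dif_pos h']
  exact actsBy_unique hS h'.2.choose_spec h

theorem of_chOf_ne_zero {S : Submodule k E} {x : Γ} (h : chOf ρ P S x ≠ 0) :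
    x ∈ P ∧ ActsBy ρ S x (chOf ρ P S x) := by
  by_cases h' : x ∈ P ∧ ∃ c, ActsBy ρ S x c
  · rw [chOf, dif_pos h']
    exact ⟨h'.1, h'.2.choose_spec⟩
  · rw [chOf, dif_neg h'] at h
    exact absurd rfl h

theorem ne_zero_of_actsBy {S : Submodule k E} (hS : S ≠ ⊥) {x : Γ} {c : k}
    (h : ActsBy ρ S x c) : c ≠ 0 := by
  rintro rfl
  obtain ⟨v, hv, hv0⟩ := (Submodule.ne_bot_iff S).1 hS
  have h1 := h v hv
  rw [zero_smul] at h1
  exact hv0 (by rw [← rho_inv_apply ρ x v, h1, map_zero])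

/-- Functions determined by the same scalars agree. -/
theorem chOf_ext {S : Submodule k E} (hS : S ≠ ⊥) {f : Γ → k}
    (h1 : ∀ x, f x ≠ 0 → x ∈ P ∧ ActsBy ρ S x (f x))
    (h2 : ∀ x ∈ P, ∀ c, ActsBy ρ S x c → f x ≠ 0) : chOf ρ P S = f := by
  funext x
  by_cases hx : f x = 0
  · rw [hx]
    by_contra hne
    obtain ⟨hP, ha⟩ := of_chOf_ne_zero hne
    exact h2 x hP _ ha hx
  · exact chOf_eq hS (h1 x hx).1 (h1 x hx).2

variable (ρ P) in
/-- The standing hypothesis: commutators of `P` act centrally on the operators of `P`. -/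
def ClassTwo : Prop := ∀ x ∈ P, ∀ y ∈ P, ∀ z ∈ P, Commute (ρ ⁅x, y⁆) (ρ z)

theorem schur [IsAlgClosed k] [FiniteDimensional k E] {S : Submodule k E} (hS : PIrr ρ P S)
    (T : Module.End k E) (hT : ∀ v ∈ S, T v ∈ S)
    (hc : ∀ y ∈ P, ∀ v ∈ S, T (ρ y v) = ρ y (T v)) : ∃ c : k, ∀ v ∈ S, T v = c • v := by
  have : Nontrivial S := Submodule.nontrivial_iff_ne_bot.2 hS.1
  obtain ⟨c, hc'⟩ := Module.End.exists_eigenvalue (T.restrict hT)
  obtain ⟨w, hw⟩ := hc'.exists_hasEigenvector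
  refine ⟨c, fun v hv => ?_⟩
  let T' : Submodule k E := S ⊓ LinearMap.ker (T - c • 1)
  have hmem : ∀ u, u ∈ T' ↔ u ∈ S ∧ T u = c • u := fun u => by
    simp only [T', Submodule.mem_inf, LinearMap.mem_ker, LinearMap.sub_apply, LinearMap.smul_apply,
      Module.End.one_apply, sub_eq_zero]
  have hinv : PInv ρ P T' := fun x hx u hu => by
    rw [hmem] at hu ⊢
    exact ⟨hS.2.1 x hx u hu.1, by rw [hc x hx u hu.1, hu.2, map_smul]⟩
  have hne : T' ≠ ⊥ := (Submodule.ne_bot_iff _).2 ⟨w, (hmem _).2 ⟨w.2, by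
    have h := Module.End.mem_eigenspace_iff.1 hw.1
    exact congrArg Subtype.val h⟩, fun h => hw.2 (Subtype.ext h)⟩
  have := hS.2.2 T' inf_le_left hinv hne
  rw [← this] at hv
  exact ((hmem v).1 hv).2

theorem exists_irr_le [FiniteDimensional k E] : ∀ (n : ℕ) (T : Submodule k E),
    Module.finrank k T ≤ n → PInv ρ P T → T ≠ ⊥ → ∃ S ≤ T, PIrr ρ P S := by
  intro n
  induction n with
  | zero => exact fun T h _ hT => absurd (Submodule.finrank_eq_zero.1 (Nat.le_zero.1 h)) hT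
  | succ n ih =>
    intro T hn hinv hT
    by_cases h : ∀ U ≤ T, PInv ρ P U → U ≠ ⊥ → U = T
    · exact ⟨T, le_rfl, hT, hinv, h⟩
    push Not at h
    obtain ⟨U, hU, hUinv, hU0, hUT⟩ := h
    obtain ⟨S, hS, hirr⟩ := ih U (by
      have := Submodule.finrank_lt_finrank_of_lt (lt_of_le_of_ne hU hUT)
      omega) hUinv hU0
    exact ⟨S, hS.trans hU, hirr⟩

theorem exists_irr [FiniteDimensional k E] {T : Submodule k E} (hinv : PInv ρ P T) (hT : T ≠ ⊥) :
    ∃ S ≤ T, PIrr ρ P S := exists_irr_le _ T le_rfl hinv hT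

theorem pInv_inf {S T : Submodule k E} (hS : PInv ρ P S) (hT : PInv ρ P T) : PInv ρ P (S ⊓ T) :=
  fun x hx v hv => ⟨hS x hx v hv.1, hT x hx v hv.2⟩

variable [IsAlgClosed k] [FiniteDimensional k E]

theorem actsBy_commutator {S : Submodule k E} (hS : PIrr ρ P S) {x y : Γ} {c : k}
    (hy : y ∈ P) (h : ActsBy ρ S x c) : ActsBy ρ S ⁅x, y⁆ 1 := fun v hv => by
  have hc := ne_zero_of_actsBy hS.1 h
  have hinv : ∀ u ∈ S, ρ x⁻¹ u = c⁻¹ • u := fun u hu => by
    conv_rhs => rw [← rho_inv_apply ρ x u, h u hu, map_smul, smul_smul, inv_mul_cancel₀ hc, one_smul]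
  have hyv : ρ y⁻¹ v ∈ S := hS.2.1 _ (inv_mem hy) v hv
  rw [commutatorElement_def, rho_mul_apply, rho_mul_apply, rho_mul_apply, hinv _ hyv, map_smul,
    rho_apply_inv, map_smul, h v hv, smul_smul, inv_mul_cancel₀ hc]

theorem chOf_comm (h2 : ClassTwo ρ P) {S : Submodule k E} (hS : PIrr ρ P S) {x y : Γ} (hx : x ∈ P)
    (hy : y ∈ P) : chOf ρ P S ⁅x, y⁆ ≠ 0 := by
  have hP : ⁅x, y⁆ ∈ P := by
    rw [commutatorElement_def]
    exact mul_mem (mul_mem (mul_mem hx hy) (inv_mem hx)) (inv_mem hy)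
  obtain ⟨c, hc⟩ := schur hS (ρ ⁅x, y⁆) (hS.2.1 _ hP)
    (fun z hz v _ => LinearMap.congr_fun (h2 x hx y hy z hz).eq v)
  rw [chOf_eq hS.1 hP hc]
  exact ne_zero_of_actsBy hS.1 hc

namespace IsWt

variable {f : Γ → k} (hf : IsWt ρ P f)

include hf

theorem mem_of_ne_zero {x : Γ} (hx : f x ≠ 0) : x ∈ P := by
  obtain ⟨S, -, rfl⟩ := hf
  exact (of_chOf_ne_zero hx).1

theorem map_one : f 1 = 1 := by
  obtain ⟨S, hS, rfl⟩ := hf
  exact chOf_eq hS.1 (one_mem P) fun v _ => by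
    rw [_root_.map_one, Module.End.one_apply, one_smul]

theorem map_inv {x : Γ} (hx : f x ≠ 0) : f x⁻¹ = (f x)⁻¹ := by
  obtain ⟨S, hS, rfl⟩ := hf
  obtain ⟨hP, ha⟩ := of_chOf_ne_zero hx
  refine chOf_eq hS.1 (inv_mem hP) fun v hv => ?_
  conv_rhs => rw [← rho_inv_apply ρ x v, ha v hv, map_smul, smul_smul, inv_mul_cancel₀ hx, one_smul]

theorem map_mul {x : Γ} (hx : f x ≠ 0) (y : Γ) : f (x * y) = f x * f y := by
  obtain ⟨S, hS, rfl⟩ := hf
  obtain ⟨hP, ha⟩ := of_chOf_ne_zero hx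
  by_cases hy : chOf ρ P S y = 0
  · rw [hy, mul_zero]
    by_contra hne
    obtain ⟨hP', ha'⟩ := of_chOf_ne_zero hne
    have hyP : y ∈ P := by simpa using mul_mem (inv_mem hP) hP'
    refine absurd hy ?_
    rw [chOf_eq hS.1 hyP (c := (chOf ρ P S x)⁻¹ * chOf ρ P S (x * y)) fun v hv => ?_]
    · exact mul_ne_zero (inv_ne_zero hx) hne
    · have h1 := ha' v hv
      rw [rho_mul_apply, ha (ρ y v) (hS.2.1 y hyP v hv)] at h1
      rw [← smul_smul, ← h1, smul_smul, inv_mul_cancel₀ hx, one_smul]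
  · obtain ⟨hyP, hb⟩ := of_chOf_ne_zero hy
    exact chOf_eq hS.1 (mul_mem hP hyP) fun v hv => by
      rw [rho_mul_apply, hb v hv, map_smul, ha v hv, smul_smul, mul_comm]

/-- A weight is constant on classes of `P`. -/
theorem map_conj [hn : P.Normal] {g : Γ} (hg : g ∈ P) (x : Γ) : f (g * x * g⁻¹) = f x := by
  obtain ⟨S, hS, rfl⟩ := hf
  have key : ∀ g ∈ P, ∀ x, chOf ρ P S x ≠ 0 → chOf ρ P S (g * x * g⁻¹) = chOf ρ P S x := by
    intro g hg x hx
    obtain ⟨hP, ha⟩ := of_chOf_ne_zero hx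
    refine chOf_eq hS.1 (hn.conj_mem x hP g) fun v hv => ?_
    rw [rho_mul_apply, rho_mul_apply, ha _ (hS.2.1 _ (inv_mem hg) v hv), map_smul, rho_apply_inv]
  by_cases hx : chOf ρ P S x = 0
  · by_contra hne
    have h' : chOf ρ P S (g * x * g⁻¹) ≠ 0 := fun h0 => hne (h0.trans hx.symm)
    have h1 := key g⁻¹ (inv_mem hg) _ h'
    rw [show g⁻¹ * (g * x * g⁻¹) * g⁻¹⁻¹ = x by group] at h1
    exact hne h1.symm
  · exact key g hg x hx

theorem comm_ne_zero (h2 : ClassTwo ρ P) {x y : Γ} (hx : x ∈ P) (hy : y ∈ P) : f ⁅x, y⁆ ≠ 0 := by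
  obtain ⟨S, hS, rfl⟩ := hf
  exact chOf_comm h2 hS hx hy

/-- The elements acting by scalars are those central modulo the kernel. -/
theorem ne_zero_iff {x : Γ} : f x ≠ 0 ↔ x ∈ P ∧ ∀ y ∈ P, f ⁅x, y⁆ = 1 := by
  obtain ⟨S, hS, rfl⟩ := hf
  refine ⟨fun hx => ?_, fun ⟨hP, hc⟩ => ?_⟩
  · obtain ⟨hP, ha⟩ := of_chOf_ne_zero hx
    refine ⟨hP, fun y hy => chOf_eq hS.1 ?_ (actsBy_commutator hS hy ha)⟩
    rw [commutatorElement_def]
    exact mul_mem (mul_mem (mul_mem hP hy) (inv_mem hP)) (inv_mem hy)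
  · obtain ⟨c, hcs⟩ := schur hS (ρ x) (hS.2.1 x hP) (fun y hy v hv => by
      obtain ⟨-, ha⟩ := of_chOf_ne_zero (x := ⁅x, y⁆) (S := S) (P := P) (ρ := ρ)
        (by rw [hc y hy]; exact one_ne_zero)
      rw [hc y hy] at ha
      have h1 := ha (ρ y (ρ x v)) (hS.2.1 _ hy _ (hS.2.1 _ hP _ hv))
      rw [one_smul, commutatorElement_def, rho_mul_apply, rho_inv_apply, rho_mul_apply,
        rho_inv_apply, rho_mul_apply] at h1
      exact h1)
    rw [chOf_eq hS.1 hP hcs]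
    exact ne_zero_of_actsBy hS.1 hcs

/-- Translates are weights. -/
theorem translate [hn : P.Normal] (g : Γ) : IsWt ρ P (tr g f) := by
  obtain ⟨S, hS, rfl⟩ := hf
  let S' : Submodule k E := S.map (ρ g)
  have hinj : Function.Injective (ρ g) := fun u v h => by
    rw [← rho_inv_apply ρ g u, h, rho_inv_apply]
  have hinvS : ∀ T : Submodule k E, PInv ρ P T → PInv ρ P (T.map (ρ g)) := by
    rintro T hT x hx _ ⟨v, hv, rfl⟩
    refine ⟨ρ (g⁻¹ * x * g) v, hT _ ?_ v hv, ?_⟩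
    · simpa using hn.conj_mem x hx g⁻¹
    · rw [← rho_mul_apply, ← rho_mul_apply]; congr 2; group
  have hne : S' ≠ ⊥ := fun h => hS.1 (by
    rw [eq_bot_iff]
    intro v hv
    have : ρ g v ∈ S' := ⟨v, hv, rfl⟩
    rw [h, Submodule.mem_bot] at this
    exact (Submodule.mem_bot k).2 (hinj (this.trans (map_zero _).symm)))
  refine ⟨S', ⟨hne, hinvS S hS.2.1, fun T hTS hT hT0 => ?_⟩, chOf_ext hne (fun x hx => ?_)
    fun x hx c hc => ?_⟩
  · have h1 : (T.map (ρ g⁻¹)).map (ρ g) = T := by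
      rw [← Submodule.map_comp]
      convert Submodule.map_id T using 2
      exact LinearMap.ext (rho_apply_inv ρ g)
    have h2 : T.map (ρ g⁻¹) = S := by
      refine hS.2.2 _ ?_ ?_ ?_
      · rintro _ ⟨v, hv, rfl⟩
        obtain ⟨u, hu, rfl⟩ := hTS hv
        rwa [rho_inv_apply]
      · rintro x hx _ ⟨v, hv, rfl⟩
        refine ⟨ρ (g * x * g⁻¹) v, hT _ (hn.conj_mem x hx g) v hv, ?_⟩
        rw [← rho_mul_apply, ← rho_mul_apply]; congr 2; group
      · intro h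
        exact hT0 (by rw [← h1, h, Submodule.map_bot])
    rw [← h1, h2]
  · obtain ⟨hP, ha⟩ := of_chOf_ne_zero hx
    refine ⟨by simpa [mul_assoc] using hn.conj_mem _ hP g, ?_⟩
    rintro _ ⟨v, hv, rfl⟩
    rw [← rho_mul_apply, show x * g = g * (g⁻¹ * x * g) by group, rho_mul_apply, ha v hv, map_smul]
    rfl
  · show chOf ρ P S (g⁻¹ * x * g) ≠ 0
    have hP : g⁻¹ * x * g ∈ P := by simpa using hn.conj_mem x hx g⁻¹
    have h : ActsBy ρ S (g⁻¹ * x * g) c := fun v hv => hinj (by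
      rw [map_smul, ← hc (ρ g v) ⟨v, hv, rfl⟩, ← rho_mul_apply, ← rho_mul_apply]
      congr 2; group)
    rw [chOf_eq hS.1 hP h]
    exact ne_zero_of_actsBy hS.1 h

theorem wsp_ne_bot : wsp ρ f ≠ ⊥ := by
  obtain ⟨S, hS, rfl⟩ := hf
  exact fun h => hS.1 (eq_bot_iff.2 (h ▸ fun v hv x hx => (of_chOf_ne_zero hx).2 v hv))

theorem wsp_pInv [P.Normal] : PInv ρ P (wsp ρ f) := fun y hy v hv => by
  have h := rho_mem_wsp_tr hv y
  rwa [show tr y f = f from funext fun x => by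
    have := hf.map_conj (inv_mem hy) x
    rwa [inv_inv] at this] at h

/-- A non-zero invariant part of the weight space has the same kernel. -/
theorem eq_one_of_fix (h2 : ClassTwo ρ P) {T : Submodule k E} (hT : T ≤ wsp ρ f)
    (hinv : PInv ρ P T) (hT0 : T ≠ ⊥) {x : Γ} (hx : x ∈ P) (hfix : ∀ v ∈ T, ρ x v = v) :
    f x = 1 := by
  obtain ⟨v, hv, hv0⟩ := (Submodule.ne_bot_iff T).1 hT0
  have key : ∀ z, f z ≠ 0 → ρ z v = v → f z = 1 := fun z hz he =>
    smul_left_injective k hv0 (((hT hv z hz).symm.trans he).trans (one_smul k v).symm)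
  refine key x ?_ (hfix v hv)
  rw [hf.ne_zero_iff]
  refine ⟨hx, fun y hy => key _ (hf.comm_ne_zero h2 hx hy) ?_⟩
  have hfix' : ∀ u ∈ T, ρ x⁻¹ u = u := fun u hu => by
    conv_lhs => rw [← hfix u hu, rho_inv_apply]
  rw [commutatorElement_def, rho_mul_apply, rho_mul_apply, rho_mul_apply,
    hfix' _ (hinv _ (inv_mem hy) v hv), rho_apply_inv, hfix v hv]

/-- An irreducible subspace of the weight space has this weight. -/
theorem chOf_of_le (h2 : ClassTwo ρ P) {T : Submodule k E} (hT : PIrr ρ P T) (hle : T ≤ wsp ρ f) :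
    chOf ρ P T = f := by
  refine chOf_ext hT.1 (fun x hx => ⟨hf.mem_of_ne_zero hx, fun v hv => hle hv x hx⟩)
    fun x hx c hc => ?_
  rw [hf.ne_zero_iff]
  refine ⟨hx, fun y hy => hf.eq_one_of_fix h2 hle hT.2.1 hT.1 ?_ fun v hv => ?_⟩
  · rw [commutatorElement_def]
    exact mul_mem (mul_mem (mul_mem hx hy) (inv_mem hx)) (inv_mem hy)
  · rw [actsBy_commutator hT hy hc v hv, one_smul]

theorem eq_of_inf_ne_bot [P.Normal] (h2 : ClassTwo ρ P) {f' : Γ → k} (hf' : IsWt ρ P f')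
    (h : wsp ρ f ⊓ wsp ρ f' ≠ ⊥) : f = f' := by
  obtain ⟨S, hS, hirr⟩ := exists_irr (pInv_inf hf.wsp_pInv hf'.wsp_pInv) h
  rw [← hf.chOf_of_le h2 hirr (hS.trans inf_le_left), hf'.chOf_of_le h2 hirr (hS.trans inf_le_right)]

end IsWt

variable [Finite Γ]

variable (ρ) in
/-- The projection on a weight space. -/
noncomputable def proj (f : Γ → k) : Module.End k E :=
  letI := Fintype.ofFinite Γ
  (Nat.card {x : Γ // f x ≠ 0} : k)⁻¹ • ∑ z : Γ, (f z)⁻¹ • ρ z

theorem card_ne_zero {f : Γ → k} (hf : IsWt ρ P f) (hP : (Nat.card P : k) ≠ 0) :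
    (Nat.card {x : Γ // f x ≠ 0} : k) ≠ 0 := by
  let Z : Subgroup Γ :=
    { carrier := {x | f x ≠ 0}
      one_mem' := by show f 1 ≠ 0; rw [hf.map_one]; exact one_ne_zero
      mul_mem' := fun {x y} hx hy => by show f (x * y) ≠ 0; rw [hf.map_mul hx]; exact mul_ne_zero hx hy
      inv_mem' := fun {x} hx => by show f x⁻¹ ≠ 0; rw [hf.map_inv hx]; exact inv_ne_zero hx }
  obtain ⟨c, hc⟩ := Subgroup.card_dvd_of_le (show Z ≤ P from fun x hx => hf.mem_of_ne_zero hx)
  intro h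
  rw [hc, Nat.cast_mul, show (Nat.card Z : k) = 0 from h, zero_mul] at hP
  exact hP rfl

theorem proj_apply_of_mem {f : Γ → k} (hf : IsWt ρ P f) (hP : (Nat.card P : k) ≠ 0) {v : E}
    (hv : v ∈ wsp ρ f) : proj ρ f v = v := by
  classical
  let _ := Fintype.ofFinite Γ
  show ((Nat.card {x : Γ // f x ≠ 0} : k)⁻¹ • ∑ z : Γ, (f z)⁻¹ • ρ z) v = v
  rw [LinearMap.smul_apply, LinearMap.sum_apply]
  have : ∀ z : Γ, ((f z)⁻¹ • ρ z) v = if f z ≠ 0 then v else 0 := fun z => by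
    rw [LinearMap.smul_apply]
    split_ifs with h
    · rw [hv z h, smul_smul, inv_mul_cancel₀ h, one_smul]
    · rw [not_not] at h; rw [h, inv_zero, zero_smul]
  rw [sum_congr rfl fun z _ => this z, ← sum_filter, sum_const, ← Nat.cast_smul_eq_nsmul k,
    smul_smul, ← Fintype.card_subtype, ← Nat.card_eq_fintype_card,
    inv_mul_cancel₀ (card_ne_zero hf hP), one_smul]

theorem proj_mem {f : Γ → k} (hf : IsWt ρ P f) (v : E) : proj ρ f v ∈ wsp ρ f := by
  classical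
  let _ := Fintype.ofFinite Γ
  intro x hx
  show ρ x (((Nat.card {x : Γ // f x ≠ 0} : k)⁻¹ • ∑ z : Γ, (f z)⁻¹ • ρ z) v) = _
  rw [LinearMap.smul_apply, LinearMap.sum_apply, map_smul, map_sum]
  show _ = f x • ((Nat.card {x : Γ // f x ≠ 0} : k)⁻¹ • ∑ z : Γ, (f z)⁻¹ • ρ z) v
  rw [LinearMap.smul_apply, LinearMap.sum_apply, smul_comm (f x), smul_sum (r := f x)]
  congr 1
  rw [← Equiv.sum_comp (Equiv.mulLeft x) fun z => f x • ((f z)⁻¹ • ρ z) v]
  refine sum_congr rfl fun z _ => ?_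
  rw [Equiv.coe_mulLeft, LinearMap.smul_apply, map_smul, LinearMap.smul_apply, hf.map_mul hx,
    smul_smul, mul_inv, ← mul_assoc, mul_inv_cancel₀ hx, one_mul, rho_mul_apply]

theorem proj_commute [P.Normal] {f : Γ → k} (hf : IsWt ρ P f) {g : Γ} (hg : g ∈ P) :
    Commute (ρ g) (proj ρ f) := by
  classical
  let _ := Fintype.ofFinite Γ
  refine Commute.smul_right ?_ _
  show _ * _ = _ * _
  rw [mul_sum, sum_mul, ← Equiv.sum_comp (MulAut.conj g).toEquiv fun z => (f z)⁻¹ • ρ z * ρ g]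
  refine sum_congr rfl fun z _ => ?_
  show ρ g * ((f z)⁻¹ • ρ z) = (f (g * z * g⁻¹))⁻¹ • ρ (g * z * g⁻¹) * ρ g
  rw [hf.map_conj hg, mul_smul_comm, smul_mul_assoc, ← map_mul, ← map_mul, inv_mul_cancel_right]

/-- The projection kills the other weight spaces. -/
theorem proj_apply_of_ne [P.Normal] (h2 : ClassTwo ρ P) {f f' : Γ → k} (hf : IsWt ρ P f)
    (hf' : IsWt ρ P f') (hne : f ≠ f') {v : E} (hv : v ∈ wsp ρ f') : proj ρ f v = 0 := by
  by_contra h
  let T : Submodule k E := (wsp ρ f').map (proj ρ f)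
  have hTinv : PInv ρ P T := by
    rintro x hx _ ⟨u, hu, rfl⟩
    exact ⟨ρ x u, hf'.wsp_pInv x hx u hu, (LinearMap.congr_fun (proj_commute hf hx).eq u).symm⟩
  have hTle : T ≤ wsp ρ f := by rintro _ ⟨u, -, rfl⟩; exact proj_mem hf u
  have hTle' : T ≤ wsp ρ f' := by
    rintro _ ⟨u, hu, rfl⟩ x hx
    rw [← Module.End.mul_apply, (proj_commute hf (hf'.mem_of_ne_zero hx)).eq, Module.End.mul_apply,
      hu x hx, map_smul]
  refine hne (hf.eq_of_inf_ne_bot h2 hf' ?_)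
  intro hbot
  have : proj ρ f v ∈ wsp ρ f ⊓ wsp ρ f' := ⟨hTle ⟨v, hv, rfl⟩, hTle' ⟨v, hv, rfl⟩⟩
  rw [hbot, Submodule.mem_bot] at this
  exact h this

omit [IsAlgClosed k] [FiniteDimensional k E] in
theorem finite_wts : {f : Γ → k | IsWt ρ P f}.Finite := by
  classical
  let _ := Fintype.ofFinite Γ
  refine (Set.Finite.pi fun _ : Γ => Set.Finite.insert (0 : k)
    (Polynomial.nthRootsFinset (Nat.card Γ) (1 : k)).finite_toSet).subset ?_
  rintro _ ⟨S, hS, rfl⟩ x -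
  rw [Set.mem_insert_iff]
  by_cases h : chOf ρ P S x = 0
  · exact Or.inl h
  refine Or.inr ?_
  obtain ⟨hP, ha⟩ := of_chOf_ne_zero h
  obtain ⟨v, hv, hv0⟩ := (Submodule.ne_bot_iff S).1 hS.1
  have hn : ∀ n : ℕ, ρ (x ^ n) v = chOf ρ P S x ^ n • v := by
    intro n
    induction n with
    | zero => rw [pow_zero, pow_zero, map_one, Module.End.one_apply, one_smul]
    | succ n ih => rw [pow_succ', rho_mul_apply, ih, map_smul, ha v hv, smul_smul, pow_succ]
  have h1 := hn (Nat.card Γ)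
  rw [pow_card_eq_one', map_one, Module.End.one_apply] at h1
  rw [Finset.mem_coe, Polynomial.mem_nthRootsFinset Nat.card_pos]
  exact smul_left_injective k hv0 (h1.symm.trans (one_smul k v).symm)

/-- The weights. -/
noncomputable def wts : Finset (Γ → k) := (finite_wts (ρ := ρ) (P := P)).toFinset

theorem mem_wts {f : Γ → k} : f ∈ wts (ρ := ρ) (P := P) ↔ IsWt ρ P f := Set.Finite.mem_toFinset _

/-- The weight spaces span. -/
theorem sum_proj [P.Normal] (h2 : ClassTwo ρ P) (hP : (Nat.card P : k) ≠ 0) (v : E) :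
    ∑ f ∈ wts (ρ := ρ) (P := P), proj ρ f v = v := by
  classical
  let T : Submodule k E :=
    ⨅ f ∈ wts (ρ := ρ) (P := P), LinearMap.ker (proj ρ f)
  have hT : T = ⊥ := by
    by_contra h
    obtain ⟨S, hS, hirr⟩ := exists_irr (ρ := ρ) (P := P) (T := T) (fun x hx u hu => by
      simp only [T, Submodule.mem_iInf, LinearMap.mem_ker] at hu ⊢
      intro f hf
      rw [← Module.End.mul_apply, ← (proj_commute (mem_wts.1 hf) hx).eq, Module.End.mul_apply,
        hu f hf, map_zero]) h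
    obtain ⟨u, hu, hu0⟩ := (Submodule.ne_bot_iff S).1 hirr.1
    have hf : IsWt ρ P (chOf ρ P S) := ⟨S, hirr, rfl⟩
    have h1 := hS hu
    simp only [T, Submodule.mem_iInf, LinearMap.mem_ker] at h1
    refine hu0 ((proj_apply_of_mem hf hP ?_).symm.trans (h1 _ (mem_wts.2 hf)))
    exact fun x hx => (of_chOf_ne_zero hx).2 u hu
  have : v - ∑ f ∈ wts (ρ := ρ) (P := P), proj ρ f v ∈ T := by
    simp only [T, Submodule.mem_iInf, LinearMap.mem_ker]
    intro g hg
    rw [map_sub, map_sum, sum_eq_single g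
      (fun f hf hne => proj_apply_of_ne h2 (mem_wts.1 hg) (mem_wts.1 hf) (Ne.symm hne)
        (proj_mem (mem_wts.1 hf) v)) (fun h => absurd hg h),
      proj_apply_of_mem (mem_wts.1 hg) hP (proj_mem (mem_wts.1 hg) v), sub_self]
  rw [hT, Submodule.mem_bot, sub_eq_zero] at this
  exact this.symm

/-- Weight vectors of different weights are independent. -/
theorem eq_zero_of_sum [P.Normal] (h2 : ClassTwo ρ P) (hP : (Nat.card P : k) ≠ 0)
    {ι : Type*} (s : Finset ι) (f : ι → Γ → k) (hf : ∀ i ∈ s, IsWt ρ P (f i))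
    (hinj : Set.InjOn f s) (v : ι → E) (hv : ∀ i ∈ s, v i ∈ wsp ρ (f i))
    (hsum : ∑ i ∈ s, v i = 0) : ∀ i ∈ s, v i = 0 := by
  classical
  intro i hi
  have h := congrArg (proj ρ (f i)) hsum
  rw [map_sum, map_zero, sum_eq_single i (fun j hj hne => proj_apply_of_ne h2 (hf i hi) (hf j hj)
    (fun he => hne (hinj hj hi he.symm)) (hv j hj)) (fun h => absurd hi h),
    proj_apply_of_mem (hf i hi) hP (hv i hi)] at h
  exact h

/-- An element in all kernels acts trivially. -/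
theorem rho_eq_one [P.Normal] (h2 : ClassTwo ρ P) (hP : (Nat.card P : k) ≠ 0) {x : Γ}
    (h : ∀ f, IsWt ρ P f → f x = 1) : ρ x = 1 := by
  refine LinearMap.ext fun v => ?_
  conv_lhs => rw [← sum_proj h2 hP v, map_sum]
  rw [Module.End.one_apply]
  conv_rhs => rw [← sum_proj h2 hP v]
  refine sum_congr rfl fun f hf => ?_
  rw [proj_mem (mem_wts.1 hf) v x (by rw [h f (mem_wts.1 hf)]; exact one_ne_zero),
    h f (mem_wts.1 hf), one_smul]

end Cfsg.Agent.TurullHeight
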