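import Cfsg.Agent.Lib.TurullHeight.Core

/-!
# The weight space of a fixed weight

Consequences of the multiplicity dichotomy for a weight fixed by `a`, on whose orthogonal subgroup
`a` acts non-trivially modulo the kernel.
-/

set_option autoImplicit false

namespace Cfsg.Agent.TurullHeight

open Finset
open FittingHeight (scalarSub)
open scoped commutatorElement

variable {Γ : Type*} [Group Γ] {k : Type*} [Field k] {E : Type*} [AddCommGroup E] [Module k E]
  [IsAlgClosed k] [FiniteDimensional k E] {ρ : Γ →* Module.End k E} {P : Subgroup Γ} {a : Γ}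
  {r p : ℕ} {f : Γ → k}

/-- The centre of a weight. -/
def zSub (hf : IsWt ρ P f) : Subgroup Γ where
  carrier := {x | f x ≠ 0}
  one_mem' := by show f 1 ≠ 0; rw [hf.map_one]; exact one_ne_zero
  mul_mem' := fun {x y} hx hy => by show f (x * y) ≠ 0; rw [hf.map_mul hx]; exact mul_ne_zero hx hy
  inv_mem' := fun {x} hx => by show f x⁻¹ ≠ 0; rw [hf.map_inv hx]; exact inv_ne_zero hx

theorem mem_zSub (hf : IsWt ρ P f) {x : Γ} : x ∈ zSub hf ↔ f x ≠ 0 := Iff.rfl

/-- An element fixing the weight as an invertible operator on the weight space. -/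
def resUnit {g : Γ} (hg : tr g f = f) : (Module.End k (wsp ρ f))ˣ where
  val := (ρ g).restrict fun _ hv => wsp_inv_of_tr hg hv
  inv := (ρ g⁻¹).restrict fun _ hv => wsp_inv_of_tr (show tr g⁻¹ f = f by
    conv_lhs => rw [← hg, tr_tr, inv_mul_cancel, tr_one]) hv
  val_inv := LinearMap.ext fun v => Subtype.ext (rho_apply_inv ρ g v)
  inv_val := LinearMap.ext fun v => Subtype.ext (rho_inv_apply ρ g v)

theorem resUnit_apply {g : Γ} (hg : tr g f = f) (v : wsp ρ f) :
    (((resUnit (ρ := ρ) hg : Module.End k (wsp ρ f)) v : wsp ρ f) : E) = ρ g v := rfl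

theorem resUnit_pow_apply {g : Γ} (hg : tr g f = f) (n : ℕ) (v : wsp ρ f) :
    ((((resUnit (ρ := ρ) hg ^ n : (Module.End k (wsp ρ f))ˣ) : Module.End k (wsp ρ f)) v :
      wsp ρ f) : E) = ρ (g ^ n) v := by
  induction n with
  | zero => rw [pow_zero, pow_zero, map_one]; rfl
  | succ n ih =>
    rw [pow_succ', pow_succ', Units.val_mul, Module.End.mul_apply, resUnit_apply, ih, rho_mul_apply]

section

variable [Finite Γ] (hd : ActData ρ P a r p) (hf : IsWt ρ P f) (ha : tr a f = f)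

include hd hf

/-- The operators of the orthogonal subgroup on the weight space. -/
def wspHom : orth hd hf →* Module.End k (wsp ρ f) where
  toFun x := (ρ (x : Γ)).restrict fun v hv =>
    (hd.normal |> fun h => @IsWt.wsp_pInv _ _ _ _ _ _ _ _ _ _ _ _ hf h) x x.2.1 v hv
  map_one' := LinearMap.ext fun v => Subtype.ext (by
    show ρ ((1 : orth hd hf) : Γ) v = v
    rw [Subgroup.coe_one, map_one, Module.End.one_apply])
  map_mul' := fun x y => LinearMap.ext fun v => Subtype.ext (rho_mul_apply ρ (x : Γ) y v)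

theorem wspHom_apply (x : orth hd hf) (v : wsp ρ f) :
    ((wspHom hd hf x v : wsp ρ f) : E) = ρ (x : Γ) v := rfl

theorem mem_scalar_iff (x : orth hd hf) : x ∈ scalarSub (wspHom hd hf) ↔ f x ≠ 0 := by
  have := hd.normal
  constructor
  · rintro ⟨c, hc⟩
    obtain ⟨S, hS, hirr⟩ := exists_irr hf.wsp_pInv hf.wsp_ne_bot
    have hact : ActsBy ρ S (x : Γ) c := fun v hv =>
      congrArg Subtype.val (LinearMap.congr_fun hc ⟨v, hS hv⟩)
    have hfx : f x = c :=
      (congrFun (hf.chOf_of_le hd.classTwo hirr hS) x).symm.trans (chOf_eq hirr.1 x.2.1 hact)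
    rw [hfx]
    exact ne_zero_of_actsBy hirr.1 hact
  · intro hx
    exact ⟨f x, LinearMap.ext fun v => Subtype.ext (v.2 x hx)⟩

theorem wsp_nontrivial : Nontrivial (wsp ρ f) :=
  Submodule.nontrivial_iff_ne_bot.2 hf.wsp_ne_bot

include ha

/-- Conjugation by an element fixing the weight and commuting with `a`, on the orthogonal
subgroup. -/
noncomputable def orthAut {g : Γ} (hg : tr g f = f) (hga : Commute g a) : MulAut (orth hd hf) :=
  (((MulAut.conj g).subgroupMap (orth hd hf))).trans (MulEquiv.subgroupCongr (by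
    refine Subgroup.eq_of_le_of_card_ge ?_ ?_
    · rintro _ ⟨x, hx, rfl⟩
      exact conj_mem_orth hd hf ha hg hga hx
    · exact le_of_eq (Nat.card_congr
        ((orth hd hf).equivMapOfInjective _ (MulAut.conj g).injective).toEquiv)))

theorem orthAut_coe {g : Γ} (hg : tr g f = f) (hga : Commute g a) (x : orth hd hf) :
    ((orthAut hd hf ha hg hga x : orth hd hf) : Γ) = g * x * g⁻¹ := rfl

theorem orthAut_pow_coe {g : Γ} (hg : tr g f = f) (hga : Commute g a) (n : ℕ) (x : orth hd hf) :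
    (((orthAut hd hf ha hg hga ^ n) x : orth hd hf) : Γ) = g ^ n * x * (g ^ n)⁻¹ := by
  induction n with
  | zero => simp
  | succ n ih => rw [pow_succ', MulAut.mul_apply, orthAut_coe, ih, pow_succ']; group

theorem orthAut_intertwines {g : Γ} (hg : tr g f = f) (hga : Commute g a) :
    Intertwines (wspHom hd hf) (resUnit hg) (orthAut hd hf ha hg hga) := fun x =>
  LinearMap.ext fun v => Subtype.ext (by
    rw [Module.End.mul_apply, Module.End.mul_apply, resUnit_apply, wspHom_apply, wspHom_apply,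
      resUnit_apply, orthAut_coe, ← rho_mul_apply, ← rho_mul_apply]
    congr 2
    group)

/-- The setup of the weight space. -/
noncomputable def wspSetup : Setup (wspHom hd hf) r where
  comm x y := ⟨f ⁅(x : Γ), y⁆, LinearMap.ext fun v => Subtype.ext (by
    have := hd.normal
    show ρ (x : Γ) (ρ (y : Γ) v) = f ⁅(x : Γ), y⁆ • ρ (y : Γ) (ρ (x : Γ) v)
    rw [← (hf.wsp_pInv _ y.2.1 _ (hf.wsp_pInv _ x.2.1 _ v.2)) _
      (hf.comm_ne_zero hd.classTwo x.2.1 y.2.1), ← rho_mul_apply, ← rho_mul_apply, ← rho_mul_apply]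
    congr 2
    simp only [commutatorElement_def]
    group)⟩
  cent x hx := by
    have := hd.normal
    rw [mem_scalar_iff]
    refine ne_zero_of_pair hd hf ha x.2 fun q hq => ?_
    refine hf.eq_one_of_fix hd.classTwo le_rfl hf.wsp_pInv hf.wsp_ne_bot
      (commutator_mem x.2.1 hq.1) fun v hv => ?_
    have hv' : ρ (q⁻¹) v ∈ wsp ρ f := hf.wsp_pInv _ (inv_mem hq.1) v hv
    have hv'' : ρ (x : Γ)⁻¹ (ρ q⁻¹ v) ∈ wsp ρ f := hf.wsp_pInv _ (inv_mem x.2.1) _ hv'
    have h := congrArg Subtype.val (LinearMap.congr_fun (hx ⟨q, hq⟩) ⟨_, hv''⟩)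
    simp only [Module.End.mul_apply, wspHom_apply] at h
    rw [commutatorElement_def, rho_mul_apply, rho_mul_apply, rho_mul_apply, h, rho_apply_inv,
      rho_apply_inv]
  A := resUnit ha
  α := orthAut hd hf ha ha (Commute.refl a)
  intertwines := orthAut_intertwines hd hf ha ha (Commute.refl a)
  hr := hd.hr
  A_pow := Units.ext (LinearMap.ext fun v => Subtype.ext (by
    rw [resUnit_pow_apply, hd.a_pow, map_one]; rfl))
  r_ne := hd.r_ne
  fpf x hx := by
    rw [mem_scalar_iff] at hx ⊢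
    refine ne_zero_of_orth_fix hd hf ha x.2 ⟨x.2.1, ?_⟩
    exact hx

theorem exists_not_scalar (hN : ∃ g ∈ P, f (dif a g) ≠ 1) :
    ∃ x, x ∉ scalarSub (wspHom hd hf) := by
  obtain ⟨g, hg, h⟩ := hN
  exact ⟨⟨dif a g, dif_mem_orth hd hf ha hg⟩, fun hs => h (map_dif_eq_one hd hf ha hg
    ((mem_scalar_iff hd hf _).1 hs))⟩

theorem exp_scalar (x : orth hd hf) : x ^ p ∈ scalarSub (wspHom hd hf) := by
  rw [mem_scalar_iff, SubgroupClass.coe_pow]
  exact map_pow_p hd hf x.2.1

variable (hN : ∃ g ∈ P, f (dif a g) ≠ 1)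

include hN

/-- Without fixed vectors: `p = 2` and the index of the centre is `(r - 1) ^ 2`. -/
theorem no_fixed (hnf : ∀ v ∈ wsp ρ f, ρ a v = v → v = 0) :
    p = 2 ∧ (zSub hf).relIndex (orth hd hf) = (r - 1) ^ 2 := by
  have := wsp_nontrivial hd hf
  have hne := exists_not_scalar hd hf ha hN
  have h := (wspSetup hd hf ha).index_of_no_fixed hne fun v hv =>
    Subtype.ext (hnf v v.2 (congrArg Subtype.val hv))
  have heq : (zSub hf).subgroupOf (orth hd hf) = scalarSub (wspHom hd hf) := by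
    ext x
    rw [Subgroup.mem_subgroupOf, mem_zSub, mem_scalar_iff]
  refine ⟨?_, by rw [Subgroup.relIndex, heq, h]⟩
  obtain ⟨n, hn⟩ := (wspSetup hd hf ha).exists_index_eq hd.hp (exp_scalar hd hf ha)
  rw [h] at hn
  have hr2 : r ≠ 2 := by
    rintro rfl
    obtain ⟨x, hx⟩ := hne
    rw [show (2 - 1) ^ 2 = 1 by norm_num, Subgroup.index_eq_one] at h
    exact hx (h ▸ Subgroup.mem_top x)
  have h2 : 2 ∣ p ^ n := by
    rw [← hn]
    exact dvd_pow (hd.hr.odd_of_ne_two hr2 |>.elim fun j hj => ⟨j, by omega⟩) two_ne_zero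
  exact ((Nat.prime_dvd_prime_iff_eq Nat.prime_two hd.hp).1 (Nat.prime_two.dvd_of_dvd_pow h2)).symm

/-- Without fixed vectors an element commuting with `a`, of order prime to `r`, is trivial. -/
theorem trivial_of_no_fixed (hnf : ∀ v ∈ wsp ρ f, ρ a v = v → v = 0) {g : Γ} (hg : tr g f = f)
    (hga : Commute g a) (hgr : ¬ r ∣ orderOf g) {x : Γ} (hx : x ∈ orth hd hf) :
    f (x⁻¹ * (g * x * g⁻¹)) ≠ 0 := by
  have := wsp_nontrivial hd hf
  have h := (wspSetup hd hf ha).mk_eq_of_no_fixed (exists_not_scalar hd hf ha hN)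
    (fun v hv => Subtype.ext (hnf v v.2 (congrArg Subtype.val hv)))
    (orthAut_intertwines hd hf ha hg hga) (Units.ext (LinearMap.ext fun v => Subtype.ext (by
      show ρ g (ρ a v) = ρ a (ρ g v)
      rw [← rho_mul_apply, ← rho_mul_apply, hga.eq]))) hgr (fun y => by
        rw [show (orthAut hd hf ha hg hga ^ orderOf g) y = y from Subtype.ext (by
          rw [orthAut_pow_coe, pow_orderOf_eq_one, one_mul, inv_one, mul_one])]) ⟨x, hx⟩
  exact (mem_scalar_iff hd hf _).1 (QuotientGroup.eq.1 h.symm)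

/-- An element fixing the fixed vectors of prime power order moves nothing or inverts. -/
theorem trivial_or_inv {v₀ : E} (hv₀ : v₀ ∈ wsp ρ f) (hav₀ : ρ a v₀ = v₀) (hv₀' : v₀ ≠ 0)
    {g : Γ} (hg : tr g f = f) (hga : Commute g a)
    (hfix : ∀ v ∈ wsp ρ f, ρ a v = v → ρ g v = v) {s e : ℕ} (hs : s.Prime) (hsr : s ≠ r)
    (hsp : s ≠ p) (hge : g ^ (s ^ e) = 1) :
    (∀ x ∈ orth hd hf, f (x⁻¹ * (g * x * g⁻¹)) ≠ 0) ∨
      (s = 2 ∧ ∀ x ∈ orth hd hf, f (x * (g * x * g⁻¹)) ≠ 0) := by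
  have := wsp_nontrivial hd hf
  have h := (wspSetup hd hf ha).eq_or_inv hd.hp (exp_scalar hd hf ha)
    (orthAut_intertwines hd hf ha hg hga) (Units.ext (LinearMap.ext fun v => Subtype.ext (by
      show ρ g (ρ a v) = ρ a (ρ g v)
      rw [← rho_mul_apply, ← rho_mul_apply, hga.eq])))
    (fun v hv => Subtype.ext (hfix v v.2 (congrArg Subtype.val hv)))
    (x₀ := ⟨v₀, hv₀⟩) (Subtype.ext hav₀) (fun h0 => hv₀' (congrArg Subtype.val h0)) hs hsr hsp
    (e := e) (fun y => by
      rw [show (orthAut hd hf ha hg hga ^ (s ^ e)) y = y from Subtype.ext (by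
        rw [orthAut_pow_coe, hge, one_mul, inv_one, mul_one])])
  rcases h with h | ⟨h2, h⟩
  · exact Or.inl fun x hx => (mem_scalar_iff hd hf _).1 (QuotientGroup.eq.1 (h ⟨x, hx⟩).symm)
  · exact Or.inr ⟨h2, fun x hx => (mem_scalar_iff hd hf _).1 (h ⟨x, hx⟩)⟩

/-- The fixed vectors are few. -/
theorem fixed_bound : ∃ m t n, m * m = p ^ n ∧ 2 ≤ m ∧ m ≤ Module.finrank k (wsp ρ f) ∧
    ((m = r * t + 1 ∧ Module.finrank k (wsp ρ f ⊓ LinearMap.ker (ρ a - 1) : Submodule k E) * m ≤
        (t + 1) * Module.finrank k (wsp ρ f)) ∨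
      (m + 1 = r * t ∧ Module.finrank k (wsp ρ f ⊓ LinearMap.ker (ρ a - 1) : Submodule k E) * m ≤
        t * Module.finrank k (wsp ρ f))) := by
  have := wsp_nontrivial hd hf
  obtain ⟨m, t, hi, hmW, h⟩ := (wspSetup hd hf ha).exists_fixed_bound
  obtain ⟨n, hn⟩ := (wspSetup hd hf ha).exists_index_eq hd.hp (exp_scalar hd hf ha)
  refine ⟨m, t, n, hi.symm.trans hn, ?_, hmW, ?_⟩
  · by_contra hm
    obtain ⟨x, hx⟩ := exists_not_scalar hd hf ha hN
    have : m * m ≤ 1 := by
      have : m ≤ 1 := by omega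
      exact Nat.mul_le_mul this this
    have h1 : (scalarSub (wspHom hd hf)).index = 1 := by
      have := Nat.pos_of_ne_zero (Subgroup.index_ne_zero_of_finite (H := scalarSub (wspHom hd hf)))
      omega
    rw [Subgroup.index_eq_one] at h1
    exact hx (h1 ▸ Subgroup.mem_top x)
  · have hker : Module.finrank k (wsp ρ f ⊓ LinearMap.ker (ρ a - 1) : Submodule k E) =
        Module.finrank k (LinearMap.ker
          (((wspSetup hd hf ha).A : Module.End k (wsp ρ f)) - 1)) := by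
      have e : wsp ρ f ⊓ LinearMap.ker (ρ a - 1) = Submodule.map (wsp ρ f).subtype
          (LinearMap.ker (((wspSetup hd hf ha).A : Module.End k (wsp ρ f)) - 1)) := by
        ext v
        simp only [Submodule.mem_inf, Submodule.mem_map, LinearMap.mem_ker, LinearMap.sub_apply,
          Module.End.one_apply, sub_eq_zero]
        exact ⟨fun ⟨hv, h⟩ => ⟨⟨v, hv⟩, Subtype.ext h, rfl⟩,
          fun ⟨w, hw, e⟩ => e ▸ ⟨w.2, congrArg Subtype.val hw⟩⟩
      rw [e, Submodule.finrank_map_subtype_eq]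
    rwa [hker]

omit hN in
/-- An element of `P` fixed by `a` outside the centre moves a fixed vector. -/
theorem exists_moved {x : Γ} (hx : x ∈ P) (hxa : Commute x a) (hx0 : f x = 0) {v₀ : E}
    (hv₀ : v₀ ∈ wsp ρ f) (hav₀ : ρ a v₀ = v₀) (hv₀' : v₀ ≠ 0) :
    ∃ v ∈ wsp ρ f, ρ a v = v ∧ ρ x v ≠ v := by
  have := hd.normal
  by_contra hcon
  push Not at hcon
  obtain ⟨y, hy, hxy⟩ : ∃ y ∈ P, f ⁅x, y⁆ ≠ 1 := by
    by_contra h
    push Not at h
    exact (hf.ne_zero_iff).2 ⟨hx, h⟩ hx0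
  obtain ⟨c, q, hc, hq, rfl⟩ := exists_fix_mul hd hf ha hy
  have hxfix : IsFix a P f x := ⟨hx, by
    rw [dif, show a * x * a⁻¹ = x by rw [← hxa.eq, mul_inv_cancel_right], inv_mul_cancel, hf.map_one]
    exact one_ne_zero⟩
  have hxq : f ⁅x, q⁆ = 1 := by rw [pair_symm hd hf hq.1 hx, hq.2 x hxfix, inv_one]
  rw [pair_mul_right hd hf hx hc.1 hq.1, hxq, mul_one] at hxy
  -- `c` commutes with `a` on the weight space
  have hcv : ρ a (ρ c v₀) = ρ c v₀ := by
    have hz : dif a c ∈ P := dif_mem hd hc.1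
    rw [← rho_mul_apply, show a * c = c * dif a c * a by rw [dif]; group, rho_mul_apply, hav₀,
      rho_mul_apply, hv₀ _ hc.2, map_dif_eq_one hd hf ha hc.1 hc.2, one_smul]
  have hmem : ρ c v₀ ∈ wsp ρ f := hf.wsp_pInv c hc.1 v₀ hv₀
  have h1 := hcon _ hmem hcv
  rw [← rho_mul_apply, show x * c = ⁅x, c⁆ * (c * x) by simp only [commutatorElement_def]; group,
    rho_mul_apply, rho_mul_apply, hcon _ hv₀ hav₀,
    hmem _ (hf.comm_ne_zero hd.classTwo hx hc.1)] at h1
  have h2 : f ⁅x, c⁆ • ρ c v₀ = (1 : k) • ρ c v₀ := by rw [one_smul]; exact h1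
  have hne : ρ c v₀ ≠ 0 := fun h => hv₀' (by rw [← rho_inv_apply ρ c v₀, h, map_zero])
  exact hxy (smul_left_injective k hne h2)

end

end Cfsg.Agent.TurullHeight
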